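import Cfsg.Agent.Lib.SUFour96.Ctx
import Cfsg.Agent.Lib.Subspaces.UnitaryGen
import Cfsg.Agent.Lib.SubfieldMax.Mem

/-!
From rational skew-Hermitian spaces to subfield groups in `SU₄(q)`.
-/

set_option autoImplicit false

namespace Cfsg.Agent.Lib.SUFour96

open Matrix Cfsg.Agent.Lib.Subspaces.Transvection Cfsg.Agent.Lib.Subspaces.FormVec
  Cfsg.Agent.Lib.Subspaces.UnitaryForm Cfsg.Agent.Lib.Subspaces.UnitaryGen
  Cfsg.Agent.Lib.SubfieldMax.Linear Cfsg.Agent.Lib.SubfieldMax.RatLin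
  Cfsg.Agent.Lib.SubfieldMax.Form Cfsg.Agent.Lib.SubfieldMax.SkewBasic

variable {F : Type*} [Field F] [Fintype F] {q : ℕ}

/-- The form `ζ f` pulled back along `P`. -/
def skewPull (q : ℕ) (P : GL (Fin 4) F) (ζ : F) (u v : Fin 4 → F) : F :=
  ζ * Cfsg.hermForm 4 F q ((P : Matrix (Fin 4) (Fin 4) F) *ᵥ u) ((P : Matrix (Fin 4) (Fin 4) F) *ᵥ v)

theorem skewPull_isSkew (hF : Fintype.card F = q ^ 2) (P : GL (Fin 4) F) {ζ : F} (hζ0 : ζ ≠ 0)
    (hζ : powAut hF ζ = -ζ) : IsSkew (powAut hF) (skewPull q P ζ) := by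
  have hh := hermForm_isUnitary (n := 4) hF
  refine ⟨hh.involutive, fun x y v => ?_, fun c x v => ?_, fun v w => ?_, fun v hv => ?_⟩
  · simp only [skewPull, mulVec_add, hh.add_left, mul_add]
  · simp only [skewPull, mulVec_smul, hh.smul_left]; ring
  · simp only [skewPull, map_mul, hζ, ← hh.herm]; ring
  · have hv' : (P : Matrix (Fin 4) (Fin 4) F) *ᵥ v ≠ 0 :=
      fun e => hv (gl_mulVec_injective P (by simpa using e))
    obtain ⟨⟨x, hx⟩, ⟨y, hy⟩⟩ := hh.nondegenerate _ hv'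
    refine ⟨⟨((P⁻¹ : GL (Fin 4) F) : Matrix (Fin 4) (Fin 4) F) *ᵥ x, ?_⟩,
      ⟨((P⁻¹ : GL (Fin 4) F) : Matrix (Fin 4) (Fin 4) F) *ᵥ y, ?_⟩⟩
    · simp only [skewPull, gl_mulVec_inv]; exact mul_ne_zero hζ0 hx
    · simp only [skewPull, gl_mulVec_inv]; exact mul_ne_zero hζ0 hy

/-- Maximality, given the dichotomy for groups containing the rational transvections. -/
theorem bridge (hF : Fintype.card F = q ^ 2) (F₀ : Subfield F) {θ : F} (hθ : θ ∉ F₀) {ζ : F} (hζ0 : ζ ≠ 0)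
    (hζ : powAut hF ζ = -ζ) (P : GL (Fin 4) F) (hS : Space F₀ (powAut hF) (skewPull q P ζ))
    (core : ∀ M : Subgroup (GL (Fin 4) F), Ctx F₀ (powAut hF) (skewPull q P ζ) M →
      (∀ g ∈ M, RatUpTo F₀ g) ∨
        ∀ v, skewPull q P ζ v v = 0 → Full (powAut hF) (skewPull q P ζ) M v) :
    Cfsg.Geo.IsMaximalIn (Cfsg.GU 4 F q ⊓ Cfsg.Geo.specialLinear (Fin 4) F)
      (Cfsg.Geo.subfieldSubgroup F₀ P ⊓ (Cfsg.GU 4 F q ⊓ Cfsg.Geo.specialLinear (Fin 4) F)) := by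
  classical
  set σ := powAut hF
  set f := skewPull q P ζ
  have hh := hermForm_isUnitary (n := 4) hF
  have hf : IsSkew σ f := hS.form
  let c := (MulAut.conj P).toMonoidHom
  have hconj : ∀ (g : GL (Fin 4) F) (u : Fin 4 → F),
      ((c g : GL (Fin 4) F) : Matrix (Fin 4) (Fin 4) F) *ᵥ ((P : Matrix (Fin 4) (Fin 4) F) *ᵥ u) =
      (P : Matrix (Fin 4) (Fin 4) F) *ᵥ ((g : Matrix (Fin 4) (Fin 4) F) *ᵥ u) := by
    intro g u
    show ((P * g * P⁻¹ : GL (Fin 4) F) : Matrix (Fin 4) (Fin 4) F) *ᵥ _ = _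
    rw [gl_mul_mulVec, gl_mul_mulVec, gl_inv_mulVec]
  have hgu : ∀ g : GL (Fin 4) F, c g ∈ Cfsg.GU 4 F q ↔
      ∀ u v, f ((g : Matrix (Fin 4) (Fin 4) F) *ᵥ u) ((g : Matrix (Fin 4) (Fin 4) F) *ᵥ v) = f u v := by
    intro g
    rw [mem_GU_iff']
    constructor
    · intro h1 u v
      simp only [f, skewPull, ← hconj g]
      exact congrArg (ζ * ·) (h1 _ _)
    · intro h1 u v
      have := h1 (((P⁻¹ : GL (Fin 4) F) : Matrix (Fin 4) (Fin 4) F) *ᵥ u)
        (((P⁻¹ : GL (Fin 4) F) : Matrix (Fin 4) (Fin 4) F) *ᵥ v)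
      simp only [f, skewPull, ← hconj g, gl_mulVec_inv] at this
      exact mul_left_cancel₀ hζ0 this
  have hTsu : ∀ v a, f v v = 0 → σ a = a →
      c (tv v (a • formVec f v)) ∈ Cfsg.GU 4 F q ⊓ Cfsg.Geo.specialLinear (Fin 4) F := fun v a hv ha =>
    ⟨(hgu _).2 fun u w => hf.ut_isometry hv ha u w, (mem_specialLinear_iff _).2 (by
      show ((P * tv v (a • formVec f v) * P⁻¹ : GL (Fin 4) F) : Matrix (Fin 4) (Fin 4) F).det = 1
      rw [Units.val_mul, Units.val_mul, det_mul_right_comm, Units.mul_inv, one_mul]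
      exact (mem_specialLinear_iff _).1 (tv_mem_specialLinear _ _))⟩
  have hsub : ∀ g : GL (Fin 4) F, c g ∈ Cfsg.Geo.subfieldSubgroup F₀ P ↔ RatUpTo F₀ g := by
    intro g
    rw [Cfsg.Agent.Lib.SubfieldMax.Mem.mem_sub_iff]
    rw [show P⁻¹ * c g * P = g by show P⁻¹ * (P * g * P⁻¹) * P = g; group]
  obtain ⟨E⟩ := hS.nonempty_frame
  refine ⟨lt_of_le_not_ge inf_le_right ?_, fun M hHM hMK => ?_⟩
  · -- a transvection with an irrational centre
    set v := E.e₁ + θ • E.e₂ with hv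
    have hvv : f v v = 0 := by
      simp only [v, hf.add_left, hf.add_right, hf.smul_left, hf.smul_right, E.ee₁, E.ee₂, E.e12, E.e21 hf,
        mul_zero, add_zero]
    intro hle
    obtain ⟨d, hd, hent⟩ := (hsub _).1 (hle (hTsu v 1 hvv (map_one σ))).1
    have hvec : ∀ x, Rat F₀ x →
        Rat F₀ (d • (((tv v ((1 : F) • formVec f v) : GL (Fin 4) F) : Matrix (Fin 4) (Fin 4) F) *ᵥ x)) :=
      fun x hx i => by
        rw [Pi.smul_apply, smul_eq_mul, mulVec, dotProduct, Finset.mul_sum]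
        exact sum_mem fun j _ => by rw [← mul_assoc]; exact mul_mem (hent i j) (hx j)
    obtain ⟨n1, -⟩ := E.ne_zero hf
    have hdF : d ∈ F₀ := by
      have h1 := hvec E.e₁ E.re₁
      rw [hf.ut_mulVec hvv, hv, hf.add_right, hf.smul_right, E.ee₁, E.e12, mul_zero, add_zero, mul_zero,
        zero_smul, add_zero] at h1
      obtain ⟨i, hi⟩ := Function.ne_iff.1 n1
      simpa [mul_assoc, mul_inv_cancel₀ (show E.e₁ i ≠ 0 from hi)] using mul_mem (h1 i) (inv_mem (E.re₁ i))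
    have h2 := hvec E.f₁ E.rf₁
    rw [hf.ut_mulVec hvv, hv, hf.add_right, hf.smul_right, E.neg₁ hf, E.fe12 hf, mul_zero, add_zero, one_mul] at h2
    have h3 : Rat F₀ (((-1 : F) • E.e₁) + (-θ) • E.e₂) := by
      have h4 := (h2.smul (inv_mem hdF))
      rw [inv_smul_smul₀ hd] at h4
      have h5 := h4.sub E.rf₁
      rwa [add_sub_cancel_left, smul_add, smul_smul, neg_one_mul] at h5
    exact hθ (neg_mem_iff.1 (coeff_mem E.re₁ E.re₂ n1 (E.not_span hf) h3).2)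
  · by_cases hM : M ≤ Cfsg.Geo.subfieldSubgroup F₀ P
    · exact Or.inl (le_antisymm (le_inf hM hMK) hHM)
    refine Or.inr (le_antisymm hMK ?_)
    have C : Ctx F₀ σ f (M.comap c) := by
      refine ⟨hS, fun x hx => (hgu x).1 (hMK hx).1, fun v hv hvv a ha hσa => hHM ⟨(hsub _).2 ⟨1, one_ne_zero,
        fun i j => ?_⟩, hTsu v a hvv hσa⟩⟩
      rw [one_mul, coe_tv (hf.ut_dot hvv a), Matrix.add_apply, vecMulVec_apply]
      refine add_mem ?_ (mul_mem (hv i) (mul_mem ha (hS.rat_formVec hv j)))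
      by_cases hij : i = j
      · subst hij; rw [Matrix.one_apply_eq]; exact one_mem _
      · rw [Matrix.one_apply_ne hij]; exact zero_mem _
    rcases core _ C with hG | hG
    · exfalso
      obtain ⟨g, hgM, hgH⟩ := SetLike.not_le_iff_exists.1 hM
      obtain ⟨y, rfl⟩ : ∃ y, c y = g := (MulAut.conj P).surjective g
      exact hgH ((hsub y).2 (hG y hgM))
    refine su_le hF le_rfl fun v hv => ⟨hv, fun a ha => ?_⟩
    set u := ((P⁻¹ : GL (Fin 4) F) : Matrix (Fin 4) (Fin 4) F) *ᵥ v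
    have hu : (P : Matrix (Fin 4) (Fin 4) F) *ᵥ u = v := gl_mulVec_inv P v
    have huu : f u u = 0 := by simp only [f, skewPull, hu]; rw [hv, mul_zero]
    have hfix : σ (a / ζ) = a / ζ := by
      rw [map_div₀, hζ, eq_neg_of_add_eq_zero_right ha, neg_div_neg_eq]
    have hmem := (hG u huu).2 (a / ζ) hfix
    rw [Subgroup.mem_comap] at hmem
    have e : c (tv u ((a / ζ) • formVec f u)) = tv v (a • formVec (Cfsg.hermForm 4 F q) v) := by
      refine gl_ext fun x => ?_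
      obtain ⟨z, rfl⟩ : ∃ z, (P : Matrix (Fin 4) (Fin 4) F) *ᵥ z = x := ⟨_, gl_mulVec_inv P x⟩
      rw [hconj, hf.ut_mulVec huu, mulVec_add, mulVec_smul, hu, utv_mulVec hh hv]
      simp only [f, skewPull, hu]
      congr 2
      field_simp
    rwa [e] at hmem

end Cfsg.Agent.Lib.SUFour96
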