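import Cfsg.Agent.Lib.SUFour96.Frame

/-!
Groups of isometries containing rational transvections.
-/

set_option autoImplicit false

namespace Cfsg.Agent.Lib.SUFour96

open Matrix Cfsg.Agent.Lib.Subspaces.Transvection Cfsg.Agent.Lib.Subspaces.FormVec
  Cfsg.Agent.Lib.SubfieldMax.Linear Cfsg.Agent.Lib.SubfieldMax.RatLin
  Cfsg.Agent.Lib.SubfieldMax.Form Cfsg.Agent.Lib.SubfieldMax.SkewBasic

variable {F : Type*} [Field F]

local notation "V" => Fin 4 → F

/-- A group of isometries with the rational transvections. -/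
structure Ctx (F₀ : Subfield F) (σ : F ≃+* F) (f : (Fin 4 → F) → (Fin 4 → F) → F)
    (M : Subgroup (GL (Fin 4) F)) : Prop extends Space F₀ σ f where
  iso : ∀ g ∈ M, ∀ u v, f ((g : Matrix (Fin 4) (Fin 4) F) *ᵥ u) ((g : Matrix (Fin 4) (Fin 4) F) *ᵥ v) = f u v
  hT : ∀ v, Rat F₀ v → f v v = 0 → ∀ a ∈ F₀, σ a = a → tv v (a • formVec f v) ∈ M

/-- All transvections at a centre. -/
def Full (σ : F ≃+* F) (f : (Fin 4 → F) → (Fin 4 → F) → F) (M : Subgroup (GL (Fin 4) F))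
    (v : Fin 4 → F) : Prop :=
  f v v = 0 ∧ ∀ c, σ c = c → tv v (c • formVec f v) ∈ M

variable {F₀ : Subfield F} {σ : F ≃+* F} {f : (Fin 4 → F) → (Fin 4 → F) → F}
  {M : Subgroup (GL (Fin 4) F)}

theorem Full.conj (hf : IsSkew σ f) {v : V} (h : Full σ f M v) {g : GL (Fin 4) F} (hg : g ∈ M)
    (hiso : ∀ x y, f ((g : Matrix (Fin 4) (Fin 4) F) *ᵥ x) ((g : Matrix (Fin 4) (Fin 4) F) *ᵥ y) = f x y) :
    Full σ f M ((g : Matrix (Fin 4) (Fin 4) F) *ᵥ v) :=
  ⟨by rw [hiso, h.1], fun c hc => by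
    rw [← hf.ut_conj hiso h.1]
    exact M.mul_mem (M.mul_mem hg (h.2 c hc)) (M.inv_mem hg)⟩

theorem Full.smul (hf : IsSkew σ f) {v : V} (h : Full σ f M v) (t : F) : Full σ f M (t • v) := by
  have htv : f (t • v) (t • v) = 0 := by rw [hf.smul_left, hf.smul_right, h.1, mul_zero, mul_zero]
  refine ⟨htv, fun c hc => ?_⟩
  have e : tv (t • v) (c • formVec f (t • v)) = tv v ((c * (t * σ t)) • formVec f v) := gl_ext fun x => by
    rw [hf.ut_mulVec htv, hf.ut_mulVec h.1, hf.smul_right, smul_smul]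
    congr 2
    ring
  rw [e]
  exact h.2 _ (by rw [map_mul, map_mul, hf.invol, hc]; ring)

end Cfsg.Agent.Lib.SUFour96
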