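import Cfsg.Agent.Lib.SubfieldMax.SkewBasic
import Cfsg.Agent.Lib.SubfieldMax.Form

/-!
Four-dimensional skew-Hermitian spaces with a rational structure: hyperbolic rational frames.
-/

set_option autoImplicit false

namespace Cfsg.Agent.Lib.SUFour96

open Matrix Cfsg.Agent.Lib.Subspaces.Transvection Cfsg.Agent.Lib.Subspaces.FormVec
  Cfsg.Agent.Lib.SubfieldMax.Linear Cfsg.Agent.Lib.SubfieldMax.RatLin
  Cfsg.Agent.Lib.SubfieldMax.Form Cfsg.Agent.Lib.SubfieldMax.SkewBasic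

variable {F : Type*} [Field F]

/-- A rational skew-Hermitian space of dimension four. -/
structure Space (F₀ : Subfield F) (σ : F ≃+* F)
    (f : (Fin 4 → F) → (Fin 4 → F) → F) : Prop where
  form : IsSkew σ f
  stable : ∀ a ∈ F₀, σ a ∈ F₀
  rat : ∀ u v, Rat F₀ u → Rat F₀ v → f u v ∈ F₀
  adj : ∀ v, Rat F₀ v → ∃ t ∈ F₀, t - σ t = f v v
  mix : ∀ x y, Rat F₀ x → Rat F₀ y → f x x ≠ 0 → ∃ d ∈ F₀, d * σ d * f x x + f y y = 0

variable {F₀ : Subfield F} {σ : F ≃+* F} {f : (Fin 4 → F) → (Fin 4 → F) → F}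

/-- A rational hyperbolic frame. -/
structure Frame (F₀ : Subfield F) (f : (Fin 4 → F) → (Fin 4 → F) → F) where
  e₁ : Fin 4 → F
  e₂ : Fin 4 → F
  f₁ : Fin 4 → F
  f₂ : Fin 4 → F
  re₁ : Rat F₀ e₁
  re₂ : Rat F₀ e₂
  rf₁ : Rat F₀ f₁
  rf₂ : Rat F₀ f₂
  ee₁ : f e₁ e₁ = 0
  ee₂ : f e₂ e₂ = 0
  ff₁ : f f₁ f₁ = 0
  ff₂ : f f₂ f₂ = 0
  e12 : f e₁ e₂ = 0
  f12 : f f₁ f₂ = 0
  ef12 : f e₁ f₂ = 0
  ef21 : f e₂ f₁ = 0
  one₁ : f e₁ f₁ = 1
  one₂ : f e₂ f₂ = 1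

theorem rat_add {u v : Fin 4 → F} (hu : Rat F₀ u) (hv : Rat F₀ v) : Rat F₀ (u + v) :=
  fun i => add_mem (hu i) (hv i)

theorem rat_neg {u : Fin 4 → F} (hu : Rat F₀ u) : Rat F₀ (-u) := fun i => neg_mem (hu i)

/-- Coefficients of a rational combination of two independent rational vectors are rational. -/
theorem coeff_mem {r₁ r₂ : Fin 4 → F} (h₁ : Rat F₀ r₁) (h₂ : Rat F₀ r₂) (h0 : r₁ ≠ 0)
    (hind : r₂ ∉ Submodule.span F {r₁}) {x y : F} (h : Rat F₀ (x • r₁ + y • r₂)) : x ∈ F₀ ∧ y ∈ F₀ := by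
  obtain ⟨χ, hχ, hχ1, hχ2⟩ := exists_sep ![r₁] (fun i => by fin_cases i; exact h₁) h₂
    (by simpa [Matrix.range_cons] using hind)
  have hy : y ∈ F₀ := by
    have := hχ.dot h
    rwa [dotProduct_add, dotProduct_smul, dotProduct_smul, show χ ⬝ᵥ r₁ = 0 from hχ1 0, hχ2,
      smul_zero, zero_add, smul_eq_mul, mul_one] at this
  refine ⟨?_, hy⟩
  obtain ⟨i, hi⟩ := Function.ne_iff.1 h0
  have h' := mul_mem (sub_mem (h i) (mul_mem hy (h₂ i))) (inv_mem (h₁ i))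
  simpa [mul_assoc, mul_inv_cancel₀ (show r₁ i ≠ 0 from hi)] using h'

namespace Frame

section
variable (hf : IsSkew σ f) (E : Frame F₀ f)
include hf

theorem e21 : f E.e₂ E.e₁ = 0 := hf.swap_eq_zero E.e12
theorem f21 : f E.f₂ E.f₁ = 0 := hf.swap_eq_zero E.f12
theorem fe12 : f E.f₁ E.e₂ = 0 := hf.swap_eq_zero E.ef21
theorem fe21 : f E.f₂ E.e₁ = 0 := hf.swap_eq_zero E.ef12
theorem neg₁ : f E.f₁ E.e₁ = -1 := hf.swap_eq_one E.one₁
theorem neg₂ : f E.f₂ E.e₂ = -1 := hf.swap_eq_one E.one₂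

/-- Exchange the two hyperbolic pairs. -/
def swap : Frame F₀ f where
  e₁ := E.e₂
  e₂ := E.e₁
  f₁ := E.f₂
  f₂ := E.f₁
  re₁ := E.re₂
  re₂ := E.re₁
  rf₁ := E.rf₂
  rf₂ := E.rf₁
  ee₁ := E.ee₂
  ee₂ := E.ee₁
  ff₁ := E.ff₂
  ff₂ := E.ff₁
  e12 := E.e21 hf
  f12 := E.f21 hf
  ef12 := E.ef21
  ef21 := E.ef12
  one₁ := E.one₂
  one₂ := E.one₁

/-- Exchange `e₁` and `f₁`. -/
def flip : Frame F₀ f where
  e₁ := E.f₁
  e₂ := E.e₂
  f₁ := -E.e₁
  f₂ := E.f₂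
  re₁ := E.rf₁
  re₂ := E.re₂
  rf₁ := rat_neg E.re₁
  rf₂ := E.rf₂
  ee₁ := E.ff₁
  ee₂ := E.ee₂
  ff₁ := by rw [hf.neg_left, hf.neg_right, E.ee₁]; simp
  ff₂ := E.ff₂
  e12 := E.fe12 hf
  f12 := by rw [hf.neg_left, E.ef12, neg_zero]
  ef12 := E.f12
  ef21 := by rw [hf.neg_right, E.e21 hf, neg_zero]
  one₁ := by rw [hf.neg_right, E.neg₁ hf, neg_neg]
  one₂ := E.one₂

theorem independent : LinearIndependent F ![E.e₁, E.f₁, E.e₂, E.f₂] := by
  rw [Fintype.linearIndependent_iff]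
  intro c hc
  simp [Fin.sum_univ_four] at hc
  have h := fun y => congrArg (fun x => f x y) hc
  have h1 := h E.f₁
  have h2 := h E.e₁
  have h3 := h E.f₂
  have h4 := h E.e₂
  simp only [hf.add_left, hf.smul_left, hf.zero_left, E.one₁, E.ff₁, E.ef21, E.f21 hf, E.ee₁, E.neg₁ hf,
    E.e21 hf, E.fe21 hf, E.ef12, E.f12, E.one₂, E.ff₂, E.e12, E.fe12 hf, E.ee₂, E.neg₂ hf,
    mul_zero, mul_one, add_zero, zero_add, mul_neg, neg_eq_zero] at h1 h2 h3 h4
  intro i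
  fin_cases i
  exacts [h1, h2, h3, h4]

/-- Coordinates in a frame. -/
theorem coord (v : Fin 4 → F) :
    v = f v E.f₁ • E.e₁ - f v E.e₁ • E.f₁ + f v E.f₂ • E.e₂ - f v E.e₂ • E.f₂ := by
  have hsp := (E.independent hf).span_eq_top_of_card_eq_finrank (by simp)
  have hv : v ∈ Submodule.span F (Set.range ![E.e₁, E.f₁, E.e₂, E.f₂]) := hsp ▸ Submodule.mem_top
  obtain ⟨c, hc⟩ := (Submodule.mem_span_range_iff_exists_fun F).1 hv
  simp [Fin.sum_univ_four] at hc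
  subst hc
  simp only [hf.add_left, hf.smul_left, E.one₁, E.ff₁, E.ef21, E.f21 hf, E.ee₁, E.neg₁ hf,
    E.e21 hf, E.fe21 hf, E.ef12, E.f12, E.one₂, E.ff₂, E.e12, E.fe12 hf, E.ee₂, E.neg₂ hf,
    mul_zero, mul_one, add_zero, zero_add, mul_neg, neg_smul, sub_neg_eq_add]

theorem ne_zero : E.e₁ ≠ 0 ∧ E.f₁ ≠ 0 ∧ E.e₂ ≠ 0 ∧ E.f₂ ≠ 0 :=
  ⟨(E.independent hf).ne_zero 0, (E.independent hf).ne_zero 1, (E.independent hf).ne_zero 2,
    (E.independent hf).ne_zero 3⟩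

theorem not_span : E.e₂ ∉ Submodule.span F {E.e₁} := fun h => by
  obtain ⟨d, hd⟩ := Submodule.mem_span_singleton.1 h
  have := E.one₂
  rw [← hd, hf.smul_left, E.ef12, mul_zero] at this
  exact zero_ne_one this

end

end Frame

namespace Space

variable (S : Space F₀ σ f)
include S

theorem rat_formVec {v : Fin 4 → F} (hv : Rat F₀ v) : Rat F₀ (formVec f v) := fun i =>
  S.rat _ _ (Rat.single i (one_mem _)) hv

/-- A rational isotropic vector with prescribed products. -/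
theorem sep_iso [Finite F] {k : ℕ} (u : Fin k → Fin 4 → F) (hu : ∀ i, Rat F₀ (u i)) {s : Fin 4 → F}
    (hs : Rat F₀ s) (hns : s ∉ Submodule.span F (Set.range u)) (hss : f s s = 0) (hus : ∀ i, f s (u i) = 0) :
    ∃ y : Fin 4 → F, Rat F₀ y ∧ f y y = 0 ∧ (∀ i, f (u i) y = 0) ∧ f s y = 1 := by
  have hf := S.form
  obtain ⟨χ, hχ, hχu, hχs⟩ := exists_sep u hu hs hns
  obtain ⟨y, hy, rfl⟩ := exists_rat_formVec hf.hl hf.add_right hf.nondegenerate S.rat hχ
  have hsy : f s y = 1 := by rw [← hf.fv_dot]; exact hχs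
  have huy : ∀ i, f (u i) y = 0 := fun i => by rw [← hf.fv_dot]; exact hχu i
  obtain ⟨t, ht, htq⟩ := S.adj y hy
  refine ⟨y + (-t) • s, rat_add hy (hs.smul (neg_mem ht)), ?_, fun i => ?_, ?_⟩
  · simp only [hf.add_left, hf.add_right, hf.smul_left, hf.smul_right, hss, hsy, hf.swap_eq_one hsy, map_neg]
    linear_combination -htq
  · rw [hf.add_right, hf.smul_right, huy, hf.swap_eq_zero (hus i)]
    ring
  · rw [hf.add_right, hf.smul_right, hsy, hss]
    ring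

/-- A frame on two orthogonal independent isotropic vectors. -/
theorem exists_frame [Finite F] {v r : Fin 4 → F} (hv : Rat F₀ v) (hr : Rat F₀ r) (hv0 : v ≠ 0)
    (hvv : f v v = 0) (hrr : f r r = 0) (hvr : f v r = 0) (hind : r ∉ Submodule.span F {v}) :
    ∃ E : Frame F₀ f, E.e₁ = v ∧ E.e₂ = r := by
  have hf := S.form
  have hind' : v ∉ Submodule.span F (Set.range ![r]) := by
    rw [show Set.range ![r] = {r} by simp [Matrix.range_cons]]
    intro h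
    obtain ⟨d, hd⟩ := Submodule.mem_span_singleton.1 h
    have hd0 : d ≠ 0 := fun e => hv0 (by rw [← hd, e, zero_smul])
    exact hind (Submodule.mem_span_singleton.2 ⟨d⁻¹, by rw [← hd, inv_smul_smul₀ hd0]⟩)
  obtain ⟨y, hy, hyy, hyr, hvy⟩ := S.sep_iso ![r] (fun i => by fin_cases i; exact hr) hv hind' hvv
    (fun i => by fin_cases i; exact hvr)
  have hry : f r y = 0 := hyr 0
  have hr' : r ∉ Submodule.span F (Set.range ![v, y]) := by
    intro h
    rw [Matrix.range_cons_cons_empty, Submodule.mem_span_pair] at h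
    obtain ⟨a, b, hab⟩ := h
    have h1 : f r v = 0 := hf.swap_eq_zero hvr
    rw [← hab, hf.add_left, hf.smul_left, hf.smul_left, hvv, hf.swap_eq_one hvy, mul_zero, zero_add,
      mul_neg, mul_one, neg_eq_zero] at h1
    exact hind (Submodule.mem_span_singleton.2 ⟨a, by rw [← hab, h1, zero_smul, add_zero]⟩)
  obtain ⟨z, hz, hzz, hzo, hrz⟩ := S.sep_iso ![v, y] (fun i => by fin_cases i; exacts [hv, hy]) hr hr' hrr
    (fun i => by fin_cases i; exacts [hf.swap_eq_zero hvr, hry])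
  exact ⟨{ e₁ := v, e₂ := r, f₁ := y, f₂ := z, re₁ := hv, re₂ := hr, rf₁ := hy, rf₂ := hz, ee₁ := hvv, ee₂ := hrr,
           ff₁ := hyy, ff₂ := hzz, e12 := hvr, f12 := hzo 1, ef12 := hzo 0, ef21 := hry, one₁ := hvy,
           one₂ := hrz },
    rfl, rfl⟩

/-- A frame on a given isotropic vector. -/
theorem exists_frame_on [Finite F] {w : Fin 4 → F} (hw : Rat F₀ w) (hw0 : w ≠ 0) (hww : f w w = 0) :
    ∃ E : Frame F₀ f, E.e₁ = w := by
  have hf := S.form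
  obtain ⟨y, hy, hyy, -, hwy⟩ := S.sep_iso (k := 0) ![] (fun i => i.elim0) hw (by simpa using hw0) hww
    (fun i => i.elim0)
  have hdot : ∀ {x z : Fin 4 → F}, formVec f x ⬝ᵥ z = 0 → f z x = 0 := fun h => by rwa [hf.fv_dot] at h
  suffices h : ∃ r, Rat F₀ r ∧ r ≠ 0 ∧ f r r = 0 ∧ f r w = 0 ∧ f r y = 0 by
    obtain ⟨r, hr, hr0, hrr, hrw, hry⟩ := h
    obtain ⟨E, hE, -⟩ := S.exists_frame hw hr hw0 hww hrr (hf.swap_eq_zero hrw) (fun hm => by
      obtain ⟨d, hd⟩ := Submodule.mem_span_singleton.1 hm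
      rw [← hd, hf.smul_left, hwy, mul_one] at hry
      exact hr0 (by rw [← hd, hry, zero_smul]))
    exact ⟨E, hE⟩
  obtain ⟨x, hx, hx0, hxo⟩ := exists_orth_not_mem ![formVec f w, formVec f y]
    (fun i => by fin_cases i; exacts [S.rat_formVec hw, S.rat_formVec hy]) (![] : Fin 0 → Fin 4 → F)
    (fun i => i.elim0) (by simp)
  have hx0' : x ≠ 0 := by simpa using hx0
  by_cases hxx : f x x = 0
  · exact ⟨x, hx, hx0', hxx, hdot (hxo 0), hdot (hxo 1)⟩
  obtain ⟨z, hz, hz0, hzo⟩ := exists_orth_not_mem ![formVec f w, formVec f y, formVec f x]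
    (fun i => by fin_cases i; exacts [S.rat_formVec hw, S.rat_formVec hy, S.rat_formVec hx])
    (![] : Fin 0 → Fin 4 → F) (fun i => i.elim0) (by simp)
  have hz0' : z ≠ 0 := by simpa using hz0
  have hzx : f z x = 0 := hdot (hzo 2)
  by_cases hzz : f z z = 0
  · exact ⟨z, hz, hz0', hzz, hdot (hzo 0), hdot (hzo 1)⟩
  obtain ⟨d, hd, hdz⟩ := S.mix x z hx hz hxx
  refine ⟨z + d • x, rat_add hz (hx.smul hd), fun e => hzz ?_, ?_, ?_, ?_⟩
  · have h := congrArg (fun u => f u z) e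
    simpa [hf.add_left, hf.smul_left, hf.zero_left, hf.swap_eq_zero hzx] using h
  · simp only [hf.add_left, hf.add_right, hf.smul_left, hf.smul_right, hzx, hf.swap_eq_zero hzx]
    linear_combination hdz
  · rw [hf.add_left, hf.smul_left, hdot (hzo 0), hdot (hxo 0), mul_zero, add_zero]
  · rw [hf.add_left, hf.smul_left, hdot (hzo 1), hdot (hxo 1), mul_zero, add_zero]

/-- There is a frame. -/
theorem nonempty_frame [Finite F] : Nonempty (Frame F₀ f) := by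
  have hf := S.form
  suffices h : ∃ w, Rat F₀ w ∧ w ≠ 0 ∧ f w w = 0 by
    obtain ⟨w, hw, hw0, hww⟩ := h
    exact ⟨(S.exists_frame_on hw hw0 hww).choose⟩
  obtain ⟨x, hxdef⟩ : ∃ x : Fin 4 → F, x = Pi.single 0 1 := ⟨_, rfl⟩
  have hx : Rat F₀ x := hxdef ▸ Rat.single 0 (one_mem _)
  by_cases hxx : f x x = 0
  · exact ⟨x, hx, by simp [hxdef], hxx⟩
  obtain ⟨z, hz, hz0, hzo⟩ := exists_orth_not_mem ![formVec f x]
    (fun i => by fin_cases i; exact S.rat_formVec hx) (![] : Fin 0 → Fin 4 → F) (fun i => i.elim0) (by simp)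
  have hzx : f z x = 0 := by have := hzo 0; rwa [Matrix.cons_val_fin_one, hf.fv_dot] at this
  obtain ⟨d, hd, hdz⟩ := S.mix x z hx hz hxx
  refine ⟨z + d • x, rat_add hz (hx.smul hd), fun e => ?_, ?_⟩
  · have h := congrArg (fun u => f u x) e
    simp only [hf.add_left, hf.smul_left, hf.zero_left, hzx, zero_add] at h
    obtain rfl : d = 0 := (mul_eq_zero.1 h).resolve_right hxx
    simp only [zero_smul, add_zero] at e
    exact hz0 (by simp [e])
  · simp only [hf.add_left, hf.add_right, hf.smul_left, hf.smul_right, hzx, hf.swap_eq_zero hzx]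
    linear_combination hdz

/-- Preserving rational isotropic points forces rationality up to a scalar. -/
theorem ratUpTo_of_points [Finite F] {g : GL (Fin 4) F}
    (hg : ∀ v, Rat F₀ v → f v v = 0 → v ≠ 0 →
      ∃ l : F, l ≠ 0 ∧ Rat F₀ (l • ((g : Matrix (Fin 4) (Fin 4) F) *ᵥ v))) : RatUpTo F₀ g := by
  have hf := S.form
  obtain ⟨E⟩ := S.nonempty_frame
  have pair : ∀ (a b : Fin 4 → F) (la lb : F), Rat F₀ a → Rat F₀ b → f a a = 0 → f b b = 0 → f a b = 0 →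
      LinearIndependent F ![a, b] → la ≠ 0 → lb ≠ 0 →
      Rat F₀ (la • ((g : Matrix (Fin 4) (Fin 4) F) *ᵥ a)) →
      Rat F₀ (lb • ((g : Matrix (Fin 4) (Fin 4) F) *ᵥ b)) → la / lb ∈ F₀ := by
    intro a b la lb ha hb haa hbb hab hli hla hlb hra hrb
    have hz := LinearIndependent.pair_iff.1 hli
    have hne : ∀ s t : F, (s ≠ 0 ∨ t ≠ 0) → s • a + t • b ≠ 0 := fun s t h e =>
      h.elim (fun hs => hs (hz s t e).1) (fun ht => ht (hz s t e).2)
    obtain ⟨l, hl, hlr⟩ := hg (a + b) (rat_add ha hb)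
      (by simp [hf.add_left, hf.add_right, haa, hbb, hab, hf.swap_eq_zero hab])
      (by simpa using hne 1 1 (Or.inl one_ne_zero))
    obtain ⟨hx, hy⟩ := coeff_mem (x := l / la) (y := l / lb) hra hrb
      (smul_ne_zero hla fun e => hne 1 0 (Or.inl one_ne_zero)
        (by simpa using gl_mulVec_injective g (a₂ := 0) (by simpa using e)))
      (fun hm => by
        obtain ⟨d, hd⟩ := Submodule.mem_span_singleton.1 hm
        refine hne (d * la) (-lb) (Or.inr (neg_ne_zero.2 hlb)) (gl_mulVec_injective g ?_)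
        simp only [mulVec_add, mulVec_smul, mulVec_zero, ← smul_smul, neg_smul, mulVec_neg, hd, add_neg_cancel])
      (by rw [smul_smul, smul_smul, div_mul_cancel₀ l hla, div_mul_cancel₀ l hlb, ← smul_add, ← mulVec_add]
          exact hlr)
    have := div_mem hy hx
    rwa [show l / lb / (l / la) = la / lb by field_simp] at this
  obtain ⟨n1, n2, n3, n4⟩ := E.ne_zero hf
  obtain ⟨la, hla, hra⟩ := hg _ E.re₁ E.ee₁ n1
  obtain ⟨lb, hlb, hrb⟩ := hg _ E.re₂ E.ee₂ n3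
  obtain ⟨lc, hlc, hrc⟩ := hg _ E.rf₁ E.ff₁ n2
  obtain ⟨ld, hld, hrd⟩ := hg _ E.rf₂ E.ff₂ n4
  have hind : ∀ i j : Fin 4, i ≠ j →
      LinearIndependent F ![(![E.e₁, E.f₁, E.e₂, E.f₂] : Fin 4 → Fin 4 → F) i, ![E.e₁, E.f₁, E.e₂, E.f₂] j] :=
    fun i j hij => by
      have := (E.independent hf).comp ![i, j] (by
        intro x y h; fin_cases x <;> fin_cases y <;> simp_all [eq_comm])
      convert this using 1
      funext k; fin_cases k <;> rfl
  have hab := pair _ _ _ _ E.re₁ E.re₂ E.ee₁ E.ee₂ E.e12 (hind 0 2 (by decide)) hla hlb hra hrb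
  have had := pair _ _ _ _ E.re₁ E.rf₂ E.ee₁ E.ff₂ E.ef12 (hind 0 3 (by decide)) hla hld hra hrd
  have hcb := pair _ _ _ _ E.rf₁ E.re₂ E.ff₁ E.ee₂ (E.fe12 hf) (hind 1 2 (by decide)) hlc hlb hrc hrb
  have conv : ∀ {v : Fin 4 → F} {l : F}, l ≠ 0 → la / l ∈ F₀ →
      Rat F₀ (l • ((g : Matrix (Fin 4) (Fin 4) F) *ᵥ v)) →
      Rat F₀ (la • ((g : Matrix (Fin 4) (Fin 4) F) *ᵥ v)) := fun {v l} hl h hr => by
    have := hr.smul h
    rwa [smul_smul, div_mul_cancel₀ la hl] at this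
  have hac : la / lc ∈ F₀ := by
    have := div_mem hab hcb
    rwa [show la / lb / (lc / lb) = la / lc by field_simp] at this
  refine ⟨la, hla, fun i j => ?_⟩
  obtain ⟨x, hxdef⟩ : ∃ x : Fin 4 → F, x = Pi.single j 1 := ⟨_, rfl⟩
  have hx : Rat F₀ x := hxdef ▸ Rat.single j (one_mem _)
  have h : Rat F₀ (la • ((g : Matrix (Fin 4) (Fin 4) F) *ᵥ x)) := by
    rw [E.coord hf x]
    simp only [mulVec_sub, mulVec_add, mulVec_smul, smul_sub, smul_add, smul_comm la]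
    exact ((rat_add ((hra.smul (S.rat _ _ hx E.rf₁)).sub ((conv hlc hac hrc).smul (S.rat _ _ hx E.re₁)))
      ((conv hlb hab hrb).smul (S.rat _ _ hx E.rf₂))).sub ((conv hld had hrd).smul (S.rat _ _ hx E.re₂)))
  have := h i
  simpa [hxdef, Pi.smul_apply, mulVec_single_one] using this

end Space

end Cfsg.Agent.Lib.SUFour96
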