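import Cfsg.Agent.Lib.Subspaces.UnitarySplit

/-!
In `SU₄(q)` the stabiliser of a non-degenerate point is maximal.
-/

set_option autoImplicit false

namespace Cfsg.Agent.Lib.SUFour96

open Matrix Cfsg.Agent.Lib.Subspaces.Transvection Cfsg.Agent.Lib.Subspaces.FormVec
  Cfsg.Agent.Lib.Subspaces.UnitaryForm Cfsg.Agent.Lib.Subspaces.UnitaryGen
  Cfsg.Agent.Lib.Subspaces.UnitarySplit Cfsg.Agent.Lib.Unitary

variable {F : Type*} [Field F] [Fintype F] {q : ℕ}

/-- An element of `SU` fixing a norm one vector and moving one orthogonal vector to another. -/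
theorem exists_fix_move (hF : Fintype.card F = q ^ 2) {w u u' : Fin 4 → F}
    (hw : Cfsg.hermForm 4 F q w w = 1) (hu : u ∈ perp q (Submodule.span F {w}))
    (hu' : u' ∈ perp q (Submodule.span F {w})) (hu0 : u ≠ 0) (hu0' : u' ≠ 0)
    (hnz : Cfsg.hermForm 4 F q u' u' ≠ 0)
    (h : Cfsg.hermForm 4 F q u u = Cfsg.hermForm 4 F q u' u') :
    ∃ T : GL (Fin 4) F, T ∈ Cfsg.GU 4 F q ∧ T ∈ Cfsg.Geo.specialLinear (Fin 4) F ∧
      T.1 *ᵥ w = w ∧ T.1 *ᵥ u = u' := by
  classical
  have hf := hermForm_isUnitary (n := 4) hF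
  set W := Submodule.span F {w} with hWdef
  have hwW : w ∈ W := Submodule.mem_span_singleton_self w
  have hw0 : w ≠ 0 := fun e => by rw [e, zero_right hf] at hw; exact zero_ne_one hw
  have hW : Nondeg q W := fun x hx h => by
    obtain ⟨c, rfl⟩ := Submodule.mem_span_singleton.mp hx
    have := h w hwW
    rw [herm_smul_left, hw, mul_one] at this
    rw [this, zero_smul]
  have hWd : Module.finrank F W = 1 := finrank_span_singleton hw0
  have hUd : Module.finrank F (perp q W) = 3 := by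
    have := finrank_perp hF W; omega
  obtain ⟨T, hTG, hTS, hTU, hTu⟩ := exists_stab_move hF (nondeg_perp hF hW) (by omega) hu hu' hu0 hu0' h
  have hTw : T.1 *ᵥ w ∈ W := by
    rw [← perp_perp hF W]
    intro y hy
    have hy' := mem_subspaceStabilizer_iff.mp ((Cfsg.Geo.subspaceStabilizer (perp q W)).inv_mem hTU) y hy
    rw [← gl_mulVec_inv T y, mem_GU_iff'.mp hTG]
    exact swap_eq_zero hf (hy' w hwW)
  obtain ⟨lam, hlam⟩ := Submodule.mem_span_singleton.mp hTw
  have hl1 : lam * lam ^ q = 1 := by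
    have := mem_GU_iff'.mp hTG w w
    rw [← hlam, herm_smul_left, herm_smul_right, hw, mul_one] at this
    exact this
  -- a third direction
  obtain ⟨s, hs, hs1⟩ : ∃ s, s ∈ perp q (Submodule.span F {w, u'}) ∧ Cfsg.hermForm 4 F q s s = 1 := by
    set W2 := Submodule.span F {w, u'}
    have hwu : Cfsg.hermForm 4 F q w u' = 0 := swap_eq_zero hf (hu' w hwW)
    have hW2 : Nondeg q W2 := fun x hx h => by
      obtain ⟨a, b, rfl⟩ := Submodule.mem_span_pair.mp hx
      have h1 := h w (Submodule.subset_span (by simp))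
      have h2 := h u' (Submodule.subset_span (by simp))
      simp only [hf.add_left, herm_smul_left, hw, hu' w hwW, hwu, mul_zero, mul_one, add_zero, zero_add] at h1 h2
      rw [h1, (mul_eq_zero.1 h2).resolve_right hnz, zero_smul, zero_smul, add_zero]
    have hd : Module.finrank F W2 ≤ 2 := by
      have := finrank_range_le_card (R := F) ![w, u']
      rwa [Set.finrank, Matrix.range_cons_cons_empty, Fintype.card_fin] at this
    exact exists_norm_one_of_nondeg hF (nondeg_perp hF hW2) (fun e => by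
      have := finrank_perp hF W2
      rw [e, finrank_bot] at this
      omega)
  have hsw : Cfsg.hermForm 4 F q w s = 0 :=
    swap_eq_zero hf (hs w (Submodule.subset_span (by simp)))
  have hsu : Cfsg.hermForm 4 F q u' s = 0 :=
    swap_eq_zero hf (hs u' (Submodule.subset_span (by simp)))
  obtain ⟨A, hAd, hAw, hAf⟩ := exists_GU_scale hF hw (inv_norm_one hF hl1)
  obtain ⟨B, hBd, -, hBf⟩ := exists_GU_scale hF hs1 hl1
  have hl0 : lam ≠ 0 := fun e => by rw [e, zero_mul] at hl1; exact zero_ne_one hl1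
  refine ⟨(A : GL (Fin 4) F) * (B : GL (Fin 4) F) * T, mul_mem (mul_mem A.2 B.2) hTG, ?_, ?_, ?_⟩
  · rw [mem_specialLinear_iff, Units.val_mul, Units.val_mul, Matrix.det_mul, Matrix.det_mul, hAd, hBd,
      inv_mul_cancel₀ hl0, one_mul]
    exact (mem_specialLinear_iff _).1 hTS
  · rw [gl_mul_mulVec, gl_mul_mulVec, ← hlam, mulVec_smul, hBf w hsw, mulVec_smul, hAw, smul_smul,
      mul_inv_cancel₀ hl0, one_smul]
  · rw [gl_mul_mulVec, gl_mul_mulVec, hTu, hBf u' hsu, hAf u' (hu' w hwW)]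

/-- The stabiliser of a non-degenerate point is maximal in `SU₄(q)`. -/
theorem nondeg_maximal (q : ℕ) (hF : Fintype.card F = q ^ 2) (W : Submodule F (Fin 4 → F))
    (hW0 : W ≠ ⊥) (hW : Cfsg.Geo.IsNondegenerateOn (Cfsg.hermForm 4 F q) W)
    (hdim : 2 * Module.finrank F W < 4) :
    Cfsg.Geo.IsMaximalIn (Cfsg.GU 4 F q ⊓ Cfsg.Geo.specialLinear (Fin 4) F)
      (Cfsg.Geo.subspaceStabilizer W ⊓ (Cfsg.GU 4 F q ⊓ Cfsg.Geo.specialLinear (Fin 4) F)) := by
  classical
  have hf := hermForm_isUnitary (n := 4) hF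
  have hW' : Nondeg q W := fun u hu h => by
    by_contra hu0
    obtain ⟨-, x, hx, hne⟩ := hW u hu hu0
    exact hne (h x hx)
  obtain ⟨w, hwW, hw⟩ := exists_norm_one_of_nondeg hF hW' hW0
  have hw0 : w ≠ 0 := fun e => by rw [e, zero_right hf] at hw; exact zero_ne_one hw
  have hWs : Submodule.span F {w} = W := by
    refine Submodule.eq_of_le_of_finrank_le (Submodule.span_le.2 (by simpa using hwW)) ?_
    rw [finrank_span_singleton hw0]; omega
  subst hWs
  set U := perp q (Submodule.span F {w}) with hUdef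
  have hUd : Module.finrank F U = 3 := by
    have h1 := finrank_perp hF (Submodule.span F {w})
    rw [finrank_span_singleton hw0] at h1
    rw [hUdef]; omega
  obtain ⟨e, he0, he⟩ := exists_skew_scalar hf
  have hUne : U ≠ ⊥ := fun h => by rw [h, finrank_bot] at hUd; omega
  obtain ⟨u1, hu1, hu11⟩ := exists_norm_one_of_nondeg hF (nondeg_perp hF hW') hUne
  refine isMaximalIn_of inf_le_right ?_ ?_
  · obtain ⟨c, hc⟩ := norm_surjective hF (-1) (by rw [map_neg, map_one])
    have hwu : Cfsg.hermForm 4 F q w u1 = 0 := swap_eq_zero hf (hu1 w hwW)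
    have hv : Cfsg.hermForm 4 F q (w + c • u1) (w + c • u1) = 0 := by
      rw [expand_add_smul hf, hw, hu11, hu1 w hwW, mul_zero, map_zero, hc]; ring
    have hc0 : c ≠ 0 := fun h => by rw [h, zero_mul] at hc; simp at hc
    refine ⟨_, utv_mem_SU hF hv he, fun h => ?_⟩
    have h1 := mem_subspaceStabilizer_iff.mp h.1 w hwW
    rw [utv_mulVec hf hv, add_right hf, hw, smul_right hf, hwu, mul_zero, add_zero, mul_one] at h1
    obtain ⟨d, hd⟩ := Submodule.mem_span_singleton.mp h1
    have h2 := congrArg (fun x => Cfsg.hermForm 4 F q x u1) hd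
    simp only [herm_smul_left, hf.add_left, hwu, hu11, mul_zero, zero_add, mul_one] at h2
    exact mul_ne_zero he0 hc0 h2.symm
  intro M hHM hMK g hgM hgH
  have hMS : ∀ x ∈ M, ∀ u v, Cfsg.hermForm 4 F q ((x : Matrix _ _ F) *ᵥ u) ((x : Matrix _ _ F) *ᵥ v) =
      Cfsg.hermForm 4 F q u v := fun x hx => mem_GU_iff'.mp (hMK hx).1
  -- isotropic vectors of `U` are centres
  have hC0 : ∀ v ∈ U, Cfsg.hermForm 4 F q v v = 0 →
      UnitCenter (powAut hF) (Cfsg.hermForm 4 F q) M v := by
    intro v hvU hv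
    refine ⟨hv, fun a ha => hHM ⟨mem_subspaceStabilizer_iff.mpr fun x hx => ?_, utv_mem_SU hF hv ha⟩⟩
    rw [utv_mulVec hf hv, swap_eq_zero hf (hvU x hx), mul_zero, zero_smul, add_zero]
    exact hx
  have hgW : g ∉ Cfsg.Geo.subspaceStabilizer (Submodule.span F {w}) := fun h => hgH ⟨h, hMK hgM⟩
  -- a centre outside `U`
  obtain ⟨v, hvC, hvU⟩ : ∃ v, UnitCenter (powAut hF) (Cfsg.hermForm 4 F q) M v ∧ v ∉ U := by
    by_contra hc
    push Not at hc
    apply hgW
    obtain ⟨B, hBinj, hBr, hBf⟩ := exists_coord hF (nondeg_perp hF hW')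
    have hBU : ∀ z, B z ∈ U := fun z => hBr.le (LinearMap.mem_range_self B z)
    have himg : ∀ z, Cfsg.hermForm _ F q z z = 0 → g.1 *ᵥ B z ∈ U := fun z hz =>
      hc _ (unitCenter_conj hf (hC0 _ (hBU z) (by rw [hBf, hz])) hgM (hMS g hgM))
    have hle : Submodule.span F {v | Cfsg.hermForm _ F q v v = 0} ≤
        U.comap ((Matrix.mulVecLin g.1) ∘ₗ B) := Submodule.span_le.mpr himg
    rw [span_isotropic (hermForm_isUnitary hF) (by rw [Fintype.card_fin]; rw [hUdef] at hUd; omega)] at hle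
    have hgU : g ∈ Cfsg.Geo.subspaceStabilizer U := mem_subspaceStabilizer_iff.mpr fun u hu => by
      obtain ⟨x, rfl⟩ : ∃ x, B x = u := by rwa [← LinearMap.mem_range, hBr]
      exact hle Submodule.mem_top
    refine mem_subspaceStabilizer_iff.mpr fun x hx => ?_
    rw [← perp_perp hF (Submodule.span F {w})]
    intro y hy
    have hy' := mem_subspaceStabilizer_iff.mp ((Cfsg.Geo.subspaceStabilizer U).inv_mem hgU) y hy
    rw [← gl_mulVec_inv g y, hMS g hgM]
    exact swap_eq_zero hf (hy' x hx)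
  set a := Cfsg.hermForm 4 F q v w with hadef
  have ha0 : a ≠ 0 := fun h => hvU fun x hx => by
    obtain ⟨d, rfl⟩ := Submodule.mem_span_singleton.mp hx
    rw [herm_smul_right, ← hadef, h, mul_zero]
  have hsplit : ∀ z : Fin 4 → F, z - Cfsg.hermForm 4 F q z w • w ∈ U := fun z x hx => by
    obtain ⟨d, rfl⟩ := Submodule.mem_span_singleton.mp hx
    rw [herm_smul_right, form_sub_left (isLinearLeft_of_unitary hf), herm_smul_left, hw, mul_one, sub_self,
      mul_zero]
  refine su_le hF le_rfl fun z hz => ?_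
  set b := Cfsg.hermForm 4 F q z w with hbdef
  rcases eq_or_ne b 0 with hb | hb
  · exact hC0 z (by simpa [← hbdef, hb] using hsplit z) hz
  set c := b / a
  have hcv := unitCenter_smul hf hvC c
  have hbc : Cfsg.hermForm 4 F q (c • v) w = b := by rw [herm_smul_left, ← hadef, div_mul_cancel₀ b ha0]
  have hnorm : ∀ x, Cfsg.hermForm 4 F q x x = 0 → Cfsg.hermForm 4 F q x w = b →
      Cfsg.hermForm 4 F q (x - b • w) (x - b • w) = -(b * powAut hF b) := by
    intro x hx hxb
    simp only [sub_eq_add_neg, ← neg_smul]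
    rw [expand_add_smul hf, hx, hw, hf.herm w x, hxb, map_neg]
    simp only [map_mul, map_neg, hf.involutive]
    ring
  have hnz : -(b * powAut hF b) ≠ 0 := neg_ne_zero.2 (mul_ne_zero hb (by simpa using hb))
  have h1 := hnorm _ hcv.1 hbc
  have h2 := hnorm z hz hbdef.symm
  obtain ⟨T, hTG, hTS, hTw, hTu⟩ := exists_fix_move hF hw
    (by simpa [hbc] using hsplit (c • v)) (hsplit z)
    (fun e => hnz (by rw [← h1, e, zero_right hf]))
    (fun e => hnz (by rw [← h2, e, zero_right hf]))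
    (h2 ▸ hnz) (h1.trans h2.symm)
  have hTM : T ∈ M := hHM ⟨mem_subspaceStabilizer_iff.mpr fun x hx => by
    obtain ⟨d, rfl⟩ := Submodule.mem_span_singleton.mp hx
    rw [mulVec_smul, hTw]; exact hx, hTG, hTS⟩
  have h3 := unitCenter_conj hf hcv hTM (mem_GU_iff'.mp hTG)
  rw [show T.1 *ᵥ (c • v) = z by
    rw [show c • v = (c • v - b • w) + b • w by abel, mulVec_add, mulVec_smul, hTw, hTu, sub_add_cancel]] at h3
  exact h3

end Cfsg.Agent.Lib.SUFour96
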