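import Cfsg.Agent.Lib.SUFour96.OddType
import Cfsg.Agent.Lib.SUFour96.Bridge
import Cfsg.Agent.Lib.SubfieldMax.Unitary.Main

/-!
Subfield groups of odd prime index are maximal in `SU₄(q)`.
-/

set_option autoImplicit false

namespace Cfsg.Agent.Lib.SUFour96

open Matrix Cfsg.Agent.Lib.Subspaces.Transvection Cfsg.Agent.Lib.Subspaces.FormVec
  Cfsg.Agent.Lib.Subspaces.UnitaryForm Cfsg.Agent.Lib.Subspaces.UnitaryGen
  Cfsg.Agent.Lib.SubfieldMax.Linear Cfsg.Agent.Lib.SubfieldMax.RatLin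
  Cfsg.Agent.Lib.SubfieldMax.Form Cfsg.Agent.Lib.SubfieldMax.SkewBasic

variable {F : Type*} [Field F]

/-- Norms from a subfield moved by the involution. -/
theorem exists_norm [Finite F] {F₀ : Subfield F} {σ : F ≃+* F} (hinv : ∀ a, σ (σ a) = a)
    (hst : ∀ a ∈ F₀, σ a ∈ F₀) {b₀ : F} (hb₀ : b₀ ∈ F₀) (hb₀σ : σ b₀ ≠ b₀) {t : F} (ht : t ∈ F₀)
    (htσ : σ t = t) : ∃ d ∈ F₀, d * σ d = t := by
  obtain ⟨e, he⟩ : ∃ e, e = b₀ - σ b₀ := ⟨_, rfl⟩
  have he0 : e ≠ 0 := he ▸ sub_ne_zero.2 (Ne.symm hb₀σ)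
  have heF : e ∈ F₀ := he ▸ sub_mem hb₀ (hst b₀ hb₀)
  have hσe : σ e = -e := by rw [he, map_sub, hinv]; ring
  obtain ⟨⟨a, ha⟩, ⟨b, hb⟩, hab⟩ := exists_quad_root
    (⟨-t, by simp [htσ], neg_mem ht⟩ : (RingHom.eqLocusField (σ : F →+* F) (RingHom.id F) ⊓ F₀ : Subfield F))
    1 ⟨-(e * e), by simp [hσe], neg_mem (mul_mem heF heF)⟩ one_ne_zero
    (fun h => mul_ne_zero he0 he0 (neg_eq_zero.mp (congrArg Subtype.val h)))
  have hab' : -t + 1 * a ^ 2 + -(e * e) * b ^ 2 = 0 := congrArg Subtype.val hab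
  refine ⟨a + b * e, add_mem ha.2 (mul_mem hb.2 heF), ?_⟩
  rw [map_add, map_mul, show σ a = a from ha.1, show σ b = b from hb.1, hσe]
  linear_combination hab'

/-- Subfield groups of odd prime index are maximal in `SU₄(q)`. -/
theorem odd_maximal [Fintype F] {q : ℕ} (hF : Fintype.card F = q ^ 2) :
    ∀ (F₀ : Subfield F) (r : ℕ) (P : Matrix.GeneralLinearGroup (Fin 4) F), r.Prime → Odd r → Fintype.card F = Nat.card F₀ ^ r → Cfsg.Geo.IsFormRationalStructure (Cfsg.hermForm 4 F q) F₀ 1 P → Cfsg.Geo.IsMaximalIn (Cfsg.GU 4 F q ⊓ Cfsg.Geo.specialLinear (Fin 4) F) (Cfsg.Geo.subfieldSubgroup F₀ P ⊓ (Cfsg.GU 4 F q ⊓ Cfsg.Geo.specialLinear (Fin 4) F)) := by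
  intro F₀ r P hr hro hcard hP
  obtain ⟨b, hb, hbne⟩ := Cfsg.Agent.Lib.SubfieldMax.Unitary.index_odd hF F₀ hro hcard
  have hh := hermForm_isUnitary (n := 4) hF
  have hst : ∀ a ∈ F₀, powAut hF a ∈ F₀ := fun a ha => by rw [powAut_apply]; exact pow_mem ha q
  have hζ0 : b - powAut hF b ≠ 0 := sub_ne_zero.2 (Ne.symm hbne)
  have hζ : powAut hF (b - powAut hF b) = -(b - powAut hF b) := by rw [map_sub, hh.involutive]; ring
  have hcard' : Nat.card F = Nat.card F₀ ^ r := by rw [Nat.card_eq_fintype_card, hcard]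
  obtain ⟨θ, hθ⟩ : ∃ θ : F, θ ∉ F₀ := by
    by_contra hall
    push Not at hall
    have e : Nat.card F₀ = Nat.card F := Nat.card_congr (Equiv.subtypeUnivEquiv hall)
    rw [← e] at hcard'
    exact hr.ne_one (Nat.pow_right_injective (Finite.one_lt_card (α := F₀)) (hcard'.symm.trans (pow_one _).symm))
  have hrat : ∀ u v, Rat F₀ u → Rat F₀ v →
      Cfsg.hermForm 4 F q ((P : Matrix (Fin 4) (Fin 4) F) *ᵥ u) ((P : Matrix (Fin 4) (Fin 4) F) *ᵥ v) ∈ F₀ :=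
    fun u v hu hv => by simpa using hP u v hu hv
  have hS : Space F₀ (powAut hF) (skewPull q P (b - powAut hF b)) := by
    refine ⟨skewPull_isSkew hF P hζ0 hζ, hst, fun u v hu hv =>
      mul_mem (sub_mem hb (hst b hb)) (hrat u v hu hv), fun v hv => ?_, fun x y hx hy hxx => ?_⟩
    · refine ⟨b * Cfsg.hermForm 4 F q ((P : Matrix (Fin 4) (Fin 4) F) *ᵥ v)
        ((P : Matrix (Fin 4) (Fin 4) F) *ᵥ v), mul_mem hb (hrat v v hv hv), ?_⟩
      rw [skewPull, map_mul, ← hh.herm]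
      ring
    · have hf := skewPull_isSkew hF P hζ0 hζ
      have hmem : ∀ v, Rat F₀ v → skewPull q P (b - powAut hF b) v v ∈ F₀ := fun v hv =>
        mul_mem (sub_mem hb (hst b hb)) (hrat v v hv hv)
      obtain ⟨d, hd, hdn⟩ := exists_norm hh.involutive hst hb hbne
        (t := -skewPull q P (b - powAut hF b) y y / skewPull q P (b - powAut hF b) x x)
        (div_mem (neg_mem (hmem y hy)) (hmem x hx))
        (by rw [map_div₀, map_neg, hf.self_skew, hf.self_skew, neg_neg, div_neg, neg_div])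
      refine ⟨d, hd, ?_⟩
      rw [hdn, div_mul_cancel₀ _ hxx, neg_add_cancel]
  exact bridge hF F₀ hθ hζ0 hζ P hS fun M C =>
    C.odd_type ⟨hh.involutive, hst, hb, hbne, hr, hro, hcard'⟩

end Cfsg.Agent.Lib.SUFour96
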