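import Cfsg.Agent.Lib.SUFour96.Ctx
import Cfsg.Agent.Lib.SubfieldMax.SkewHerm
import Cfsg.Agent.Lib.SubfieldChev49.Sl2

/-!
Subfields of odd prime index stable under the involution: field facts, and unipotent elements on a line.
-/

set_option autoImplicit false

namespace Cfsg.Agent.Lib.SUFour96

open Matrix Cfsg.Agent.Lib.Subspaces.Transvection Cfsg.Agent.Lib.Subspaces.FormVec
  Cfsg.Agent.Lib.SubfieldMax.Linear Cfsg.Agent.Lib.SubfieldMax.RatLin
  Cfsg.Agent.Lib.SubfieldMax.Form Cfsg.Agent.Lib.SubfieldMax.SkewBasic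
  Cfsg.Agent.Lib.SubfieldMax.SkewHerm Cfsg.Agent.Lib.ChevStructure

variable {F : Type*} [Field F]

/-- A finite subfield is the set of roots of `X^|A| - X`. -/
theorem pow_card_iff (A : Subfield F) [Finite A] (t : F) : t ^ Nat.card A = t ↔ t ∈ A := by
  classical
  haveI : Fintype A := Fintype.ofFinite A
  rw [Nat.card_eq_fintype_card]
  refine ⟨fun ht => ?_, fun ht => congrArg Subtype.val (FiniteField.pow_card (⟨t, ht⟩ : A))⟩
  have hq1 : 1 < Fintype.card A := Fintype.one_lt_card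
  set P : Polynomial F := Polynomial.X ^ Fintype.card A - Polynomial.X
  have hP : P ≠ 0 := FiniteField.X_pow_card_sub_X_ne_zero F hq1
  by_contra hxA
  let S : Finset F := insert t (Finset.univ.image (Subtype.val : A → F))
  have hS : S.card = Fintype.card A + 1 := by
    rw [Finset.card_insert_of_notMem (by simpa using hxA), Finset.card_image_of_injective _ Subtype.val_injective,
      Finset.card_univ]
  have hle : S.card ≤ P.natDegree := by
    refine Polynomial.card_le_degree_of_subset_roots fun y hy => ?_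
    rw [Polynomial.mem_roots hP, Polynomial.IsRoot]
    simp only [P, Polynomial.eval_sub, Polynomial.eval_pow, Polynomial.eval_X, sub_eq_zero]
    rcases Finset.mem_insert.mp hy with rfl | hy
    · exact ht
    · obtain ⟨b, -, rfl⟩ := Finset.mem_image.mp hy
      rw [← SubmonoidClass.coe_pow, FiniteField.pow_card]
  rw [hS, FiniteField.X_pow_card_sub_X_natDegree_eq F hq1] at hle
  omega

/-- A finite subfield above another has a power as cardinality. -/
theorem card_pow_le {K0 A : Subfield F} [Finite A] (h : K0 ≤ A) :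
    ∃ j, 1 ≤ j ∧ Nat.card A = Nat.card K0 ^ j := by
  haveI : Finite K0 := Finite.of_injective (fun x : K0 => (⟨(x : F), h x.2⟩ : A)) fun x y e =>
    Subtype.ext (congrArg (fun z : A => (z : F)) e)
  letI : Algebra K0 A := (Subfield.inclusion h).toAlgebra
  haveI : Module.Finite K0 A := Module.Finite.of_finite
  refine ⟨Module.finrank K0 A, Module.finrank_pos, ?_⟩
  exact Module.natCard_eq_pow_finrank

/-- A subfield of odd prime index moved by the involution. -/
structure OddIndex (F₀ : Subfield F) (σ : F ≃+* F) (b₀ : F) (r : ℕ) : Prop where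
  invol : ∀ a, σ (σ a) = a
  stable : ∀ a ∈ F₀, σ a ∈ F₀
  mem : b₀ ∈ F₀
  moved : σ b₀ ≠ b₀
  prime : r.Prime
  odd : Odd r
  card : Nat.card F = Nat.card F₀ ^ r

variable {F₀ : Subfield F} {σ : F ≃+* F} {b₀ : F} {r : ℕ}

namespace OddIndex

variable (O : OddIndex F₀ σ b₀ r)
include O

theorem diff_ne : b₀ - σ b₀ ≠ 0 := sub_ne_zero.2 (Ne.symm O.moved)

/-- Coordinates over the fixed field. -/
theorem decomp (x : F) : ∃ a b : F, σ a = a ∧ σ b = b ∧ x = a + b₀ * b ∧ (x ∈ F₀ → a ∈ F₀ ∧ b ∈ F₀) := by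
  have h := O.diff_ne
  obtain ⟨b, hb⟩ : ∃ b, b = (x - σ x) / (b₀ - σ b₀) := ⟨_, rfl⟩
  have hb' : b * (b₀ - σ b₀) = x - σ x := by rw [hb, div_mul_cancel₀ _ h]
  refine ⟨x - b₀ * b, b, ?_, ?_, (sub_add_cancel _ _).symm, fun hx => ?_⟩
  · have hσb : σ b = b := by
      rw [hb, map_div₀, map_sub, map_sub, O.invol, O.invol, ← neg_sub, ← neg_sub b₀, neg_div_neg_eq]
    rw [map_sub, map_mul, hσb]
    linear_combination hb'
  · rw [hb, map_div₀, map_sub, map_sub, O.invol, O.invol, ← neg_sub, ← neg_sub b₀, neg_div_neg_eq]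
  · have hbm : b ∈ F₀ := by
      rw [hb]; exact div_mem (sub_mem hx (O.stable x hx)) (sub_mem O.mem (O.stable _ O.mem))
    exact ⟨sub_mem hx (mul_mem O.mem hbm), hbm⟩

/-- Two traces determine an element. -/
theorem mem_of_tr {x : F} (h : ∀ s ∈ F₀, σ s * x + s * σ x ∈ F₀) : x ∈ F₀ := by
  have h1 := h 1 (one_mem _)
  rw [map_one, one_mul, one_mul] at h1
  have h2 := div_mem (sub_mem (mul_mem O.mem h1) (h b₀ O.mem)) (sub_mem O.mem (O.stable _ O.mem))
  convert h2 using 1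
  rw [eq_div_iff O.diff_ne]
  ring

variable [Finite F]

theorem frob {x : F} : x ∈ F₀ ↔ x ^ Nat.card F₀ = x :=
  (pow_card_iff F₀ x).symm

/-- Square roots stay in the subfield. -/
theorem sq_mem {x : F} (h : x * x ∈ F₀) : x ∈ F₀ := by
  rw [O.frob] at h ⊢
  rw [mul_pow] at h
  rcases mul_self_eq_mul_self_iff.1 h with e | e
  · exact e
  have hFx : x ^ Nat.card F = x := by
    have := Fintype.ofFinite F
    rw [Nat.card_eq_fintype_card]
    exact FiniteField.pow_card x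
  have hit : ∀ m : ℕ, x ^ (Nat.card F₀ ^ (2 * m)) = x := by
    intro m
    induction m with
    | zero => simp
    | succ m ih =>
      have hneg : (-x) ^ Nat.card F₀ = x := by
        rw [neg_pow, e, mul_neg]
        rcases eq_or_ne x 0 with rfl | hx
        · simp
        rcases Nat.even_or_odd (Nat.card F₀) with he | ho
        · -- characteristic two
          have h2 : (-1 : F) ∈ F₀ := neg_mem (one_mem _)
          rw [O.frob, he.neg_one_pow] at h2
          rw [he.neg_one_pow, one_mul]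
          linear_combination (-x) * h2
        · rw [ho.neg_one_pow, neg_one_mul, neg_neg]
      rw [show 2 * (m + 1) = 2 * m + 1 + 1 by ring, pow_succ, pow_succ, pow_mul, pow_mul, ih, e, hneg]
  obtain ⟨m, hm⟩ := O.odd
  rw [O.card, hm, pow_succ, pow_mul, hit m] at hFx
  exact hFx

/-- The fixed field is a quadratic subfield. -/
theorem card_fixed : Nat.card F₀ = Nat.card {x : F // x ∈ F₀ ∧ σ x = x} ^ 2 ∧
    Nat.card {x : F // σ x = x} = Nat.card {x : F // x ∈ F₀ ∧ σ x = x} ^ r := by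
  have hinj : ∀ a b a' b' : F, σ a = a → σ b = b → σ a' = a' → σ b' = b' →
      a + b₀ * b = a' + b₀ * b' → a = a' ∧ b = b' := by
    intro a b a' b' ha hb ha' hb' h
    have h' := congrArg σ h
    rw [map_add, map_add, map_mul, map_mul, ha, hb, ha', hb'] at h'
    have hbb : b = b' := mul_left_cancel₀ O.diff_ne (by linear_combination h - h')
    exact ⟨by rw [hbb] at h; exact add_right_cancel h, hbb⟩
  have h0 : Nat.card F₀ = Nat.card {x : F // x ∈ F₀ ∧ σ x = x} ^ 2 := by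
    rw [sq, ← Nat.card_prod]
    refine (Nat.card_congr (Equiv.ofBijective (fun ab : {x : F // x ∈ F₀ ∧ σ x = x} × {x : F // x ∈ F₀ ∧ σ x = x} =>
      (⟨(ab.1 : F) + b₀ * (ab.2 : F), add_mem ab.1.2.1 (mul_mem O.mem ab.2.2.1)⟩ : F₀)) ⟨fun a b e => ?_, fun x => ?_⟩)).symm
    · obtain ⟨e1, e2⟩ := hinj _ _ _ _ a.1.2.2 a.2.2.2 b.1.2.2 b.2.2.2 (congrArg Subtype.val e)
      exact Prod.ext (Subtype.ext e1) (Subtype.ext e2)
    · obtain ⟨a, b, ha, hb, hab, hmem⟩ := O.decomp (x : F)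
      obtain ⟨ha0, hb0⟩ := hmem x.2
      exact ⟨(⟨a, ha0, ha⟩, ⟨b, hb0, hb⟩), Subtype.ext hab.symm⟩
  have h1 : Nat.card F = Nat.card {x : F // σ x = x} ^ 2 := by
    rw [sq, ← Nat.card_prod]
    refine (Nat.card_congr (Equiv.ofBijective (fun ab : {x : F // σ x = x} × {x : F // σ x = x} =>
      (ab.1 : F) + b₀ * (ab.2 : F)) ⟨fun a b e => ?_, fun x => ?_⟩)).symm
    · obtain ⟨e1, e2⟩ := hinj _ _ _ _ a.1.2 a.2.2 b.1.2 b.2.2 e
      exact Prod.ext (Subtype.ext e1) (Subtype.ext e2)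
    · obtain ⟨a, b, ha, hb, hab, -⟩ := O.decomp x
      exact ⟨(⟨a, ha⟩, ⟨b, hb⟩), hab.symm⟩
  refine ⟨h0, Nat.pow_left_injective two_ne_zero ?_⟩
  show _ ^ 2 = _ ^ 2
  rw [← h1, O.card, h0, ← pow_mul, ← pow_mul, mul_comm]

/-- A ring with one irrational fixed element and the rational ones contains the fixed field. -/
theorem fixed_mem (R : Subring F) (h0 : ∀ x ∈ F₀, σ x = x → x ∈ R) {ν : F} (hν : σ ν = ν) (hνR : ν ∈ R)
    (hν0 : ν ∉ F₀) {t : F} (ht : σ t = t) : t ∈ R := by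
  let k : Subfield F := RingHom.eqLocusField (σ : F →+* F) (RingHom.id F)
  let L : Subfield F :=
    { R ⊓ k.toSubring with
      inv_mem' := fun x hx => ⟨by
        rcases eq_or_ne x 0 with rfl | hx0
        · rw [_root_.inv_zero]; exact zero_mem _
        have := Fintype.ofFinite F
        have hpow : x * x ^ (Fintype.card F - 2) = 1 := by
          rw [← pow_succ', ← FiniteField.pow_card_sub_one_eq_one x hx0]
          congr 1
          have := Fintype.one_lt_card (α := F)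
          omega
        rw [inv_eq_of_mul_eq_one_right hpow]
        exact R.pow_mem hx.1 _, k.inv_mem hx.2⟩ }
  have hk0L : F₀ ⊓ k ≤ L := fun x hx => ⟨h0 x hx.1 hx.2, hx.2⟩
  have hLk : L ≤ k := fun x hx => hx.2
  obtain ⟨j, -, hj⟩ := card_pow_le hk0L
  obtain ⟨i, -, hi⟩ := card_pow_le hLk
  have hk : Nat.card k = Nat.card (F₀ ⊓ k : Subfield F) ^ r := O.card_fixed.2
  rw [hj, ← pow_mul, hk] at hi
  have hji := Nat.pow_right_injective (Finite.one_lt_card (α := (F₀ ⊓ k : Subfield F))) hi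
  rcases (Nat.prime_mul_iff.1 (hji ▸ O.prime)) with ⟨-, h1⟩ | ⟨-, h1⟩
  · -- the top
    have hkL : (k : Set F) ⊆ L := by
      have hc : Nat.card L = Nat.card k := by rw [hk, hji, pow_mul, ← hj, h1, pow_one]
      have := Set.eq_of_subset_of_ncard_le (s := (L : Set F)) (t := (k : Set F)) hLk
        (le_of_eq (by rw [← Nat.card_coe_set_eq, ← Nat.card_coe_set_eq]; exact hc.symm)) (Set.toFinite _)
      exact this.ge
    exact (hkL (show t ∈ k from ht)).1
  · exfalso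
    have hc : Nat.card L = Nat.card (F₀ ⊓ k : Subfield F) := by rw [hj, h1, pow_one]
    have := Set.eq_of_subset_of_ncard_le (s := ((F₀ ⊓ k : Subfield F) : Set F)) (t := (L : Set F)) hk0L
      (le_of_eq (by rw [← Nat.card_coe_set_eq, ← Nat.card_coe_set_eq]; exact hc)) (Set.toFinite _)
    have hνL : ν ∈ ((F₀ ⊓ k : Subfield F) : Set F) := this ▸ (⟨hνR, hν⟩ : ν ∈ L)
    exact hν0 hνL.1

end OddIndex

/-- An element moving vectors inside the line of `e₁, e₂` and fixing that line. -/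
def IsX (σ : F ≃+* F) (f : (Fin 4 → F) → (Fin 4 → F) → F) (e₁ e₂ : Fin 4 → F) (A B D : F)
    (g : GL (Fin 4) F) : Prop :=
  ∀ u, (g : Matrix (Fin 4) (Fin 4) F) *ᵥ u = u + (A * f u e₁ + B * f u e₂) • e₁ +
    (σ B * f u e₁ + D * f u e₂) • e₂

variable {f : (Fin 4 → F) → (Fin 4 → F) → F} {M : Subgroup (GL (Fin 4) F)}

section

variable (hf : IsSkew σ f) {e₁ e₂ : Fin 4 → F} (h11 : f e₁ e₁ = 0) (h22 : f e₂ e₂ = 0) (h12 : f e₁ e₂ = 0)
include hf h11 h22 h12

theorem IsX.mul {A B D A' B' D' : F} {g g' : GL (Fin 4) F} (hg : IsX σ f e₁ e₂ A B D g)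
    (hg' : IsX σ f e₁ e₂ A' B' D' g') : IsX σ f e₁ e₂ (A + A') (B + B') (D + D') (g * g') := fun u => by
  rw [gl_mul_mulVec, hg', hg]
  simp only [hf.add_left, hf.smul_left, h11, h22, h12, hf.swap_eq_zero h12, map_add, mul_zero, add_zero]
  module

theorem IsX.inv {A B D : F} {g : GL (Fin 4) F} (hg : IsX σ f e₁ e₂ A B D g) :
    IsX σ f e₁ e₂ (-A) (-B) (-D) g⁻¹ := fun u => by
  apply gl_mulVec_injective g
  show (g : Matrix (Fin 4) (Fin 4) F) *ᵥ _ = (g : Matrix (Fin 4) (Fin 4) F) *ᵥ _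
  rw [gl_mulVec_inv, hg]
  simp only [hf.add_left, hf.smul_left, h11, h22, h12, hf.swap_eq_zero h12, map_neg, mul_zero, add_zero]
  module

omit h22 h12 in
theorem isX_tv₁ (c : F) : IsX σ f e₁ e₂ c 0 0 (tv e₁ (c • formVec f e₁)) := fun u => by
  rw [hf.ut_mulVec h11]
  simp

omit h11 h12 in
theorem isX_tv₂ (c : F) : IsX σ f e₁ e₂ 0 0 c (tv e₂ (c • formVec f e₂)) := fun u => by
  rw [hf.ut_mulVec h22]
  simp

omit h11 h22 h12 in
theorem IsX.of_isS {β b : F} {g : GL (Fin 4) F} (hg : IsS f (β • e₂) e₁ b g) :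
    IsX σ f e₁ e₂ b (σ β) 0 g := fun u => by
  rw [hg, hf.smul_right, hf.invol]
  module

omit h22 h11 h12 in
theorem IsX.isS {A B : F} {g : GL (Fin 4) F} (hg : IsX σ f e₁ e₂ A B 0 g) : IsS f (σ B • e₂) e₁ A g :=
  fun u => by
    rw [hg, hf.smul_right, hf.invol]
    module

omit h22 h11 h12 in
theorem IsX.swap {A B D : F} {g : GL (Fin 4) F} (hg : IsX σ f e₁ e₂ A B D g) :
    IsX σ f e₂ e₁ D (σ B) A g := fun u => by
  rw [hg, hf.invol]
  module

end

/-- Elements acting on a plane modulo a fixed vector, the given vectors fixed. -/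
def planeGrp [Finite F] (M : Subgroup (GL (Fin 4) F)) (x y z : Fin 4 → F) (U : Set (Fin 4 → F)) :
    Subgroup (Matrix.SpecialLinearGroup (Fin 2) F) :=
  let S : Submonoid (Matrix.SpecialLinearGroup (Fin 2) F) :=
    { carrier := {γ | ∃ g ∈ M, (g : Matrix (Fin 4) (Fin 4) F) *ᵥ z = z ∧
        (∀ u ∈ U, (g : Matrix (Fin 4) (Fin 4) F) *ᵥ u = u) ∧
        (∃ a : F, (g : Matrix (Fin 4) (Fin 4) F) *ᵥ x =
          (γ : Matrix (Fin 2) (Fin 2) F) 0 0 • x + (γ : Matrix (Fin 2) (Fin 2) F) 1 0 • y + a • z) ∧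
        ∃ b : F, (g : Matrix (Fin 4) (Fin 4) F) *ᵥ y =
          (γ : Matrix (Fin 2) (Fin 2) F) 0 1 • x + (γ : Matrix (Fin 2) (Fin 2) F) 1 1 • y + b • z}
      one_mem' := ⟨1, M.one_mem, by simp, fun u _ => by simp, ⟨0, by simp⟩, ⟨0, by simp⟩⟩
      mul_mem' := by
        rintro γ δ ⟨g, hg, hz, hU, ⟨a, ha⟩, b, hb⟩ ⟨h, hh, hz', hU', ⟨a', ha'⟩, b', hb'⟩
        refine ⟨g * h, M.mul_mem hg hh, by rw [gl_mul_mulVec, hz', hz],
          fun u hu => by rw [gl_mul_mulVec, hU' u hu, hU u hu], ?_, ?_⟩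
        · refine ⟨(δ : Matrix (Fin 2) (Fin 2) F) 0 0 * a + (δ : Matrix (Fin 2) (Fin 2) F) 1 0 * b + a', ?_⟩
          rw [gl_mul_mulVec, ha', mulVec_add, mulVec_add, mulVec_smul, mulVec_smul, mulVec_smul, ha, hb, hz]
          simp only [Matrix.SpecialLinearGroup.coe_mul, Matrix.mul_apply, Fin.sum_univ_two]
          module
        · refine ⟨(δ : Matrix (Fin 2) (Fin 2) F) 0 1 * a + (δ : Matrix (Fin 2) (Fin 2) F) 1 1 * b + b', ?_⟩
          rw [gl_mul_mulVec, hb', mulVec_add, mulVec_add, mulVec_smul, mulVec_smul, mulVec_smul, ha, hb, hz]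
          simp only [Matrix.SpecialLinearGroup.coe_mul, Matrix.mul_apply, Fin.sum_univ_two]
          module }
  { S with
    inv_mem' := fun {γ} hγ => by
      haveI : Finite (Matrix.SpecialLinearGroup (Fin 2) F) := inferInstance
      have h := pow_card_eq_one' (x := γ)
      have hc : Nat.card (Matrix.SpecialLinearGroup (Fin 2) F) =
          Nat.card (Matrix.SpecialLinearGroup (Fin 2) F) - 1 + 1 :=
        (Nat.sub_add_cancel Nat.card_pos).symm
      rw [hc, pow_succ] at h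
      rw [show γ⁻¹ = γ ^ (Nat.card (Matrix.SpecialLinearGroup (Fin 2) F) - 1) from
        (eq_inv_of_mul_eq_one_left h).symm]
      exact S.pow_mem hγ _ }

/-- At least four upper parameters spanned by one irrational parameter. -/
theorem param_full [Finite F] {b₀ : F} {r : ℕ} (O : OddIndex F₀ σ b₀ r)
    (Γ : Subgroup (Matrix.SpecialLinearGroup (Fin 2) F)) {d ν : F} (hd : d ≠ 0) (hL : slL d ∈ Γ)
    (hν : σ ν = ν) (hν0 : ν ∉ F₀) (hU : ∀ c, c ∈ F₀ → σ c = c → slU c ∈ Γ) (hUν : slU ν ∈ Γ)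
    {t : F} (ht : σ t = t) : slU t ∈ Γ := by
  obtain ⟨p, hp⟩ := CharP.exists F
  haveI : Fact p.Prime := ⟨(CharP.char_is_prime_or_zero F p).resolve_right (CharP.char_ne_zero_of_finite F p)⟩
  open Cfsg.Agent.Lib.SubfieldChev49.Sl2 in
  have hmem : ∀ c, c ∈ F₀ → σ c = c → c ∈ uSet Γ := hU
  open Cfsg.Agent.Lib.SubfieldChev49.Sl2 in
  have hνU : ν ∈ uSet Γ := hUν
  open Cfsg.Agent.Lib.SubfieldChev49.Sl2 in
  have h4 : 4 ≤ Nat.card (uSet Γ) := by
    have b01 : ∀ i : Fin 2, ((i : ℕ) : F) ∈ F₀ ∧ σ ((i : ℕ) : F) = ((i : ℕ) : F) := fun i =>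
      ⟨natCast_mem F₀ _, map_natCast σ _⟩
    refine le_trans ?_ (Nat.card_le_card_of_injective
      (fun ij : Fin 2 × Fin 2 => (⟨((ij.1 : ℕ) : F) + ((ij.2 : ℕ) : F) * ν,
        add_mem (hmem _ (b01 _).1 (b01 _).2) (by
          rw [← nsmul_eq_mul]; exact nsmul_mem hνU _)⟩ : uSet Γ)) ?_)
    · simp
    rintro ⟨i, j⟩ ⟨i', j'⟩ e
    have e' : ((i : ℕ) : F) + ((j : ℕ) : F) * ν = ((i' : ℕ) : F) + ((j' : ℕ) : F) * ν :=
      congrArg Subtype.val e
    have hcast : ∀ a b : Fin 2, ((a : ℕ) : F) = ((b : ℕ) : F) → a = b := by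
      intro a b h
      fin_cases a <;> fin_cases b <;> simp_all
    have hj : ((j : ℕ) : F) = ((j' : ℕ) : F) := by
      by_contra hne
      have hne' := sub_ne_zero.2 hne
      refine hν0 ?_
      have : ν = (((i' : ℕ) : F) - ((i : ℕ) : F)) / (((j : ℕ) : F) - ((j' : ℕ) : F)) := by
        rw [eq_div_iff hne']; linear_combination e'
      rw [this]
      exact div_mem (sub_mem (natCast_mem F₀ _) (natCast_mem F₀ _)) (sub_mem (natCast_mem F₀ _) (natCast_mem F₀ _))
    rw [hj, add_left_inj] at e'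
    exact Prod.ext (hcast _ _ e') (hcast _ _ hj)
  obtain ⟨hmul, -, -⟩ := Cfsg.Agent.Lib.SubfieldChev49.Sl2.param_field p Γ hd
    (hU 1 (one_mem _) (map_one σ)) hL h4
  open Cfsg.Agent.Lib.SubfieldChev49.Sl2 in
  let R : Subring F :=
    { uSet Γ with
      one_mem' := hmem 1 (one_mem _) (map_one σ)
      mul_mem' := fun {a b} ha hb => hmul a ha b hb }
  exact O.fixed_mem R hmem hν hνU hν0 ht

namespace Ctx

variable (S : Ctx F₀ σ f M)
include S

/-- Rational elements attached to a line. -/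
theorem exists_isS {x w : Fin 4 → F} (hx : Rat F₀ x) (hw : Rat F₀ w) (hxx : f x x = 0) (hww : f w w = 0)
    (hxw : f x w = 0) {c : F} (hc : c ∈ F₀) (hσc : σ c = c) : ∃ g ∈ M, IsS f (c • x) w c g := by
  have hf := S.form
  refine ⟨_, M.mul_mem (S.hT _ (rat_add hx hw) ?_ c hc hσc) (M.inv_mem (S.hT x hx hxx c hc hσc)),
    tv_pair hf hxx hww hxw hσc⟩
  simp [hf.add_left, hf.add_right, hxx, hww, hxw, hf.swap_eq_zero hxw]

theorem exists_isX (E : Frame F₀ f) {A B D : F} (hA : A ∈ F₀) (hσA : σ A = A) (hB : B ∈ F₀) (hD : D ∈ F₀)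
    (hσD : σ D = D) : ∃ g ∈ M, IsX σ f E.e₁ E.e₂ A B D g := by
  have hf := S.form
  obtain ⟨g, hg, hgS⟩ := S.exists_isS (x := σ B • E.e₂) (w := E.e₁) (E.re₂.smul (S.stable B hB)) E.re₁
    (by rw [hf.smul_left, hf.smul_right, E.ee₂, mul_zero, mul_zero]) E.ee₁
    (by rw [hf.smul_left, E.e21 hf, mul_zero]) (one_mem F₀) (map_one σ)
  rw [one_smul] at hgS
  have h1 : IsX σ f E.e₁ E.e₂ 1 B 0 g := by
    have := IsX.of_isS hf hgS
    rwa [hf.invol] at this
  have h2 := IsX.mul hf E.ee₁ E.ee₂ E.e12 (IsX.mul hf E.ee₁ E.ee₂ E.e12 h1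
    (isX_tv₁ hf E.ee₁ (A - 1) (e₂ := E.e₂))) (isX_tv₂ hf E.ee₂ D (e₁ := E.e₁))
  refine ⟨_, M.mul_mem (M.mul_mem hg (S.hT _ E.re₁ E.ee₁ _ (sub_mem hA (one_mem _))
    (by rw [map_sub, hσA, map_one]))) (S.hT _ E.re₂ E.ee₂ _ hD hσD), ?_⟩
  simpa using h2

end Ctx

end Cfsg.Agent.Lib.SUFour96
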