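import Cfsg.Agent.Lib.SUFour96.OddBasic

/-!
Subfields of odd prime index: an irrational transvection parameter gives all transvections.
-/

set_option autoImplicit false

namespace Cfsg.Agent.Lib.SUFour96

open Matrix Cfsg.Agent.Lib.Subspaces.Transvection Cfsg.Agent.Lib.Subspaces.FormVec
  Cfsg.Agent.Lib.SubfieldMax.Linear Cfsg.Agent.Lib.SubfieldMax.RatLin
  Cfsg.Agent.Lib.SubfieldMax.Form Cfsg.Agent.Lib.SubfieldMax.SkewBasic
  Cfsg.Agent.Lib.SubfieldMax.SkewHerm Cfsg.Agent.Lib.ChevStructure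

variable {F : Type*} [Field F] {F₀ : Subfield F} {σ : F ≃+* F} {b₀ : F} {r : ℕ}
  {f : (Fin 4 → F) → (Fin 4 → F) → F} {M : Subgroup (GL (Fin 4) F)}

/-- An irrational parameter at a rational centre. -/
def GoodT (F₀ : Subfield F) (σ : F ≃+* F) (f : (Fin 4 → F) → (Fin 4 → F) → F)
    (M : Subgroup (GL (Fin 4) F)) : Prop :=
  ∃ (w : Fin 4 → F) (c : F), Rat F₀ w ∧ w ≠ 0 ∧ f w w = 0 ∧ σ c = c ∧ c ∉ F₀ ∧ tv w (c • formVec f w) ∈ M

namespace Ctx

variable (S : Ctx F₀ σ f M) (O : OddIndex F₀ σ b₀ r)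
include S O

/-- One centre becomes full. -/
theorem full_of_good [Finite F] (hG : GoodT F₀ σ f M) :
    ∃ w, Rat F₀ w ∧ w ≠ 0 ∧ Full σ f M w := by
  obtain ⟨w, d, hw, hw0, hww, hd, hd0, hdM⟩ := hG
  refine ⟨w, hw, hw0, hww, fun c hc => ?_⟩
  have hf := S.form
  obtain ⟨E, rfl⟩ := S.toSpace.exists_frame_on hw hw0 hww
  set U : Set (Fin 4 → F) := {u | f u E.e₁ = 0 ∧ f u E.f₁ = 0}
  have hzero : ∀ g : GL (Fin 4) F, (g : Matrix (Fin 4) (Fin 4) F) *ᵥ (0 : Fin 4 → F) = 0 := fun g =>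
    mulVec_zero _
  have hup : ∀ c : F, tv E.e₁ (c • formVec f E.e₁) ∈ M → slU (-c) ∈ planeGrp M E.e₁ E.f₁ 0 U := by
    intro c hcM
    refine ⟨_, hcM, hzero _, fun u hu => ?_, ⟨0, ?_⟩, ⟨0, ?_⟩⟩
    · rw [hf.ut_mulVec E.ee₁, hu.1, mul_zero, zero_smul, add_zero]
    · rw [hf.ut_mulVec E.ee₁, E.ee₁]; simp
    · rw [hf.ut_mulVec E.ee₁, E.neg₁ hf]; simp [add_comm]
  have hL : slL (1 : F) ∈ planeGrp M E.e₁ E.f₁ 0 U := by
    refine ⟨_, S.hT E.f₁ E.rf₁ E.ff₁ 1 (one_mem _) (map_one σ), hzero _, fun u hu => ?_, ⟨0, ?_⟩, ⟨0, ?_⟩⟩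
    · rw [hf.ut_mulVec E.ff₁, hu.2, mul_zero, zero_smul, add_zero]
    · rw [hf.ut_mulVec E.ff₁, E.one₁]; simp
    · rw [hf.ut_mulVec E.ff₁, E.ff₁]; simp
  have hslU := param_full O _ one_ne_zero hL hd hd0 (fun a ha hσa => ?_)
    (by simpa using hup (-d) (by
      rw [neg_smul, ← tv_inv (hf.ut_dot E.ee₁ d)]
      exact M.inv_mem hdM))
    (t := -c) (by rw [map_neg, hc])
  · obtain ⟨g, hg, -, hgU, ⟨_, hgx⟩, _, hgy⟩ := hslU
    simp only [slU_val, smul_zero, add_zero, Matrix.cons_val', Matrix.cons_val_zero, Matrix.empty_val',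
      Matrix.cons_val_fin_one, Matrix.cons_val_one, Matrix.of_apply, one_smul, zero_smul] at hgx hgy
    suffices e : tv E.e₁ (c • formVec f E.e₁) = g by rwa [e]
    refine gl_ext fun u => ?_
    rw [hf.ut_mulVec E.ee₁]
    have hu : f u E.f₂ • E.e₂ - f u E.e₂ • E.f₂ ∈ U := by
      simp [U, sub_eq_add_neg, hf.add_left, hf.neg_left, hf.smul_left, E.e21 hf, E.fe21 hf, E.ef21, E.f21 hf]
    conv_rhs => rw [E.coord hf u]
    rw [add_sub_assoc (f u E.f₁ • E.e₁ - f u E.e₁ • E.f₁), mulVec_add, hgU _ hu, mulVec_sub, mulVec_smul,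
      mulVec_smul, hgx, hgy]
    conv_lhs => arg 1; rw [E.coord hf u]
    module
  · simpa using hup (-a) (S.hT _ E.re₁ E.ee₁ _ (neg_mem ha) (by rw [map_neg, hσa]))

omit O in
/-- The partner of a full centre is full. -/
theorem full_pair {w v : Fin 4 → F} (hw : Rat F₀ w) (hv : Rat F₀ v) (hvv : f v v = 0) (hwv : f w v = 1)
    (h : Full σ f M w) : Full σ f M v := by
  have hf := S.form
  have hww := h.1
  have e : (((tv w ((1 : F) • formVec f w) * tv v ((1 : F) • formVec f v) * tv w ((1 : F) • formVec f w) :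
      GL (Fin 4) F)) : Matrix (Fin 4) (Fin 4) F) *ᵥ w = v := by
    rw [gl_mul_mulVec, gl_mul_mulVec]
    simp only [hf.ut_mulVec hww, hf.ut_mulVec hvv, mulVec_add, mulVec_smul, hf.add_left, hf.smul_left, hww, hwv,
      hf.swap_eq_one hwv, hvv]
    module
  have hg := M.mul_mem (M.mul_mem (S.hT w hw hww 1 (one_mem _) (map_one σ))
    (S.hT v hv hvv 1 (one_mem _) (map_one σ))) (S.hT w hw hww 1 (one_mem _) (map_one σ))
  have := h.conj hf hg (S.iso _ hg)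
  rwa [e] at this

/-- All rational centres are full. -/
theorem full_rat [Finite F] (hG : GoodT F₀ σ f M) {v : Fin 4 → F} (hv : Rat F₀ v) (hvv : f v v = 0) :
    Full σ f M v := by
  have hf := S.form
  obtain ⟨w, hw, hw0, hwF⟩ := S.full_of_good O hG
  have adj : ∀ {w v : Fin 4 → F}, Rat F₀ w → Rat F₀ v → f v v = 0 → f w v ≠ 0 → Full σ f M w →
      Full σ f M v := by
    intro w v hw hv hvv hne h
    have hm := S.rat w v hw hv
    have hσ : σ ((σ (f w v))⁻¹) = (f w v)⁻¹ := by rw [map_inv₀, hf.invol]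
    have h' := S.full_pair (v := (σ (f w v))⁻¹ • v) hw (hv.smul (inv_mem (S.stable _ hm)))
      (by rw [hf.smul_left, hf.smul_right, hvv, mul_zero, mul_zero])
      (by rw [hf.smul_right, hσ, inv_mul_cancel₀ hne]) h
    have h'' := h'.smul hf (σ (f w v))
    rwa [smul_inv_smul₀ (by simpa using hne)] at h''
  rcases eq_or_ne (f w v) 0 with hwv | hwv
  · by_cases hm : v ∈ Submodule.span F {w}
    · obtain ⟨t, rfl⟩ := Submodule.mem_span_singleton.1 hm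
      exact hwF.smul hf t
    obtain ⟨E, rfl, rfl⟩ := S.toSpace.exists_frame hw hv hw0 hwF.1 hvv hwv hm
    have hu : Rat F₀ (E.f₁ + E.f₂) := rat_add E.rf₁ E.rf₂
    have huu : f (E.f₁ + E.f₂) (E.f₁ + E.f₂) = 0 := by
      simp [hf.add_left, hf.add_right, E.ff₁, E.ff₂, E.f12, E.f21 hf]
    refine adj hu hv hvv ?_ (adj hw hu huu ?_ hwF)
    · simp [hf.add_left, E.fe12 hf, E.neg₂ hf]
    · simp [hf.add_right, E.one₁, E.ef12]
  · exact adj hw hv hvv hwv hwF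

/-- All elements on a line. -/
theorem full_isX [Finite F] (hG : GoodT F₀ σ f M) (E : Frame F₀ f) (B : F) :
    ∃ g ∈ M, IsX σ f E.e₁ E.e₂ 0 B 0 g := by
  have hf := S.form
  have key : ∀ c t, σ c = c → t ∈ F₀ → ∃ g ∈ M, IsX σ f E.e₁ E.e₂ 0 (σ (c * t)) 0 g := by
    intro c t hc ht
    have hx : Rat F₀ (t • E.e₂) := E.re₂.smul ht
    have hxx : f (t • E.e₂) (t • E.e₂) = 0 := by rw [hf.smul_left, hf.smul_right, E.ee₂, mul_zero, mul_zero]
    have hxw : f (t • E.e₂) E.e₁ = 0 := by rw [hf.smul_left, E.e21 hf, mul_zero]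
    have hsum : f (t • E.e₂ + E.e₁) (t • E.e₂ + E.e₁) = 0 := by
      simp only [hf.add_left, hf.add_right, hxx, hxw, hf.swap_eq_zero hxw, E.ee₁, add_zero]
    have h1 := tv_pair hf hxx E.ee₁ hxw hc
    rw [smul_smul] at h1
    have h2 := IsX.mul hf E.ee₁ E.ee₂ E.e12 (IsX.of_isS hf h1) (isX_tv₁ hf E.ee₁ (-c) (e₂ := E.e₂))
    refine ⟨_, M.mul_mem (M.mul_mem ((S.full_rat O hG (rat_add hx E.re₁) hsum).2 c hc)
      (M.inv_mem ((S.full_rat O hG hx hxx).2 c hc)))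
      ((S.full_rat O hG E.re₁ E.ee₁).2 (-c) (by rw [map_neg, hc])), ?_⟩
    simpa using h2
  obtain ⟨a, b, ha, hb, hab, -⟩ := O.decomp (σ B)
  obtain ⟨g, hg, hgX⟩ := key a 1 ha (one_mem _)
  obtain ⟨g', hg', hgX'⟩ := key b b₀ hb O.mem
  refine ⟨g * g', M.mul_mem hg hg', ?_⟩
  have := IsX.mul hf E.ee₁ E.ee₂ E.e12 hgX hgX'
  rwa [zero_add, mul_one, ← map_add, mul_comm b, ← hab, hf.invol] at this

/-- Everything. -/
theorem full_all [Finite F] (hG : GoodT F₀ σ f M) (v : Fin 4 → F) (hv : f v v = 0) : Full σ f M v := by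
  have hf := S.form
  -- a centre not orthogonal to the first vector of a frame
  have key : ∀ (E : Frame F₀ f) (v : Fin 4 → F), f v v = 0 → f v E.e₁ ≠ 0 → Full σ f M v := by
    intro E
    suffices h : ∀ v, f v v = 0 → f v E.e₁ = -1 → Full σ f M v by
      intro v hv hne
      have h' := (h ((-(f v E.e₁)⁻¹) • v) (by rw [hf.smul_left, hf.smul_right, hv, mul_zero, mul_zero])
        (by rw [hf.smul_left, neg_mul, inv_mul_cancel₀ hne])).smul hf (-(f v E.e₁))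
      rwa [smul_smul, neg_mul_neg, mul_inv_cancel₀ hne, one_smul] at h'
    have back : ∀ (v : Fin 4 → F) (g : GL (Fin 4) F), g ∈ M →
        Full σ f M ((g : Matrix (Fin 4) (Fin 4) F) *ᵥ v) → Full σ f M v := by
      intro v g hg h
      have := h.conj hf (M.inv_mem hg) (S.iso _ (M.inv_mem hg))
      rwa [gl_inv_mulVec] at this
    -- clearing one coordinate
    have clear : ∀ (E' : Frame F₀ f) (v : Fin 4 → F), f v v = 0 → f v E'.e₁ = -1 → E'.e₁ = E.e₁ →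
        ∃ g ∈ M, f ((g : Matrix (Fin 4) (Fin 4) F) *ᵥ v) E'.f₂ = 0 ∧
          ∀ z, f E'.e₁ z = 0 → f E'.e₂ z = 0 → f ((g : Matrix (Fin 4) (Fin 4) F) *ᵥ v) z = f v z := by
      intro E' v _ h1 _
      obtain ⟨g, hg, hgX⟩ := S.full_isX O hG E' (σ (f v E'.f₂))
      refine ⟨g, hg, ?_, fun z hz hz' => ?_⟩
      · rw [hgX]
        simp [hf.add_left, hf.smul_left, hf.neg_left, h1, E'.ef12, E'.one₂, hf.invol]
      · rw [hgX]
        simp [hf.add_left, hf.smul_left, hz, hz']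
    intro v hv h1
    obtain ⟨g, hg, hgf₂, hgo⟩ := clear E v hv h1 rfl
    refine back v g hg ?_
    obtain ⟨v₁, hv₁⟩ : ∃ v₁, v₁ = (g : Matrix (Fin 4) (Fin 4) F) *ᵥ v := ⟨_, rfl⟩
    rw [← hv₁] at hgf₂ hgo ⊢
    have hv₁v : f v₁ v₁ = 0 := by rw [hv₁, S.iso g hg, hv]
    have h1' : f v₁ E.e₁ = -1 := by rw [hgo _ E.ee₁ (E.e21 hf), h1]
    obtain ⟨g', hg', hgf₂', hgo'⟩ := clear ((E.swap hf).flip hf |>.swap hf) v₁ hv₁v h1' rfl
    refine back v₁ g' hg' ?_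
    obtain ⟨v₂, hv₂⟩ : ∃ v₂, v₂ = (g' : Matrix (Fin 4) (Fin 4) F) *ᵥ v₁ := ⟨_, rfl⟩
    rw [← hv₂] at hgf₂' hgo' ⊢
    have h1'' : f v₂ E.e₁ = -1 := by rw [hgo' E.e₁ E.ee₁ (E.fe21 hf), h1']
    have h2'' : f v₂ E.f₂ = 0 := by rw [hgo' E.f₂ E.ef12 E.ff₂, hgf₂]
    have h2e : f v₂ E.e₂ = 0 := by
      have : f v₂ (-E.e₂) = 0 := hgf₂'
      rwa [hf.neg_right, neg_eq_zero] at this
    have hv₂v : f v₂ v₂ = 0 := by rw [hv₂, S.iso g' hg', hv₁v]
    have hvec : v₂ = f v₂ E.f₁ • E.e₁ + E.f₁ := by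
      conv_lhs => rw [E.coord hf v₂, h1'', h2'', h2e]
      module
    have hfix : σ (f v₂ E.f₁) = f v₂ E.f₁ := by
      have h := hv₂v
      rw [hvec] at h
      simp only [hf.add_left, hf.add_right, hf.smul_left, hf.smul_right, E.ee₁, E.one₁, E.neg₁ hf, E.ff₁] at h
      linear_combination -h
    refine back v₂ _ ((S.full_rat O hG E.re₁ E.ee₁).2 _ hfix) ?_
    rw [hf.ut_mulVec E.ee₁, h1'']
    rw [hvec]
    have : f v₂ E.f₁ • E.e₁ + E.f₁ + (f v₂ E.f₁ * -1) • E.e₁ = E.f₁ := by module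
    rw [← hvec] at this ⊢
    rw [this]
    exact S.full_rat O hG E.rf₁ E.ff₁
  obtain ⟨E⟩ := S.toSpace.nonempty_frame
  by_cases h1 : f v E.e₁ = 0
  · by_cases h2 : f v E.f₁ = 0
    · by_cases h3 : f v E.e₂ = 0
      · by_cases h4 : f v E.f₂ = 0
        · have : v = 0 := by
            rw [E.coord hf v, h1, h2, h3, h4]; simp
          subst this
          exact S.full_rat O hG (fun _ => zero_mem _) hv
        · exact key ((E.swap hf).flip hf) v hv h4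
      · exact key (E.swap hf) v hv h3
    · exact key (E.flip hf) v hv h2
  · exact key E v hv h1

end Ctx

end Cfsg.Agent.Lib.SUFour96
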