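import Cfsg.Agent.Lib.SUFour96.OddFull

/-!
Subfields of odd prime index: without an irrational parameter, line elements and orthogonal images are
rational.
-/

set_option autoImplicit false

namespace Cfsg.Agent.Lib.SUFour96

open Matrix Cfsg.Agent.Lib.Subspaces.Transvection Cfsg.Agent.Lib.Subspaces.FormVec
  Cfsg.Agent.Lib.SubfieldMax.Linear Cfsg.Agent.Lib.SubfieldMax.RatLin
  Cfsg.Agent.Lib.SubfieldMax.Form Cfsg.Agent.Lib.SubfieldMax.SkewBasic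
  Cfsg.Agent.Lib.SubfieldMax.SkewHerm

variable {F : Type*} [Field F] {F₀ : Subfield F} {σ : F ≃+* F} {b₀ : F} {r : ℕ}
  {f : (Fin 4 → F) → (Fin 4 → F) → F} {M : Subgroup (GL (Fin 4) F)}

/-- An isometry fixing a line pointwise moves vectors inside it. -/
theorem isX_of_fix (hf : IsSkew σ f) (E : Frame F₀ f) {g : GL (Fin 4) F}
    (hiso : ∀ u v, f ((g : Matrix (Fin 4) (Fin 4) F) *ᵥ u) ((g : Matrix (Fin 4) (Fin 4) F) *ᵥ v) = f u v)
    (h1 : (g : Matrix (Fin 4) (Fin 4) F) *ᵥ E.e₁ = E.e₁) (h2 : (g : Matrix (Fin 4) (Fin 4) F) *ᵥ E.e₂ = E.e₂) :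
    ∃ A B D : F, IsX σ f E.e₁ E.e₂ A B D g := by
  have shift : ∀ u, (g : Matrix (Fin 4) (Fin 4) F) *ᵥ u =
      u + f ((g : Matrix (Fin 4) (Fin 4) F) *ᵥ u - u) E.f₁ • E.e₁ +
        f ((g : Matrix (Fin 4) (Fin 4) F) *ᵥ u - u) E.f₂ • E.e₂ := by
    intro u
    obtain ⟨d, hd⟩ : ∃ d, d = (g : Matrix (Fin 4) (Fin 4) F) *ᵥ u - u := ⟨_, rfl⟩
    have ho : ∀ e, (g : Matrix (Fin 4) (Fin 4) F) *ᵥ e = e → f d e = 0 := fun e he => by
      rw [hd, sub_eq_add_neg, hf.add_left, hf.neg_left]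
      have := hiso u e
      rw [he] at this
      rw [this, add_neg_cancel]
    have hc : d = f d E.f₁ • E.e₁ + f d E.f₂ • E.e₂ := by
      conv_lhs => rw [E.coord hf d, ho _ h1, ho _ h2]
      module
    rw [← hd, add_assoc, ← hc, hd, add_sub_cancel]
  obtain ⟨A, hA⟩ : ∃ A, A = -f ((g : Matrix (Fin 4) (Fin 4) F) *ᵥ E.f₁ - E.f₁) E.f₁ := ⟨_, rfl⟩
  obtain ⟨B', hB'⟩ : ∃ B, B = -f ((g : Matrix (Fin 4) (Fin 4) F) *ᵥ E.f₁ - E.f₁) E.f₂ := ⟨_, rfl⟩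
  obtain ⟨B, hB⟩ : ∃ B, B = -f ((g : Matrix (Fin 4) (Fin 4) F) *ᵥ E.f₂ - E.f₂) E.f₁ := ⟨_, rfl⟩
  obtain ⟨D, hD⟩ : ∃ D, D = -f ((g : Matrix (Fin 4) (Fin 4) F) *ᵥ E.f₂ - E.f₂) E.f₂ := ⟨_, rfl⟩
  have g1 : (g : Matrix (Fin 4) (Fin 4) F) *ᵥ E.f₁ = E.f₁ - A • E.e₁ - B' • E.e₂ := by
    rw [shift E.f₁, hA, hB']; module
  have g2 : (g : Matrix (Fin 4) (Fin 4) F) *ᵥ E.f₂ = E.f₂ - B • E.e₁ - D • E.e₂ := by
    rw [shift E.f₂, hB, hD]; module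
  have hBB : B' = σ B := by
    have h := hiso E.f₁ E.f₂
    rw [g1, g2, E.f12] at h
    simp only [sub_eq_add_neg, hf.add_left, hf.add_right, hf.neg_left, hf.neg_right, hf.smul_left, hf.smul_right,
      E.f12, E.neg₁ hf, E.fe12 hf, E.ef12, E.one₂, E.ee₁, E.e12, E.e21 hf, E.ee₂, mul_zero, neg_zero, add_zero,
      zero_add] at h
    linear_combination -h
  refine ⟨A, B, D, fun u => ?_⟩
  conv_lhs => rw [E.coord hf u]
  simp only [mulVec_sub, mulVec_add, mulVec_smul, h1, h2, g1, g2, hBB]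
  conv_rhs => arg 1; arg 1; rw [E.coord hf u]
  module

namespace Ctx

variable (S : Ctx F₀ σ f M) (O : OddIndex F₀ σ b₀ r) (hG : ¬ GoodT F₀ σ f M)
include S O hG

/-- Products with rational orthogonal vectors. -/
theorem comm_mem {x w : Fin 4 → F} {b : F} {g : GL (Fin 4) F} (hg : g ∈ M) (hgS : IsS f x w b g)
    (hw : Rat F₀ w) (hw0 : w ≠ 0) (hww : f w w = 0) (hxw : f x w = 0) {y : Fin 4 → F} (hy : Rat F₀ y)
    (hyy : f y y = 0) (hyw : f y w = 0) : f x y ∈ F₀ := by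
  have hf := S.form
  refine O.mem_of_tr fun s hs => ?_
  obtain ⟨h, hh, hhS⟩ := S.exists_isS (hy.smul hs) hw
    (by rw [hf.smul_left, hf.smul_right, hyy, mul_zero, mul_zero]) hww
    (by rw [hf.smul_left, hyw, mul_zero]) (one_mem F₀) (map_one σ)
  rw [one_smul] at hhS
  have hsw : f (s • y) w = 0 := by rw [hf.smul_left, hyw, mul_zero]
  have h1 := IsS.mul hf hhS hgS hww hsw hxw
  have h2 := IsS.mul hf hgS hhS hww hxw hsw
  obtain ⟨δ, hδ⟩ : ∃ δ, δ = f x (s • y) - f (s • y) x := ⟨_, rfl⟩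
  have hσδ : σ δ = δ := by rw [hδ, hf.skew (s • y) x, sub_neg_eq_add, map_add, hf.invol, add_comm]
  have e : tv w (δ • formVec f w) = h * g * (g * h)⁻¹ := by
    rw [eq_mul_inv_iff_mul_eq]
    refine gl_ext fun u => ?_
    rw [gl_mul_mulVec, h2, h1, hf.ut_mulVec hww]
    simp only [hf.add_left, hf.add_right, hf.smul_left, hww, hxw, hyw, mul_zero, add_zero, hδ]
    module
  by_contra hn
  refine hG ⟨w, δ, hw, hw0, hww, hσδ, fun hm => hn ?_, ?_⟩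
  · rw [hδ, hf.skew (s • y) x, sub_neg_eq_add, hf.smul_right, map_mul, hf.invol] at hm
    exact hm
  · rw [e]
    exact M.mul_mem (M.mul_mem hh hg) (M.inv_mem (M.mul_mem hg hh))

/-- Elements on a line are rational. -/
theorem isX_mem (E : Frame F₀ f) {A B D : F} {g : GL (Fin 4) F} (hg : g ∈ M)
    (hgX : IsX σ f E.e₁ E.e₂ A B D g) : A ∈ F₀ ∧ σ A = A ∧ B ∈ F₀ ∧ D ∈ F₀ ∧ σ D = D := by
  have hf := S.form
  have self : ∀ (E : Frame F₀ f) {A B D : F} {g : GL (Fin 4) F}, g ∈ M → IsX σ f E.e₁ E.e₂ A B D g →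
      σ D = D := by
    intro E A B D g hg hgX
    have h := S.iso g hg E.f₂ E.f₂
    simp only [hgX E.f₂, hf.add_left, hf.add_right, hf.smul_left, hf.smul_right, E.fe21 hf, E.neg₂ hf, E.ff₂,
      E.ee₁, E.ee₂, E.e12, E.e21 hf, E.ef12, E.one₂, map_add, map_mul, map_neg, map_one, map_zero, mul_zero,
      mul_neg, mul_one, zero_add, add_zero] at h
    linear_combination h
  have pure : ∀ (E : Frame F₀ f) {A B : F} {g : GL (Fin 4) F}, g ∈ M → IsX σ f E.e₁ E.e₂ A B 0 g →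
      B ∈ F₀ := by
    intro E A B g hg hgX
    obtain ⟨n1, -⟩ := E.ne_zero hf
    have h := S.comm_mem O hG hg (IsX.isS hf hgX) E.re₁ n1 E.ee₁ (by rw [hf.smul_left, E.e21 hf, mul_zero])
      E.rf₂ E.ff₂ (E.fe21 hf)
    rw [hf.smul_left, E.one₂, mul_one] at h
    have := S.stable _ h
    rwa [hf.invol] at this
  have hD : ∀ (E : Frame F₀ f) {A B D : F} {g : GL (Fin 4) F}, g ∈ M → IsX σ f E.e₁ E.e₂ A B D g → D ∈ F₀ := by
    intro E A B D g hg hgX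
    obtain ⟨h, hh, hhS⟩ := S.exists_isS E.rf₂ E.re₁ E.ff₂ E.ee₁ (E.fe21 hf) (one_mem F₀) (map_one σ)
    rw [one_smul] at hhS
    have he₁ : (h : Matrix (Fin 4) (Fin 4) F) *ᵥ E.e₁ = E.e₁ := by rw [hhS, E.ef12, E.ee₁]; simp
    have he₂ : (h : Matrix (Fin 4) (Fin 4) F) *ᵥ E.e₂ = E.e₁ + E.e₂ := by
      rw [hhS, E.one₂, E.e21 hf]; simp [add_comm]
    have hc : IsX σ f E.e₁ E.e₂ (A + B + σ B + D) (B + D) D (h * g * h⁻¹) := fun u => by
      rw [gl_mul_mulVec, gl_mul_mulVec, hgX, mulVec_add, mulVec_add, mulVec_smul, mulVec_smul, gl_mulVec_inv,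
        he₁, he₂]
      have e1 := S.iso h hh (((h⁻¹ : GL (Fin 4) F) : Matrix (Fin 4) (Fin 4) F) *ᵥ u) E.e₁
      have e2 := S.iso h hh (((h⁻¹ : GL (Fin 4) F) : Matrix (Fin 4) (Fin 4) F) *ᵥ u) E.e₂
      rw [gl_mulVec_inv, he₁] at e1
      rw [gl_mulVec_inv, he₂, hf.add_right] at e2
      rw [← e1, ← e2, map_add, self E hg hgX]
      module
    have h2 := IsX.mul hf E.ee₁ E.ee₂ E.e12 hc (IsX.inv hf E.ee₁ E.ee₂ E.e12 hgX)
    rw [add_neg_cancel D] at h2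
    have := pure E (M.mul_mem (M.mul_mem (M.mul_mem hh hg) (M.inv_mem hh)) (M.inv_mem hg)) h2
    rwa [show B + D + -B = D by ring] at this
  have hAm : A ∈ F₀ := hD (E.swap hf) hg (IsX.swap hf hgX)
  have hσA : σ A = A := self (E.swap hf) hg (IsX.swap hf hgX)
  have hDm := hD E hg hgX
  have hσD := self E hg hgX
  obtain ⟨g', hg', hgX'⟩ := S.exists_isX E hAm hσA (zero_mem _) hDm hσD
  have h3 := IsX.mul hf E.ee₁ E.ee₂ E.e12 hgX (IsX.inv hf E.ee₁ E.ee₂ E.e12 hgX')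
  rw [neg_zero, add_zero, add_neg_cancel D] at h3
  exact ⟨hAm, hσA, pure E (M.mul_mem hg (M.inv_mem hg')) h3, hDm, hσD⟩

/-- Centres orthogonal to rational centres are rational. -/
theorem orth_rat [Finite F] {a w : Fin 4 → F} (haa : f a a = 0) (ha : tv a ((1 : F) • formVec f a) ∈ M)
    (hw : Rat F₀ w) (hw0 : w ≠ 0) (hww : f w w = 0) (haw : f a w = 0) :
    ∃ l : F, l ≠ 0 ∧ Rat F₀ (l • a) := by
  have hf := S.form
  obtain ⟨E, rfl⟩ := S.toSpace.exists_frame_on hw hw0 hww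
  have hline : ∀ c : F, a = c • E.e₁ → ∃ l : F, l ≠ 0 ∧ Rat F₀ (l • a) := fun c hc => by
    rcases eq_or_ne c 0 with rfl | hc0
    · exact ⟨1, one_ne_zero, by rw [hc, zero_smul, smul_zero]; exact fun _ => zero_mem _⟩
    · exact ⟨c⁻¹, inv_ne_zero hc0, by rw [hc, inv_smul_smul₀ hc0]; exact E.re₁⟩
  by_cases hex : f a E.e₂ = 0 ∧ f a E.f₂ = 0
  · exact hline (f a E.f₁) (by conv_lhs => rw [E.coord hf a, haw, hex.1, hex.2]; simp)
  obtain ⟨y, hy, hyy, hyw, hay⟩ : ∃ y, Rat F₀ y ∧ f y y = 0 ∧ f y E.e₁ = 0 ∧ f a y ≠ 0 := by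
    by_cases h : f a E.e₂ = 0
    · exact ⟨_, E.rf₂, E.ff₂, E.fe21 hf, fun e => hex ⟨h, e⟩⟩
    · exact ⟨_, E.re₂, E.ee₂, E.e21 hf, h⟩
  obtain ⟨h, hh, hhS⟩ := S.exists_isS hy E.re₁ hyy E.ee₁ hyw (one_mem F₀) (map_one σ)
  rw [one_smul] at hhS
  obtain ⟨β, hβ⟩ : ∃ β, β = f a y := ⟨_, rfl⟩
  have hβ0 : β ≠ 0 := hβ ▸ hay
  have hha : (h : Matrix (Fin 4) (Fin 4) F) *ᵥ a = a + β • E.e₁ := by rw [hhS, haw, hβ]; simp
  have h1 : tv (a + β • E.e₁) ((1 : F) • formVec f (a + β • E.e₁)) ∈ M := by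
    rw [← hha, ← hf.ut_conj (S.iso h hh) haa]
    exact M.mul_mem (M.mul_mem hh ha) (M.inv_mem hh)
  obtain ⟨x, hx⟩ : ∃ x, x = σ β • a := ⟨_, rfl⟩
  have h2 : IsS f x E.e₁ (β * σ β) (tv (a + β • E.e₁) ((1 : F) • formVec f (a + β • E.e₁)) *
      (tv a ((1 : F) • formVec f a))⁻¹) := fun u => by
    rw [tv_pair hf haa (show f (β • E.e₁) (β • E.e₁) = 0 by rw [hf.smul_left, hf.smul_right, E.ee₁, mul_zero, mul_zero])
      (show f a (β • E.e₁) = 0 by rw [hf.smul_right, haw, mul_zero]) (map_one σ) u, hx]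
    simp only [hf.smul_right, one_smul, hf.invol]
    module
  have hxw : f x E.e₁ = 0 := by rw [hx, hf.smul_left, haw, mul_zero]
  obtain ⟨n1, -⟩ := E.ne_zero hf
  have hgM := M.mul_mem h1 (M.inv_mem ha)
  have hy1 := S.comm_mem O hG hgM h2 E.re₁ n1 E.ee₁ hxw E.re₂ E.ee₂ (E.e21 hf)
  have hy2 := S.comm_mem O hG hgM h2 E.re₁ n1 E.ee₁ hxw E.rf₂ E.ff₂ (E.fe21 hf)
  obtain ⟨ρ, hρ⟩ : ∃ ρ, ρ = f x E.f₂ • E.e₂ - f x E.e₂ • E.f₂ := ⟨_, rfl⟩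
  have hρr : Rat F₀ ρ := hρ ▸ (E.re₂.smul hy2).sub (E.rf₂.smul hy1)
  obtain ⟨α, hαdef⟩ : ∃ α, α = f x E.f₁ := ⟨_, rfl⟩
  have hxc : x = α • E.e₁ + ρ := by
    conv_lhs => rw [E.coord hf x, hxw, ← hαdef]
    rw [hρ]
    module
  have hρw : f ρ E.e₁ = 0 := by
    rw [hρ]; simp [sub_eq_add_neg, hf.add_left, hf.neg_left, hf.smul_left, E.e21 hf, E.fe21 hf]
  have hρρ : f ρ ρ = 0 := by
    have h3 : f x x = 0 := by rw [hx, hf.smul_left, hf.smul_right, haa, mul_zero, mul_zero]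
    rw [hxc] at h3
    simpa [hf.add_left, hf.add_right, hf.smul_left, hf.smul_right, E.ee₁, hρw, hf.swap_eq_zero hρw] using h3
  by_cases hρn : ρ ∈ Submodule.span F {E.e₁}
  · obtain ⟨c, hc⟩ := Submodule.mem_span_singleton.1 hρn
    refine hline ((σ β)⁻¹ * (α + c)) ?_
    rw [mul_smul, add_smul, hc, ← hxc, hx, inv_smul_smul₀ (by simpa using hβ0)]
  obtain ⟨E', hE'1, hE'2⟩ := S.toSpace.exists_frame E.re₁ hρr n1 E.ee₁ hρρ (hf.swap_eq_zero hρw) hρn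
  obtain ⟨c, hc⟩ : ∃ c, c = (β * σ β)⁻¹ := ⟨_, rfl⟩
  have hσc : σ c = c := by rw [hc, map_inv₀, map_mul, hf.invol, mul_comm]
  have hgX : IsX σ f E'.e₁ E'.e₂ (c * (α * σ α)) (c * α) c (tv a ((1 : F) • formVec f a)) := fun u => by
    rw [hf.ut_mulVec haa, one_mul, hE'1, hE'2]
    have e : a = (σ β)⁻¹ • (α • E.e₁ + ρ) := by
      rw [← hxc, hx, inv_smul_smul₀ (by simpa using hβ0)]
    rw [e]
    simp only [hf.smul_right, hf.add_right, map_mul, map_inv₀, hσc, hf.invol]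
    rw [hc, mul_inv]
    module
  obtain ⟨-, -, hcα, hcm, -⟩ := S.isX_mem O hG E' ha hgX
  have hc0 : c ≠ 0 := by rw [hc]; simp [hβ0]
  have hαm : α ∈ F₀ := by
    have := mul_mem (inv_mem hcm) hcα
    rwa [← mul_assoc, inv_mul_cancel₀ hc0, one_mul] at this
  exact ⟨σ β, by simpa using hβ0, by rw [← hx, hxc]; exact rat_add (E.re₁.smul hαm) hρr⟩

end Ctx

end Cfsg.Agent.Lib.SUFour96
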