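import Cfsg.Agent.Lib.SUFour96.OddRigid

/-!
Subfields of odd prime index: rational points or everything.
-/

set_option autoImplicit false

namespace Cfsg.Agent.Lib.SUFour96

open Matrix Cfsg.Agent.Lib.Subspaces.Transvection Cfsg.Agent.Lib.Subspaces.FormVec
  Cfsg.Agent.Lib.SubfieldMax.Linear Cfsg.Agent.Lib.SubfieldMax.RatLin
  Cfsg.Agent.Lib.SubfieldMax.Form Cfsg.Agent.Lib.SubfieldMax.SkewBasic
  Cfsg.Agent.Lib.SubfieldMax.SkewHerm Cfsg.Agent.Lib.ChevStructure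

variable {F : Type*} [Field F] {F₀ : Subfield F} {σ : F ≃+* F} {b₀ : F} {r : ℕ}
  {f : (Fin 4 → F) → (Fin 4 → F) → F} {M : Subgroup (GL (Fin 4) F)}

/-- The value of a rational line element on the quotient of the irrational point. -/
def psi (σ : F ≃+* F) (ρ A B D : F) : F := A * (ρ * σ ρ) + (B * σ ρ + σ B * ρ) + D

/-- The kernel directions. -/
def kerSet (F₀ : Subfield F) (σ : F ≃+* F) (ρ : F) : Set F :=
  {y | ∃ A B D : F, A ∈ F₀ ∧ σ A = A ∧ B ∈ F₀ ∧ D ∈ F₀ ∧ σ D = D ∧ psi σ ρ A B D = 0 ∧ y = A * ρ + B}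

theorem kerSet_add {ρ y y' : F} (h : y ∈ kerSet F₀ σ ρ) (h' : y' ∈ kerSet F₀ σ ρ) : y + y' ∈ kerSet F₀ σ ρ := by
  obtain ⟨A, B, D, hA, hσA, hB, hD, hσD, h0, rfl⟩ := h
  obtain ⟨A', B', D', hA', hσA', hB', hD', hσD', h0', rfl⟩ := h'
  refine ⟨A + A', B + B', D + D', add_mem hA hA', by rw [map_add, hσA, hσA'], add_mem hB hB', add_mem hD hD',
    by rw [map_add, hσD, hσD'], ?_, by ring⟩
  simp only [psi, map_add] at h0 h0' ⊢
  linear_combination h0 + h0'

theorem kerSet_smul {ρ y c : F} (hc : c ∈ F₀) (hσc : σ c = c) (h : y ∈ kerSet F₀ σ ρ) : c * y ∈ kerSet F₀ σ ρ := by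
  obtain ⟨A, B, D, hA, hσA, hB, hD, hσD, h0, rfl⟩ := h
  refine ⟨c * A, c * B, c * D, mul_mem hc hA, by rw [map_mul, hσc, hσA], mul_mem hc hB, mul_mem hc hD,
    by rw [map_mul, hσc, hσD], ?_, by ring⟩
  simp only [psi, map_mul, hσc] at h0 ⊢
  linear_combination c * h0

theorem kerSet_card [Finite F] {ρ : F} (hν : ρ * σ ρ ∉ F₀) :
    Nat.card (kerSet F₀ σ ρ) ≤ Nat.card F₀ := by
  choose A B D hA hσA hB hD hσD h0 hy using fun y : kerSet F₀ σ ρ => y.2
  refine Nat.card_le_card_of_injective (fun y => (⟨B y, hB y⟩ : F₀)) fun y y' e => Subtype.ext ?_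
  have e' : B y = B y' := congrArg Subtype.val e
  have hd : (A y - A y') * (ρ * σ ρ) + (D y - D y') = 0 := by
    have h1 := h0 y
    have h2 := h0 y'
    simp only [psi] at h1 h2
    rw [e'] at h1
    linear_combination h1 - h2
  have hAA : A y = A y' := by
    by_contra hne
    refine hν ?_
    have : ρ * σ ρ = -(D y - D y') / (A y - A y') := by
      rw [eq_div_iff (sub_ne_zero.2 hne)]; linear_combination hd
    rw [this]
    exact div_mem (neg_mem (sub_mem (hD y) (hD y'))) (sub_mem (hA y) (hA y'))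
  rw [hy y, hy y', hAA, e']

namespace Ctx

variable (S : Ctx F₀ σ f M) (O : OddIndex F₀ σ b₀ r)
include S O

/-- An irrational image forces an irrational parameter. -/
theorem good_of_irrational [Finite F] {g₀ : GL (Fin 4) F} (hg₀ : g₀ ∈ M) {p : Fin 4 → F} (hp : Rat F₀ p)
    (hpp : f p p = 0) (hirr : ∀ l : F, l ≠ 0 → ¬ Rat F₀ (l • ((g₀ : Matrix (Fin 4) (Fin 4) F) *ᵥ p))) :
    GoodT F₀ σ f M := by
  by_contra hG
  have hf := S.form
  obtain ⟨a, ha⟩ : ∃ a, a = (g₀ : Matrix (Fin 4) (Fin 4) F) *ᵥ p := ⟨_, rfl⟩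
  rw [← ha] at hirr
  have haa : f a a = 0 := by rw [ha, S.iso g₀ hg₀, hpp]
  have haM : tv a ((1 : F) • formVec f a) ∈ M := by
    rw [ha, ← hf.ut_conj (S.iso g₀ hg₀) hpp]
    exact M.mul_mem (M.mul_mem hg₀ (S.hT p hp hpp 1 (one_mem _) (map_one σ))) (M.inv_mem hg₀)
  have hne : ∀ w, Rat F₀ w → w ≠ 0 → f w w = 0 → f a w ≠ 0 := fun w hw hw0 hww h => by
    obtain ⟨l, hl, hlr⟩ := S.orth_rat O hG haa haM hw hw0 hww h
    exact hirr l hl hlr
  -- a frame with irrational norm ratio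
  have hρirr : ∀ E : Frame F₀ f, f a E.e₁ / f a E.e₂ ∉ F₀ := by
    intro E h
    have hs : -σ (f a E.e₁ / f a E.e₂) ∈ F₀ := neg_mem (S.stable _ h)
    obtain ⟨n1, -, n3, -⟩ := E.ne_zero hf
    have h2 := hne _ E.re₂ n3 E.ee₂
    refine hne _ (rat_add E.re₁ (E.re₂.smul hs)) (fun e => ?_) ?_ ?_
    · have := congrArg (fun u => f u E.f₁) e
      simp [hf.add_left, hf.neg_left, hf.smul_left, hf.zero_left, E.one₁, E.ef21] at this
    · simp [hf.add_left, hf.add_right, hf.neg_left, hf.neg_right, hf.smul_left, hf.smul_right, E.ee₁, E.ee₂, E.e12,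
        E.e21 hf]
    · rw [hf.add_right, hf.smul_right, map_neg, hf.invol, neg_mul, div_mul_cancel₀ _ h2, add_neg_cancel]
  obtain ⟨E, hν0⟩ : ∃ E : Frame F₀ f,
      f a E.e₁ / f a E.e₂ * σ (f a E.e₁ / f a E.e₂) ∉ F₀ := by
    obtain ⟨E⟩ := S.toSpace.nonempty_frame
    obtain ⟨ρ, hρ⟩ : ∃ ρ, ρ = f a E.e₁ / f a E.e₂ := ⟨_, rfl⟩
    by_contra hall
    push Not at hall
    refine hρirr E ?_
    rw [← hρ]
    have h0 : ρ * σ ρ ∈ F₀ := hρ ▸ hall E
    have key : σ ρ ∈ F₀ := O.mem_of_tr fun s hs => by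
      obtain ⟨n1, -, n3, -⟩ := E.ne_zero hf
      have hw0 : E.e₁ + s • E.e₂ ≠ 0 := fun e => by
        have := congrArg (fun u => f u E.f₁) e
        simp [hf.add_left, hf.smul_left, hf.zero_left, E.one₁, E.ef21] at this
      obtain ⟨E', h1, h2⟩ := S.toSpace.exists_frame (rat_add E.re₁ (E.re₂.smul hs)) E.re₂ hw0
        (by simp [hf.add_left, hf.add_right, hf.smul_left, hf.smul_right, E.ee₁, E.ee₂, E.e12, E.e21 hf]) E.ee₂
        (by simp [hf.add_left, hf.smul_left, E.ee₂, E.e12]) (fun hm => by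
          obtain ⟨c, hc⟩ := Submodule.mem_span_singleton.1 hm
          have e1 := congrArg (fun u => f u E.f₁) hc
          have e2 := congrArg (fun u => f u E.f₂) hc
          simp [hf.add_left, hf.smul_left, E.one₁, E.ef21, E.ef12, E.one₂] at e1 e2
          rw [e1, zero_mul] at e2
          exact zero_ne_one e2)
      have h := hall E'
      rw [h1, h2, hf.add_right, hf.smul_right, add_div, mul_div_assoc, div_self (hne _ E.re₂ n3 E.ee₂), mul_one,
        ← hρ, map_add, hf.invol] at h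
      have := sub_mem (sub_mem h h0) (mul_mem (S.stable s hs) hs)
      rw [hf.invol]
      convert this using 1
      ring
    have := S.stable _ key
    rwa [hf.invol] at this
  obtain ⟨ρ, hρ⟩ : ∃ ρ, ρ = f a E.e₁ / f a E.e₂ := ⟨_, rfl⟩
  rw [← hρ] at hν0
  have hρ0 : ρ ∉ F₀ := hρ ▸ hρirr E
  obtain ⟨n1, -, n3, -⟩ := E.ne_zero hf
  obtain ⟨a₂, ha₂⟩ : ∃ x, x = f a E.e₂ := ⟨_, rfl⟩
  have ha₂0 : a₂ ≠ 0 := ha₂ ▸ hne _ E.re₂ n3 E.ee₂
  have hσa₂0 : σ a₂ ≠ 0 := by simpa using ha₂0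
  obtain ⟨a', ha'⟩ : ∃ x, x = (-a₂⁻¹) • a := ⟨_, rfl⟩
  obtain ⟨z, hz⟩ : ∃ x, x = E.e₁ + (-σ ρ) • E.e₂ := ⟨_, rfl⟩
  have ha'e2 : f a' E.e₂ = -1 := by rw [ha', hf.smul_left, ← ha₂, neg_mul, inv_mul_cancel₀ ha₂0]
  have ha'e1 : f a' E.e₁ = -ρ := by rw [ha', hf.smul_left, hρ, ← ha₂]; ring
  have he2a' : f E.e₂ a' = 1 := by rw [hf.skew, ha'e2, map_neg, map_one, neg_neg]
  have ha'z : f a' z = 0 := by
    rw [hz, hf.add_right, hf.smul_right, ha'e1, ha'e2, map_neg, hf.invol]; ring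
  have hza' : f z a' = 0 := hf.swap_eq_zero ha'z
  have haz : f a z = 0 := by
    rw [ha', hf.smul_left] at ha'z
    exact (mul_eq_zero.1 ha'z).resolve_left (by simp [ha₂0])
  have hza : f z a = 0 := hf.swap_eq_zero haz
  have ha'a' : f a' a' = 0 := by rw [ha', hf.smul_left, hf.smul_right, haa, mul_zero, mul_zero]
  have hze : f z E.e₁ = 0 ∧ f z E.e₂ = 0 ∧ f E.e₁ z = 0 ∧ f E.e₂ z = 0 ∧ f z z = 0 := by
    rw [hz]
    simp [hf.add_left, hf.add_right, hf.neg_left, hf.neg_right, hf.smul_left, hf.smul_right, E.ee₁, E.ee₂, E.e12,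
      E.e21 hf]
  have indep : ∀ x y : F, x • E.e₂ + y • z = 0 → x = 0 ∧ y = 0 := by
    intro x y h
    have e1 := congrArg (fun u => f u E.f₁) h
    have e2 := congrArg (fun u => f u E.f₂) h
    simp [hz, hf.add_left, hf.neg_left, hf.smul_left, hf.zero_left, E.one₁, E.ef21, E.ef12, E.one₂] at e1 e2
    rw [e1] at e2
    exact ⟨by simpa using e2, e1⟩
  have onA : ∀ {g : GL (Fin 4) F} {A B D : F}, IsX σ f E.e₁ E.e₂ A B D g →
      (g : Matrix (Fin 4) (Fin 4) F) *ᵥ a' = a' + (-psi σ ρ A B D) • E.e₂ + (-(A * ρ + B)) • z := by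
    intro g A B D hgX
    rw [hgX, ha'e1, ha'e2, hz, psi]
    module
  obtain ⟨d, hd⟩ : ∃ d, d = a₂ * σ a₂ := ⟨_, rfl⟩
  have hd0 : d ≠ 0 := by rw [hd]; exact mul_ne_zero ha₂0 hσa₂0
  have hσd : σ d = d := by rw [hd, map_mul, hf.invol, mul_comm]
  obtain ⟨ν, hν⟩ : ∃ ν, ν = ρ * σ ρ := ⟨_, rfl⟩
  have hσν : σ ν = ν := by rw [hν, map_mul, hf.invol, mul_comm]
  obtain ⟨T₁, hT₁, hT₁M, hT₁z, hT₁a⟩ : ∃ T : GL (Fin 4) F, T = tv E.e₁ ((-1 : F) • formVec f E.e₁) ∧ T ∈ M ∧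
      (T : Matrix (Fin 4) (Fin 4) F) *ᵥ z = z ∧
      (T : Matrix (Fin 4) (Fin 4) F) *ᵥ a' = a' + ν • E.e₂ + ρ • z := by
    refine ⟨_, rfl, S.hT _ E.re₁ E.ee₁ _ (neg_mem (one_mem _)) (by rw [map_neg, map_one]), ?_, ?_⟩
    · rw [hf.ut_mulVec E.ee₁, hze.1]; simp
    · rw [hf.ut_mulVec E.ee₁, ha'e1, hz, hν]; module
  have hT₂ : ∀ c ∈ F₀, σ c = c → ∃ T : GL (Fin 4) F, T ∈ M ∧
      (T : Matrix (Fin 4) (Fin 4) F) *ᵥ z = z ∧ (T : Matrix (Fin 4) (Fin 4) F) *ᵥ E.e₂ = E.e₂ ∧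
      (T : Matrix (Fin 4) (Fin 4) F) *ᵥ a' = a' + c • E.e₂ := fun c hc hσc => by
    refine ⟨_, S.hT _ E.re₂ E.ee₂ (-c) (neg_mem hc) (by rw [map_neg, hσc]), ?_, ?_, ?_⟩
    · rw [hf.ut_mulVec E.ee₂, hze.2.1]; simp
    · rw [hf.ut_mulVec E.ee₂, E.ee₂]; simp
    · rw [hf.ut_mulVec E.ee₂, ha'e2]; module
  -- every parameter is a rational value
  have surj : ∀ t, σ t = t → ∃ A B D, A ∈ F₀ ∧ σ A = A ∧ B ∈ F₀ ∧ D ∈ F₀ ∧ σ D = D ∧ psi σ ρ A B D = t := by
    intro t ht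
    have hmem := param_full O (planeGrp M E.e₂ a' z ∅) hd0 (hν := hσν) (hν0 := hν ▸ hν0)
      ?_ (fun c hc hσc => ?_) ?_ (t := -t) (by rw [map_neg, ht])
    · obtain ⟨g, hg, hgz, -, ⟨τ, hgx⟩, μ, hgy⟩ := hmem
      simp only [slU_val, Matrix.cons_val', Matrix.cons_val_zero, Matrix.empty_val', Matrix.cons_val_fin_one,
        Matrix.cons_val_one, Matrix.of_apply, one_smul, zero_smul, add_zero] at hgx hgy
      have he1z : E.e₁ = z + σ ρ • E.e₂ := by rw [hz]; module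
      have hτ : τ = 0 := by
        by_contra hτ
        obtain ⟨P, hP⟩ : ∃ P, P = τ * σ ρ := ⟨_, rfl⟩
        have hge2 : (g : Matrix (Fin 4) (Fin 4) F) *ᵥ E.e₂ = τ • E.e₁ + (1 - P) • E.e₂ := by
          rw [hgx, hz, hP]; module
        have hge1 : (g : Matrix (Fin 4) (Fin 4) F) *ᵥ E.e₁ = (1 + P) • E.e₁ + (-(σ ρ * P)) • E.e₂ := by
          conv_lhs => rw [he1z, mulVec_add, mulVec_smul, hgz, hge2]
          rw [hz, hP]; module
        have img : ∀ w, Rat F₀ w → f w w = 0 → w ≠ 0 → f ((g : Matrix (Fin 4) (Fin 4) F) *ᵥ w) E.e₁ = 0 →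
            ∃ l : F, l ≠ 0 ∧ Rat F₀ (l • ((g : Matrix (Fin 4) (Fin 4) F) *ᵥ w)) := by
          intro w hw hww hw0 ho
          refine S.orth_rat O hG (by rw [S.iso g hg, hww]) ?_ E.re₁ n1 E.ee₁ ho
          rw [← hf.ut_conj (S.iso g hg) hww]
          exact M.mul_mem (M.mul_mem hg (S.hT w hw hww 1 (one_mem _) (map_one σ))) (M.inv_mem hg)
        obtain ⟨m, hm, hmr⟩ := img _ E.re₁ E.ee₁ n1 (by
          rw [hge1]; simp [hf.add_left, hf.neg_left, hf.smul_left, E.ee₁, E.e21 hf])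
        obtain ⟨l, hl, hlr⟩ := img _ E.re₂ E.ee₂ n3 (by
          rw [hge2]; simp [hf.add_left, hf.smul_left, E.ee₁, E.e21 hf])
        obtain ⟨n, hn, hnr⟩ := img _ (rat_add E.re₁ E.re₂)
          (by simp [hf.add_left, hf.add_right, E.ee₁, E.ee₂, E.e12, E.e21 hf])
          (fun e => by
            have := congrArg (fun u => f u E.f₁) e
            simp [hf.add_left, hf.zero_left, E.one₁, E.ef21] at this)
          (by rw [mulVec_add, hge1, hge2]; simp [hf.add_left, hf.neg_left, hf.smul_left, E.ee₁, E.e21 hf])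
        obtain ⟨hx, hy⟩ := coeff_mem (x := n / m) (y := n / l) hmr hlr
          (smul_ne_zero hm fun e => n1 (gl_mulVec_injective g (by simpa using e)))
          (fun hm' => by
            obtain ⟨c, hc⟩ := Submodule.mem_span_singleton.1 hm'
            rw [smul_smul, ← mulVec_smul, ← mulVec_smul] at hc
            have := congrArg (fun u => f u E.f₂) (gl_mulVec_injective g hc)
            simp [hf.smul_left, E.ef12, E.one₂] at this
            exact hl this.symm)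
          (by rw [smul_smul, smul_smul, div_mul_cancel₀ n hm, div_mul_cancel₀ n hl, ← smul_add, ← mulVec_add]
              exact hnr)
        have hlm : l / m ∈ F₀ := by
          have := div_mem hx hy
          rwa [show n / m / (n / l) = l / m by field_simp] at this
        have hlr1 : Rat F₀ (l • ((g : Matrix (Fin 4) (Fin 4) F) *ᵥ E.e₁)) := by
          have := hmr.smul hlm
          rwa [smul_smul, div_mul_cancel₀ l hm] at this
        rw [hge1, smul_add, smul_smul, smul_smul] at hlr1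
        rw [hge2, smul_add, smul_smul, smul_smul] at hlr
        obtain ⟨c1, c2⟩ := coeff_mem E.re₁ E.re₂ n1 (E.not_span hf) hlr1
        obtain ⟨c3, c4⟩ := coeff_mem E.re₁ E.re₂ n1 (E.not_span hf) hlr
        have hlF : l ∈ F₀ := O.sq_mem (by
          have := sub_mem (mul_mem c1 c4) (mul_mem c2 c3)
          convert this using 1
          rw [hP]; ring)
        have hτF : τ ∈ F₀ := by
          have := mul_mem (inv_mem hlF) c3
          rwa [← mul_assoc, inv_mul_cancel₀ hl, one_mul] at this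
        have hPF : P ∈ F₀ := by
          have := sub_mem (one_mem F₀) (mul_mem (inv_mem hlF) c4)
          rwa [← mul_assoc, inv_mul_cancel₀ hl, one_mul, sub_sub_cancel] at this
        refine hρ0 ?_
        have := S.stable _ (div_mem hPF hτF)
        rwa [hP, mul_div_cancel_left₀ _ hτ, hf.invol] at this
      rw [hτ, zero_smul, add_zero] at hgx
      have hge1 : (g : Matrix (Fin 4) (Fin 4) F) *ᵥ E.e₁ = E.e₁ := by
        rw [he1z, mulVec_add, mulVec_smul, hgz, hgx]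
      obtain ⟨A, B, D, hgX⟩ := isX_of_fix hf E (S.iso g hg) hge1 hgx
      obtain ⟨hA, hσA, hB, hD, hσD⟩ := S.isX_mem O hG E hg hgX
      refine ⟨A, B, D, hA, hσA, hB, hD, hσD, ?_⟩
      rw [onA hgX] at hgy
      have := indep (-psi σ ρ A B D - -t) (-(A * ρ + B) - μ) (by
        linear_combination (norm := module) hgy)
      linear_combination -this.1
    · -- lower
      refine ⟨_, haM, ?_, fun u hu => hu.elim, ⟨0, ?_⟩, ⟨0, ?_⟩⟩
      · rw [hf.ut_mulVec haa, hza]; simp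
      · rw [hf.ut_mulVec haa]
        have e : f E.e₂ a = -σ a₂ := by rw [hf.skew, ← ha₂]
        rw [e, one_mul, hd, ha']
        simp only [slL_val, Matrix.cons_val', Matrix.cons_val_zero, Matrix.empty_val', Matrix.cons_val_fin_one,
          Matrix.cons_val_one, Matrix.of_apply, one_smul, zero_smul, add_zero, smul_smul]
        congr 2
        field_simp
      · rw [hf.ut_mulVec haa, show f a' a = 0 by rw [ha', hf.smul_left, haa, mul_zero]]
        simp
    · obtain ⟨T, hT, hTz, hTe, hTa⟩ := hT₂ c hc hσc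
      refine ⟨T, hT, hTz, fun u hu => hu.elim, ⟨0, by rw [hTe]; simp⟩, ⟨0, by rw [hTa]; simp [add_comm]⟩⟩
    · refine ⟨T₁, hT₁M, hT₁z, fun u hu => hu.elim, ⟨0, ?_⟩, ⟨ρ, ?_⟩⟩
      · rw [hT₁, hf.ut_mulVec E.ee₁, E.e21 hf]; simp
      · rw [hT₁a]
        simp only [slU_val, Matrix.cons_val', Matrix.cons_val_zero, Matrix.empty_val', Matrix.cons_val_fin_one,
          Matrix.cons_val_one, Matrix.of_apply, one_smul, add_comm a']
  -- a kernel element
  obtain ⟨μ₀, hμ₀, hμ₀0⟩ : ∃ y ∈ kerSet F₀ σ ρ, y ≠ 0 := by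
    by_contra hker
    push Not at hker
    let K₀ := {x : F // x ∈ F₀ ∧ σ x = x}
    let Φ : K₀ × F₀ × K₀ → {x : F // σ x = x} := fun t => ⟨psi σ ρ t.1 t.2.1 t.2.2, by
      simp only [psi, map_add, map_mul, hf.invol, t.1.2.2, t.2.2.2.2]
      ring⟩
    have hinj : Function.Injective Φ := by
      rintro ⟨⟨A, hA, hσA⟩, ⟨B, hB⟩, ⟨D, hD, hσD⟩⟩ ⟨⟨A', hA', hσA'⟩, ⟨B', hB'⟩, ⟨D', hD', hσD'⟩⟩ e
      have e' : psi σ ρ A B D = psi σ ρ A' B' D' := congrArg Subtype.val e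
      have h0 : psi σ ρ (A - A') (B - B') (D - D') = 0 := by
        simp only [psi, map_sub] at e' ⊢
        linear_combination e'
      have hy := hker _ ⟨_, _, _, sub_mem hA hA', by rw [map_sub, hσA, hσA'], sub_mem hB hB', sub_mem hD hD',
        by rw [map_sub, hσD, hσD'], h0, rfl⟩
      have hAA : A = A' := by
        by_contra hne'
        refine hρ0 ?_
        have : ρ = -(B - B') / (A - A') := by rw [eq_div_iff (sub_ne_zero.2 hne')]; linear_combination hy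
        rw [this]
        exact div_mem (neg_mem (sub_mem hB hB')) (sub_mem hA hA')
      subst hAA
      rw [sub_self, zero_mul, zero_add, sub_eq_zero] at hy
      subst hy
      simp [psi] at h0
      simp [sub_eq_zero.1 h0]
    have hbij : Function.Bijective Φ := ⟨hinj, fun t => by
      obtain ⟨A, B, D, hA, hσA, hB, hD, hσD, h⟩ := surj t t.2
      exact ⟨(⟨A, hA, hσA⟩, ⟨B, hB⟩, ⟨D, hD, hσD⟩), Subtype.ext h⟩⟩
    have hc := Nat.card_eq_of_bijective Φ hbij
    rw [Nat.card_prod, Nat.card_prod, O.card_fixed.1, O.card_fixed.2, ← pow_succ, ← pow_succ'] at hc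
    have h2 : 2 ≤ Nat.card K₀ := by
      have : Nontrivial K₀ :=
        ⟨⟨⟨0, zero_mem _, map_zero σ⟩, ⟨1, one_mem _, map_one σ⟩, fun e => zero_ne_one (congrArg Subtype.val e)⟩⟩
      exact Finite.one_lt_card
    have hr4 := Nat.pow_right_injective h2 hc
    obtain ⟨j, hj⟩ := O.odd
    omega
  -- closure under two multipliers
  have step : ∀ (T : GL (Fin 4) F) (s c μ : F), T ∈ M → σ s = s →
      (T : Matrix (Fin 4) (Fin 4) F) *ᵥ z = z →
      (T : Matrix (Fin 4) (Fin 4) F) *ᵥ a' = a' + s • E.e₂ + c • z →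
      μ ∈ kerSet F₀ σ ρ → d * s * μ ∈ kerSet F₀ σ ρ := by
    rintro T s c μ hT hσs hTz hTa ⟨A, B, D, hA, hσA, hB, hD, hσD, h0, rfl⟩
    obtain ⟨h, hh, hhX⟩ := S.exists_isX E hA hσA hB hD hσD
    obtain ⟨β, hβ⟩ : ∃ β, β = a₂ * (A * ρ + B) := ⟨_, rfl⟩
    have ha_eq : a = (-a₂) • a' := by rw [ha', smul_smul, neg_mul_neg, mul_inv_cancel₀ ha₂0, one_smul]
    have hha : (h : Matrix (Fin 4) (Fin 4) F) *ᵥ a = a + β • z := by
      rw [ha_eq, mulVec_smul, onA hhX, h0, hβ]; module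
    have h1 : tv (a + β • z) ((1 : F) • formVec f (a + β • z)) ∈ M := by
      rw [← hha, ← hf.ut_conj (S.iso h hh) haa]
      exact M.mul_mem (M.mul_mem hh haM) (M.inv_mem hh)
    obtain ⟨x, hx⟩ : ∃ x, x = σ β • a := ⟨_, rfl⟩
    have h2 : IsS f x z (β * σ β) (tv (a + β • z) ((1 : F) • formVec f (a + β • z)) *
        (tv a ((1 : F) • formVec f a))⁻¹) := fun u => by
      rw [tv_pair hf haa (show f (β • z) (β • z) = 0 by rw [hf.smul_left, hf.smul_right, hze.2.2.2.2, mul_zero, mul_zero])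
        (show f a (β • z) = 0 by rw [hf.smul_right, haz, mul_zero]) (map_one σ) u, hx]
      simp only [hf.smul_right, one_smul, hf.invol]
      module
    have hxz : f x z = 0 := by rw [hx, hf.smul_left, haz, mul_zero]
    have hg1 := M.mul_mem h1 (M.inv_mem haM)
    have hTx : f ((T : Matrix (Fin 4) (Fin 4) F) *ᵥ x) z = 0 := by rw [← hTz, S.iso T hT, hxz]
    have hconj := IsS.conj hf S.iso h2 hT hTz
    have hdiff := IsS.mul hf hconj (IsS.inv hf h2 hze.2.2.2.2 hxz) hze.2.2.2.2 hTx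
      (by rw [hf.neg_left, hxz, neg_zero])
    obtain ⟨y, hy⟩ : ∃ y, y = (-(σ (A * ρ + B) * d)) • (s • E.e₂ + c • z) := ⟨_, rfl⟩
    have hxy : (T : Matrix (Fin 4) (Fin 4) F) *ᵥ x + -x = y := by
      rw [hx, mulVec_smul, ha_eq, mulVec_smul, hTa, hy, hβ, hd, map_mul]
      module
    rw [hxy] at hdiff
    obtain ⟨k, hk, hkS⟩ : ∃ k ∈ M, ∃ b, IsS f y z b k :=
      ⟨_, M.mul_mem (M.mul_mem (M.mul_mem hT hg1) (M.inv_mem hT)) (M.inv_mem hg1), _, hdiff⟩
    obtain ⟨b, hkS⟩ := hkS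
    have hfy : ∀ e, f e E.e₂ = 0 → f e z = 0 → (k : Matrix (Fin 4) (Fin 4) F) *ᵥ e = e := by
      intro e h1 h2
      rw [hkS, h2, hy, hf.smul_right, hf.add_right, hf.smul_right, hf.smul_right, h1, h2]
      simp
    obtain ⟨A', B', D', hkX⟩ := isX_of_fix hf E (S.iso k hk) (hfy _ E.e12 hze.2.2.1) (hfy _ E.ee₂ hze.2.2.2.1)
    obtain ⟨hA', hσA', hB', hD', hσD'⟩ := S.isX_mem O hG E hk hkX
    have hka := hkS a'
    rw [onA hkX, ha'z, zero_smul, mul_zero, zero_smul, add_zero, add_zero, hy, hf.smul_right, hf.add_right,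
      hf.smul_right, hf.smul_right, ha'z, ha'e2, map_neg, map_mul, hf.invol, hσd, hσs] at hka
    obtain ⟨h5, h6⟩ := indep (-psi σ ρ A' B' D') (-(A' * ρ + B') - (A * ρ + B) * d * s) (by
      linear_combination (norm := module) hka)
    refine ⟨-A', -B', -D', neg_mem hA', by rw [map_neg, hσA'], neg_mem hB', neg_mem hD', by rw [map_neg, hσD'],
      ?_, by linear_combination -h6⟩
    simp only [psi, map_neg] at h5 ⊢
    linear_combination h5
  let R : Subring F :=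
    { carrier := {t | ∀ y ∈ kerSet F₀ σ ρ, t * y ∈ kerSet F₀ σ ρ}
      one_mem' := fun y hy => by rwa [one_mul]
      mul_mem' := fun {t t'} ht ht' y hy => by rw [mul_assoc]; exact ht _ (ht' y hy)
      zero_mem' := fun y hy => by
        rw [zero_mul]
        exact ⟨0, 0, 0, zero_mem _, map_zero σ, zero_mem _, zero_mem _, map_zero σ, by simp [psi], by ring⟩
      add_mem' := fun {t t'} ht ht' y hy => by rw [add_mul]; exact kerSet_add (ht y hy) (ht' y hy)
      neg_mem' := fun {t} ht y hy => by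
        rw [show -t * y = (-1) * (t * y) by ring]
        exact kerSet_smul (neg_mem (one_mem _)) (by rw [map_neg, map_one]) (ht y hy) }
  have hdR : d ∈ R := fun y hy => by
    obtain ⟨T, hT, hTz, -, hTa⟩ := hT₂ 1 (one_mem _) (map_one σ)
    have := step T 1 0 y hT (map_one σ) hTz (by rw [hTa]; simp) hy
    rwa [mul_one] at this
  have hdνR : d * ν ∈ R := fun y hy => step T₁ ν ρ y hT₁M hσν hT₁z hT₁a hy
  have hνR : ν ∈ R := by
    have := Fintype.ofFinite F
    have h2 := Fintype.one_lt_card (α := F)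
    have e : d ^ (Fintype.card F - 2) * (d * ν) = ν := by
      rw [← mul_assoc, ← pow_succ, show Fintype.card F - 2 + 1 = Fintype.card F - 1 by omega,
        FiniteField.pow_card_sub_one_eq_one d hd0, one_mul]
    rw [← e]
    exact R.mul_mem (R.pow_mem hdR _) hdνR
  have hle : Nat.card {x : F // σ x = x} ≤ Nat.card (kerSet F₀ σ ρ) :=
    Nat.card_le_card_of_injective (fun t => ⟨t.1 * μ₀, O.fixed_mem R (fun x hx hσx y hy => kerSet_smul hx hσx hy)
      hσν hνR (hν ▸ hν0) t.2 μ₀ hμ₀⟩) fun t t' e =>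
      Subtype.ext (mul_right_cancel₀ hμ₀0 (congrArg Subtype.val e))
  have hlt := le_trans hle (kerSet_card hν0)
  rw [O.card_fixed.1, O.card_fixed.2] at hlt
  have h2 : 1 < Nat.card {x : F // x ∈ F₀ ∧ σ x = x} := by
    haveI : Nontrivial {x : F // x ∈ F₀ ∧ σ x = x} :=
      ⟨⟨⟨0, zero_mem _, map_zero σ⟩, ⟨1, one_mem _, map_one σ⟩, fun e => zero_ne_one (congrArg Subtype.val e)⟩⟩
    exact Finite.one_lt_card
  have hr2 := (Nat.pow_le_pow_iff_right h2).1 hlt
  obtain ⟨j, hj⟩ := O.odd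
  have := O.prime.two_le
  omega

/-- Rational points or everything. -/
theorem odd_type [Finite F] : (∀ g ∈ M, RatUpTo F₀ g) ∨ ∀ v, f v v = 0 → Full σ f M v := by
  by_cases hG : GoodT F₀ σ f M
  · exact Or.inr fun v hv => S.full_all O hG v hv
  refine Or.inl fun g hg => S.toSpace.ratUpTo_of_points fun v hv hvv _ => ?_
  by_contra hn
  push Not at hn
  exact hG (S.good_of_irrational O hg hv hvv hn)

end Ctx

end Cfsg.Agent.Lib.SUFour96
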