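import Cfsg.Agent.Lib.SUFour96.SympType
import Cfsg.Agent.Lib.SUFour96.Bridge
import Cfsg.Agent.Lib.SubfieldMax.Unitary.Main

/-!
Subfield groups of symplectic type are maximal in `SU₄(q)`.
-/

set_option autoImplicit false

namespace Cfsg.Agent.Lib.SUFour96

open Matrix Cfsg.Agent.Lib.Subspaces.Transvection Cfsg.Agent.Lib.Subspaces.FormVec
  Cfsg.Agent.Lib.Subspaces.UnitaryForm Cfsg.Agent.Lib.Subspaces.UnitaryGen
  Cfsg.Agent.Lib.SubfieldMax.Linear Cfsg.Agent.Lib.SubfieldMax.RatLin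
  Cfsg.Agent.Lib.SubfieldMax.Form Cfsg.Agent.Lib.SubfieldMax.SkewBasic

variable {F : Type*} [Field F] [Fintype F]

/-- The subfield of index two is the fixed field. -/
theorem fixed_iff {q : ℕ} (hF : Fintype.card F = q ^ 2) (F₀ : Subfield F)
    (hcard : Fintype.card F = Nat.card F₀ ^ 2) :
    (∀ x : F, powAut hF x = x ↔ x ∈ F₀) ∧ ∃ θ : F, θ ∉ F₀ ∧ powAut hF θ ≠ θ ∧
      ∀ x : F, ∃ a ∈ F₀, ∃ b ∈ F₀, x = a + θ * b := by
  obtain ⟨hfix, θ, hθ⟩ := Cfsg.Agent.Lib.SubfieldMax.Unitary.index_two hF F₀ hcard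
  have hθσ : powAut hF θ ≠ θ := fun h => (hermForm_isUnitary (n := 4) hF).ne_refl (RingEquiv.ext fun x => by
    obtain ⟨a, ha, b, hb, rfl⟩ := hθ x
    rw [map_add, map_mul, hfix a ha, hfix b hb, h, RingEquiv.refl_apply])
  refine ⟨fun x => ⟨fun hx => ?_, hfix x⟩, θ, fun h => hθσ (hfix θ h), hθσ, hθ⟩
  obtain ⟨a, ha, b, hb, rfl⟩ := hθ x
  rw [map_add, map_mul, hfix a ha, hfix b hb] at hx
  obtain rfl : b = 0 := by
    rcases mul_eq_zero.1 (show (powAut hF θ - θ) * b = 0 by linear_combination hx) with h | h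
    · exact absurd (sub_eq_zero.1 h) hθσ
    · exact h
  rwa [mul_zero, add_zero]

/-- Subfield groups of symplectic type are maximal in `SU₄(q)`. -/
theorem symplectic_maximal {q : ℕ} (hF : Fintype.card F = q ^ 2) :
    ∀ (F₀ : Subfield F) (P : Matrix.GeneralLinearGroup (Fin 4) F) (ζ : F), Fintype.card F = Nat.card F₀ ^ 2 → ζ ≠ 0 → ζ + ζ ^ q = 0 → Cfsg.Geo.IsFormRationalStructure (Cfsg.hermForm 4 F q) F₀ ζ P → (∀ u : Fin 4 → F, (∀ i, u i ∈ F₀) → (Cfsg.hermForm 4 F q) (Matrix.mulVec (P : Matrix (Fin 4) (Fin 4) F) u) (Matrix.mulVec (P : Matrix (Fin 4) (Fin 4) F) u) = 0) → Cfsg.Geo.IsMaximalIn (Cfsg.GU 4 F q ⊓ Cfsg.Geo.specialLinear (Fin 4) F) (Cfsg.Geo.subfieldSubgroup F₀ P ⊓ (Cfsg.GU 4 F q ⊓ Cfsg.Geo.specialLinear (Fin 4) F)) := by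
  intro F₀ P ζ hcard hζ0 hζq hP halt
  obtain ⟨hfix, θ, hθ, hθσ, hspan⟩ := fixed_iff hF F₀ hcard
  have hζ : powAut hF ζ = -ζ := by rw [powAut_apply]; linear_combination hζq
  have halt' : ∀ v, Rat F₀ v → skewPull q P ζ v v = 0 := fun v hv => by
    simp only [skewPull]; rw [halt v hv, mul_zero]
  have hS : Space F₀ (powAut hF) (skewPull q P ζ) :=
    ⟨skewPull_isSkew hF P hζ0 hζ, fun a ha => by rw [(hfix a).2 ha]; exact ha, fun u v hu hv => hP u v hu hv,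
      fun v hv => ⟨0, zero_mem _, by rw [map_zero, sub_zero, halt' v hv]⟩,
      fun x _ hx _ hne => absurd (halt' x hx) hne⟩
  exact bridge hF F₀ hθ hζ0 hζ P hS fun M C => C.symp_type hfix halt' hspan hθσ

end Cfsg.Agent.Lib.SUFour96
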