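import Cfsg.Agent.Lib.SUFour96.OrthCount
import Cfsg.Agent.Lib.SubfieldMax.Unitary.Main
import Cfsg.Agent.Lib.SUFour96.Symplectic

/-!
Subfield groups of orthogonal type are maximal in `SU₄(q)`, `q` odd and at least five.
-/

set_option autoImplicit false

namespace Cfsg.Agent.Lib.SUFour96

open Matrix Cfsg.Agent.Lib.Subspaces.Transvection Cfsg.Agent.Lib.Subspaces.FormVec
  Cfsg.Agent.Lib.Subspaces.UnitaryForm Cfsg.Agent.Lib.Subspaces.UnitaryGen
  Cfsg.Agent.Lib.SubfieldMax.Linear Cfsg.Agent.Lib.SubfieldMax.RatLin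
  Cfsg.Agent.Lib.SubfieldMax.Form Cfsg.Agent.Lib.SubfieldMax.Unitary Cfsg.Agent.Lib.SUFour96.OrthType

variable {F : Type*} [Field F] [Fintype F]

/-- Subfield groups of orthogonal type are maximal in `SU₄(q)`. -/
theorem orth_maximal {q : ℕ} (hF : Fintype.card F = q ^ 2) :
    Odd q → 5 ≤ q → ∀ (F₀ : Subfield F) (P : Matrix.GeneralLinearGroup (Fin 4) F), Fintype.card F = Nat.card F₀ ^ 2 → Cfsg.Geo.IsFormRationalStructure (Cfsg.hermForm 4 F q) F₀ 1 P → Cfsg.Geo.IsMaximalIn (Cfsg.GU 4 F q ⊓ Cfsg.Geo.specialLinear (Fin 4) F) (Cfsg.Geo.subfieldSubgroup F₀ P ⊓ (Cfsg.GU 4 F q ⊓ Cfsg.Geo.specialLinear (Fin 4) F)) := by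
  intro hodd h5 F₀ P hcard hP
  classical
  set f := pullForm 4 q P
  set σ := powAut hF
  have hf : Cfsg.Geo.IsUnitaryForm σ f := pullForm_unitary hF P
  let c := (MulAut.conj P).toMonoidHom
  have hconj : ∀ (g : GL (Fin 4) F) (u : Fin 4 → F), ((c g : GL (Fin 4) F) : Matrix (Fin 4) (Fin 4) F) *ᵥ
      ((P : Matrix (Fin 4) (Fin 4) F) *ᵥ u) =
      (P : Matrix (Fin 4) (Fin 4) F) *ᵥ ((g : Matrix (Fin 4) (Fin 4) F) *ᵥ u) := by
    intro g u
    show ((P * g * P⁻¹ : GL (Fin 4) F) : Matrix (Fin 4) (Fin 4) F) *ᵥ _ = _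
    rw [gl_mul_mulVec, gl_mul_mulVec, gl_inv_mulVec]
  have hgu : ∀ g : GL (Fin 4) F, c g ∈ Cfsg.GU 4 F q ↔
      ∀ u v, f ((g : Matrix (Fin 4) (Fin 4) F) *ᵥ u) ((g : Matrix (Fin 4) (Fin 4) F) *ᵥ v) = f u v := by
    intro g
    rw [mem_GU_iff']
    constructor
    · intro h u v
      show Cfsg.hermForm 4 F q _ _ = _
      rw [← hconj g, ← hconj g]
      exact h _ _
    · intro h u v
      have := h (((P⁻¹ : GL (Fin 4) F) : Matrix (Fin 4) (Fin 4) F) *ᵥ u)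
        (((P⁻¹ : GL (Fin 4) F) : Matrix (Fin 4) (Fin 4) F) *ᵥ v)
      simp only [f, pullForm, ← hconj g, gl_mulVec_inv] at this
      exact this
  have hsl : ∀ g : GL (Fin 4) F, c g ∈ Cfsg.Geo.specialLinear (Fin 4) F ↔ g ∈ Cfsg.Geo.specialLinear (Fin 4) F := by
    intro g
    have hN : (Cfsg.Geo.specialLinear (Fin 4) F).Normal := MonoidHom.normal_ker _
    show P * g * P⁻¹ ∈ _ ↔ _
    refine ⟨fun h => ?_, fun h => hN.conj_mem g h P⟩
    simpa [mul_assoc] using hN.conj_mem _ h P⁻¹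
  have hsub : ∀ g : GL (Fin 4) F, c g ∈ Cfsg.Geo.subfieldSubgroup F₀ P ↔ RatUpTo F₀ g := by
    intro g
    rw [Cfsg.Agent.Lib.SubfieldMax.Mem.mem_sub_iff]
    rw [show P⁻¹ * c g * P = g by show P⁻¹ * (P * g * P⁻¹) * P = g; group]
  have hrat : ∀ u v, Rat F₀ u → Rat F₀ v → f u v ∈ F₀ := fun u v hu hv => by
    simpa using (show (1 : F) * f u v ∈ F₀ from hP u v hu hv)
  obtain ⟨hfix, θ, -, hθσ, -⟩ := fixed_iff hF F₀ hcard
  have htwo : (2 : F) ≠ 0 := by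
    intro h2
    have := FiniteField.even_card_of_char_two (CharP.ringChar_of_prime_eq_zero Nat.prime_two h2)
    rw [hF] at this
    obtain ⟨j, rfl⟩ := hodd
    simp [Nat.pow_mod, Nat.add_mod, Nat.mul_mod] at this
  obtain ⟨ε, hεd⟩ : ∃ e, e = θ - σ θ := ⟨_, rfl⟩
  have hε : σ ε = -ε := by rw [hεd, map_sub, hf.involutive, neg_sub]
  have hε0 : ε ≠ 0 := hεd ▸ sub_ne_zero.2 (Ne.symm hθσ)
  have hfour : 4 ≤ Nat.card F₀ := by
    have hq : q = Nat.card F₀ := Nat.pow_left_injective two_ne_zero (hF.symm.trans hcard)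
    omega
  have hS : ∀ M : Subgroup (GL (Fin 4) F),
      Cfsg.Geo.subfieldSubgroup F₀ P ⊓ (Cfsg.GU 4 F q ⊓ Cfsg.Geo.specialLinear (Fin 4) F) ≤ M →
      M ≤ Cfsg.GU 4 F q ⊓ Cfsg.Geo.specialLinear (Fin 4) F → Sym4 σ F₀ f ε (M.comap c) :=
    fun M hHM hMK => ⟨hf, hfix, htwo, hε0, hε, hrat, hfour, fun x hx => (hgu x).1 (hMK hx).1,
      fun x hx => (hsl x).1 (hMK hx).2, fun g hiso hdet hR => hHM ⟨(hsub g).2 hR, (hgu g).2 hiso, (hsl g).2 hdet⟩⟩
  have hTsu : ∀ v a, f v v = 0 → a + σ a = 0 →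
      c (tv v (a • formVec f v)) ∈ Cfsg.GU 4 F q ⊓ Cfsg.Geo.specialLinear (Fin 4) F := fun v a hv ha =>
    ⟨(hgu _).2 fun x y => utv_isometry hf hv ha x y, (hsl _).2 (tv_mem_specialLinear _ _)⟩
  refine ⟨lt_of_le_not_ge inf_le_right fun hle => ?_, fun M hHM hMK => ?_⟩
  · -- an irrational transvection
    have S := hS _ inf_le_right le_rfl
    obtain ⟨w, hw, hw0, hww⟩ := S.exists_iso
    obtain ⟨E, rfl⟩ := S.exists_frame hw hw0 hww
    obtain ⟨d, hd, hent⟩ := (hsub _).1 (hle (hTsu E.w ε E.ww (by rw [hε, add_neg_cancel]))).1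
    obtain ⟨i, hi⟩ := Function.ne_iff.1 hw0
    have hwi : E.w i ≠ 0 := hi
    have h1 := rat_mulVec hent E.rw' i
    rw [utv_mulVec hf E.ww, E.ww, mul_zero, zero_smul, add_zero, Pi.smul_apply, smul_eq_mul] at h1
    have hdF : d ∈ F₀ := by
      simpa [mul_assoc, mul_inv_cancel₀ hwi] using mul_mem h1 (inv_mem (E.rw' i))
    have h2 := rat_mulVec hent E.rv i
    rw [utv_mulVec hf E.ww, E.vw, mul_one, Pi.smul_apply, Pi.add_apply, Pi.smul_apply, smul_eq_mul, smul_eq_mul] at h2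
    have h3 := mul_mem (sub_mem (mul_mem (inv_mem hdF) h2) (E.rv i)) (inv_mem (E.rw' i))
    rw [← mul_assoc, inv_mul_cancel₀ hd, one_mul, add_sub_cancel_left, mul_assoc, mul_inv_cancel₀ hwi,
      mul_one] at h3
    exact S.eps_not_mem h3
  · by_cases hM : M ≤ Cfsg.Geo.subfieldSubgroup F₀ P
    · exact Or.inl (le_antisymm (le_inf hM hMK) hHM)
    refine Or.inr (le_antisymm hMK ?_)
    rcases (hS M hHM hMK).orth_type with hR | hall
    · exfalso
      obtain ⟨g, hgM, hgH⟩ := SetLike.not_le_iff_exists.1 hM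
      obtain ⟨y, rfl⟩ : ∃ y, c y = g := (MulAut.conj P).surjective g
      exact hgH ((hsub y).2 (hR y hgM))
    refine su_le hF le_rfl fun v hv => ⟨hv, fun a ha => ?_⟩
    set u := ((P⁻¹ : GL (Fin 4) F) : Matrix (Fin 4) (Fin 4) F) *ᵥ v
    have hPu : (P : Matrix (Fin 4) (Fin 4) F) *ᵥ u = v := gl_mulVec_inv P v
    have huu : f u u = 0 := by show Cfsg.hermForm 4 F q _ _ = 0; rw [hPu, hv]
    have hmem : c (tv u (a • formVec f u)) ∈ M := (hall u huu).2 a ha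
    convert hmem using 1
    refine gl_ext fun x => ?_
    rw [utv_mulVec (hermForm_isUnitary hF) hv, ← gl_mulVec_inv P x, hconj,
      utv_mulVec hf huu, mulVec_add, mulVec_smul, hPu]
    congr 2
    rw [← hPu]
    rfl

end Cfsg.Agent.Lib.SUFour96
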