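import Cfsg.Agent.Lib.SubfieldMax.SymForm.Space

/-!
Four-dimensional unitary spaces with a symmetric rational structure over the fixed field, odd characteristic:
frames, unipotent and diagonal rational elements.
-/

set_option autoImplicit false

namespace Cfsg.Agent.Lib.SUFour96.OrthType

open Matrix Cfsg.Agent.Lib.Subspaces.Transvection Cfsg.Agent.Lib.Subspaces.FormVec
  Cfsg.Agent.Lib.Subspaces.UnitaryForm Cfsg.Agent.Lib.SubfieldMax.Linear Cfsg.Agent.Lib.SubfieldMax.RatLin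
  Cfsg.Agent.Lib.SubfieldMax.Form Cfsg.Agent.Lib.SubfieldMax.SymForm Cfsg.Agent.Lib.SubfieldMax.Unitary

variable {F : Type*} [Field F]

/-- Standing data. -/
structure Sym4 (σ : F ≃+* F) (F₀ : Subfield F) (f : (Fin 4 → F) → (Fin 4 → F) → F) (ε : F)
    (M : Subgroup (GL (Fin 4) F)) : Prop where
  herm : Cfsg.Geo.IsUnitaryForm σ f
  fix : ∀ x : F, σ x = x ↔ x ∈ F₀
  two : (2 : F) ≠ 0
  eps0 : ε ≠ 0
  eps : σ ε = -ε
  rat : ∀ u v, Rat F₀ u → Rat F₀ v → f u v ∈ F₀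
  four : 4 ≤ Nat.card F₀
  iso : ∀ g ∈ M, ∀ u v, f ((g : Matrix (Fin 4) (Fin 4) F) *ᵥ u) ((g : Matrix (Fin 4) (Fin 4) F) *ᵥ v) = f u v
  det : ∀ g ∈ M, g ∈ Cfsg.Geo.specialLinear (Fin 4) F
  hH : ∀ g : GL (Fin 4) F,
    (∀ u v, f ((g : Matrix (Fin 4) (Fin 4) F) *ᵥ u) ((g : Matrix (Fin 4) (Fin 4) F) *ᵥ v) = f u v) →
    g ∈ Cfsg.Geo.specialLinear (Fin 4) F → RatUpTo F₀ g → g ∈ M

/-- A rational frame: a hyperbolic pair and two orthogonal anisotropic vectors. -/
structure Frame4 (F₀ : Subfield F) (f : (Fin 4 → F) → (Fin 4 → F) → F) where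
  w : Fin 4 → F
  v : Fin 4 → F
  r : Fin 4 → F
  s : Fin 4 → F
  rw' : Rat F₀ w
  rv : Rat F₀ v
  rr : Rat F₀ r
  rs' : Rat F₀ s
  ww : f w w = 0
  vv : f v v = 0
  vw : f v w = 1
  wv : f w v = 1
  rw0 : f r w = 0
  rv0 : f r v = 0
  sw : f s w = 0
  sv : f s v = 0
  rs : f r s = 0
  wr : f w r = 0
  vr : f v r = 0
  ws : f w s = 0
  vs : f v s = 0
  sr : f s r = 0
  ra : f r r ≠ 0
  sb : f s s ≠ 0

/-- Rational vectors of the anisotropic plane of a frame. -/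
def InW {F₀ : Subfield F} {f : (Fin 4 → F) → (Fin 4 → F) → F} (E : Frame4 F₀ f) (y : Fin 4 → F) : Prop :=
  Rat F₀ y ∧ f y E.w = 0 ∧ f y E.v = 0

/-- An irrational transvection parameter at a rational centre. -/
def GoodV (σ : F ≃+* F) (F₀ : Subfield F) (f : (Fin 4 → F) → (Fin 4 → F) → F)
    (M : Subgroup (GL (Fin 4) F)) : Prop :=
  ∃ (w : Fin 4 → F) (c : F), Rat F₀ w ∧ w ≠ 0 ∧ f w w = 0 ∧ c + σ c = 0 ∧ c ≠ 0 ∧ tv w (c • formVec f w) ∈ M

variable {σ : F ≃+* F} {F₀ : Subfield F} {f : (Fin 4 → F) → (Fin 4 → F) → F} {ε : F}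
  {M : Subgroup (GL (Fin 4) F)}

theorem rat_add {u v : Fin 4 → F} (hu : Rat F₀ u) (hv : Rat F₀ v) : Rat F₀ (u + v) :=
  fun i => add_mem (hu i) (hv i)

theorem rat_neg {u : Fin 4 → F} (hu : Rat F₀ u) : Rat F₀ (-u) := fun i => neg_mem (hu i)

theorem rat_mulVec {κ : F} {g : GL (Fin 4) F} (h : ∀ i j, κ * (g : Matrix (Fin 4) (Fin 4) F) i j ∈ F₀)
    {x : Fin 4 → F} (hx : Rat F₀ x) : Rat F₀ (κ • ((g : Matrix (Fin 4) (Fin 4) F) *ᵥ x)) := fun i => by
  rw [Pi.smul_apply, smul_eq_mul, mulVec, dotProduct, Finset.mul_sum]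
  exact sum_mem fun j _ => by rw [← mul_assoc]; exact mul_mem (h i j) (hx j)

theorem ratUpTo_mul {g h : GL (Fin 4) F} (hg : RatUpTo F₀ g) (hh : RatUpTo F₀ h) : RatUpTo F₀ (g * h) := by
  obtain ⟨c, hc, hcg⟩ := hg
  obtain ⟨d, hd, hdh⟩ := hh
  refine ⟨c * d, mul_ne_zero hc hd, fun i j => ?_⟩
  rw [Units.val_mul, Matrix.mul_apply, Finset.mul_sum]
  exact sum_mem fun k _ => by rw [mul_mul_mul_comm]; exact mul_mem (hcg i k) (hdh k j)

namespace Sym4

variable (S : Sym4 σ F₀ f ε M)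
include S

theorem hl : IsLinearLeft f := isLinearLeft_of_unitary S.herm

theorem two_mem : (2 : F) ∈ F₀ := by rw [← one_add_one_eq_two]; exact add_mem (one_mem _) (one_mem _)

theorem sig {a : F} (ha : a ∈ F₀) : σ a = a := (S.fix a).2 ha

theorem comm {u v : Fin 4 → F} (hu : Rat F₀ u) (hv : Rat F₀ v) : f u v = f v u := by
  rw [S.herm.herm, S.sig (S.rat v u hv hu)]

theorem sep [Finite F] {k : ℕ} (u : Fin k → Fin 4 → F) (hu : ∀ i, Rat F₀ (u i)) {s : Fin 4 → F}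
    (hs : Rat F₀ s) (hns : s ∉ Submodule.span F (Set.range u)) :
    ∃ y : Fin 4 → F, Rat F₀ y ∧ (∀ i, f y (u i) = 0) ∧ f y s = 1 := by
  obtain ⟨χ, hχ, hχu, hχs⟩ := exists_sep u hu hs hns
  obtain ⟨y, hy, rfl⟩ := exists_rat_formVec S.hl (add_right S.herm) S.herm.nondegenerate S.rat hχ
  refine ⟨y, hy, fun i => ?_, ?_⟩
  · refine swap_eq_zero S.herm ?_
    rw [← formVec_dot S.hl]; exact hχu i
  · rw [S.comm hy hs, ← formVec_dot S.hl]; exact hχs

theorem orth [Finite F] {k : ℕ} (φ : Fin k → Fin 4 → F) (hφ : ∀ i, Rat F₀ (φ i)) (h : k < 4) :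
    ∃ z : Fin 4 → F, Rat F₀ z ∧ z ≠ 0 ∧ ∀ i, f z (φ i) = 0 := by
  obtain ⟨z, hz, hzn, hzφ⟩ := exists_orth_not_mem (fun i => formVec f (φ i))
    (fun i j => S.rat _ _ (Rat.single j (one_mem _)) (hφ i)) (![] : Fin 0 → Fin 4 → F) (fun i => i.elim0)
    (by simpa using h)
  exact ⟨z, hz, by simpa using hzn, fun i => by rw [← formVec_dot S.hl]; exact hzφ i⟩

/-- A frame on a rational isotropic vector. -/
theorem exists_frame [Finite F] {w : Fin 4 → F} (hw : Rat F₀ w) (hw0 : w ≠ 0) (hww : f w w = 0) :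
    ∃ E : Frame4 F₀ f, E.w = w := by
  classical
  have hf := S.herm
  obtain ⟨v0, hv0, -, hv0w⟩ := S.sep (k := 0) ![] (fun i => i.elim0) hw (by simpa using hw0)
  have ht : -(f v0 v0) / 2 ∈ F₀ := div_mem (neg_mem (S.rat _ _ hv0 hv0)) S.two_mem
  obtain ⟨v, hv, hvv, hvw⟩ : ∃ v, Rat F₀ v ∧ f v v = 0 ∧ f v w = 1 := by
    refine ⟨v0 + (-(f v0 v0) / 2) • w, rat_add hv0 (hw.smul ht), ?_, ?_⟩
    · rw [expand_add_smul hf, hww, ← S.comm hv0 hw, hv0w, mul_one, S.sig ht]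
      have := S.two
      field_simp
      ring
    · rw [hf.add_left, hf.smul_left, hv0w, hww, mul_zero, add_zero]
  have hwv : f w v = 1 := by rw [← S.comm hv hw, hvw]
  obtain ⟨r, hr, hrw, hrv, hra⟩ : ∃ r, Rat F₀ r ∧ f r w = 0 ∧ f r v = 0 ∧ f r r ≠ 0 := by
    obtain ⟨r, hr, hr0, hro⟩ := S.orth ![w, v] (fun i => by fin_cases i; exacts [hw, hv]) (by norm_num)
    by_cases h1 : f r r = 0
    · have hrn : r ∉ Submodule.span F (Set.range ![w, v]) := by
        rw [Matrix.range_cons_cons_empty]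
        intro hm
        obtain ⟨a, b, hab⟩ := Submodule.mem_span_pair.1 hm
        have e1 : f r w = 0 := hro 0
        have e2 : f r v = 0 := hro 1
        rw [← hab, hf.add_left, hf.smul_left, hf.smul_left, hww, hvw, mul_zero, zero_add, mul_one] at e1
        rw [← hab, hf.add_left, hf.smul_left, hf.smul_left, hwv, hvv, mul_zero, add_zero, mul_one] at e2
        exact hr0 (by rw [← hab, e1, e2]; simp)
      obtain ⟨y, hy, hyo, hyr⟩ := S.sep ![w, v] (fun i => by fin_cases i; exacts [hw, hv]) hr hrn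
      by_cases h2 : f y y = 0
      · refine ⟨r + y, rat_add hr hy, ?_, ?_, ?_⟩
        · rw [hf.add_left, show f r w = 0 from hro 0, show f y w = 0 from hyo 0, add_zero]
        · rw [hf.add_left, show f r v = 0 from hro 1, show f y v = 0 from hyo 1, add_zero]
        · rw [hf.add_left, add_right hf, add_right hf, h1, h2, S.comm hr hy, hyr]
          simpa [one_add_one_eq_two] using S.two
      · exact ⟨y, hy, hyo 0, hyo 1, h2⟩
    · exact ⟨r, hr, hro 0, hro 1, h1⟩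
  obtain ⟨s, hs, hs0, hso⟩ := S.orth ![w, v, r] (fun i => by fin_cases i; exacts [hw, hv, hr]) (by norm_num)
  have hsw : f s w = 0 := hso 0
  have hsv : f s v = 0 := hso 1
  have hsr : f s r = 0 := hso 2
  have hsb : f s s ≠ 0 := by
    intro hss
    have hli : LinearIndependent F ![w, v, r, s] := by
      rw [Fintype.linearIndependent_iff]
      intro c hc
      simp [Fin.sum_univ_four] at hc
      have h1 := congrArg (fun x => f x v) hc
      have h2 := congrArg (fun x => f x w) hc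
      have h3 := congrArg (fun x => f x r) hc
      simp [hf.add_left, hf.smul_left, form_zero_left S.hl, hww, hvv, hvw, hwv, hrw, hrv, hsw, hsv, hsr,
        swap_eq_zero hf hrw, swap_eq_zero hf hrv, hra] at h1 h2 h3
      intro i
      fin_cases i
      · exact h1
      · exact h2
      · exact h3
      · simp [h1, h2, h3, hs0] at hc
        exact hc
    have hsp := hli.span_eq_top_of_card_eq_finrank (by simp)
    obtain ⟨⟨x, hx⟩, -⟩ := hf.nondegenerate s hs0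
    apply hx
    clear hx
    have hmem : x ∈ Submodule.span F (Set.range ![w, v, r, s]) := hsp ▸ Submodule.mem_top
    induction hmem using Submodule.span_induction with
    | mem y hy =>
      obtain ⟨i, rfl⟩ := hy
      fin_cases i
      exacts [swap_eq_zero hf hsw, swap_eq_zero hf hsv, swap_eq_zero hf hsr, hss]
    | zero => exact form_zero_left S.hl _
    | add y z _ _ h1 h2 => rw [hf.add_left, h1, h2, add_zero]
    | smul t y _ h1 => rw [hf.smul_left, h1, mul_zero]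
  exact ⟨{ w := w, v := v, r := r, s := s, rw' := hw, rv := hv, rr := hr, rs' := hs, ww := hww, vv := hvv,
           vw := hvw, wv := hwv, rw0 := hrw, rv0 := hrv, sw := hsw, sv := hsv, rs := swap_eq_zero hf hsr,
           wr := swap_eq_zero hf hrw, vr := swap_eq_zero hf hrv, ws := swap_eq_zero hf hsw,
           vs := swap_eq_zero hf hsv, sr := hsr, ra := hra, sb := hsb }, rfl⟩

end Sym4

/-- The two isotropic vectors exchanged. -/
def Frame4.flip (E : Frame4 F₀ f) : Frame4 F₀ f where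
  w := E.v
  v := E.w
  r := E.r
  s := E.s
  rw' := E.rv
  rv := E.rw'
  rr := E.rr
  rs' := E.rs'
  ww := E.vv
  vv := E.ww
  vw := E.wv
  wv := E.vw
  rw0 := E.rv0
  rv0 := E.rw0
  sw := E.sv
  sv := E.sw
  rs := E.rs
  wr := E.vr
  vr := E.wr
  ws := E.vs
  vs := E.ws
  sr := E.sr
  ra := E.ra
  sb := E.sb

namespace Sym4

variable (S : Sym4 σ F₀ f ε M) (E : Frame4 F₀ f)
include S

theorem w_ne : E.w ≠ 0 := fun h => by
  have := E.wv
  rw [h, form_zero_left S.hl] at this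
  exact zero_ne_one this

theorem coord (u : Fin 4 → F) :
    u = f u E.v • E.w + f u E.w • E.v + (f u E.r / f E.r E.r) • E.r + (f u E.s / f E.s E.s) • E.s := by
  have hf := S.herm
  have hli : LinearIndependent F ![E.w, E.v, E.r, E.s] := by
    rw [Fintype.linearIndependent_iff]
    intro c hc
    simp [Fin.sum_univ_four] at hc
    have h1 := congrArg (fun x => f x E.v) hc
    have h2 := congrArg (fun x => f x E.w) hc
    have h3 := congrArg (fun x => f x E.r) hc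
    have h4 := congrArg (fun x => f x E.s) hc
    simp [hf.add_left, hf.smul_left, form_zero_left S.hl, E.ww, E.vv, E.vw, E.wv, E.rw0, E.rv0, E.sw, E.sv,
      E.sr, E.rs, E.wr, E.vr, E.ws, E.vs, E.ra, E.sb] at h1 h2 h3 h4
    intro i
    fin_cases i
    exacts [h1, h2, h3, h4]
  have hsp := hli.span_eq_top_of_card_eq_finrank (by simp)
  have hu : u ∈ Submodule.span F (Set.range ![E.w, E.v, E.r, E.s]) := hsp ▸ Submodule.mem_top
  obtain ⟨c, hc⟩ := (Submodule.mem_span_range_iff_exists_fun F).1 hu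
  simp [Fin.sum_univ_four] at hc
  subst hc
  simp only [hf.add_left, hf.smul_left, E.ww, E.vv, E.vw, E.wv, E.rw0, E.rv0, E.sw, E.sv, E.sr, E.rs, E.wr,
    E.vr, E.ws, E.vs, mul_zero, mul_one, add_zero, zero_add, mul_div_cancel_right₀ _ E.ra,
    mul_div_cancel_right₀ _ E.sb]

/-- Coordinates of a vector of the plane. -/
theorem inW_coord {y : Fin 4 → F} (hy : InW E y) :
    y = (f y E.r / f E.r E.r) • E.r + (f y E.s / f E.s E.s) • E.s := by
  conv_lhs => rw [S.coord E y, hy.2.1, hy.2.2]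
  simp

/-- All values are taken on the plane. -/
theorem exists_value [Finite F] {d : F} (hd : d ∈ F₀) (hd0 : d ≠ 0) : ∃ y, InW E y ∧ f y y = d := by
  have hf := S.herm
  obtain ⟨⟨a, ha⟩, ⟨b, hb⟩, hab⟩ := exists_quad_root (⟨-d, neg_mem hd⟩ : F₀)
    ⟨f E.r E.r, S.rat _ _ E.rr E.rr⟩ ⟨f E.s E.s, S.rat _ _ E.rs' E.rs'⟩
    (fun h => E.ra (congrArg Subtype.val h)) (fun h => E.sb (congrArg Subtype.val h))
  have hab' : -d + f E.r E.r * a ^ 2 + f E.s E.s * b ^ 2 = 0 := congrArg Subtype.val hab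
  refine ⟨a • E.r + b • E.s, ⟨rat_add (E.rr.smul ha) (E.rs'.smul hb), ?_, ?_⟩, ?_⟩
  · simp [hf.add_left, hf.smul_left, E.rw0, E.sw]
  · simp [hf.add_left, hf.smul_left, E.rv0, E.sv]
  · simp only [hf.add_left, add_right hf, hf.smul_left, smul_right hf, S.sig ha, S.sig hb, E.rs, E.sr,
      mul_zero, add_zero, zero_add]
    linear_combination hab'

/-- A map is rational up to a scalar once it is on a frame. -/
theorem ratUpTo_of_frame {g : GL (Fin 4) F} {κ : F} (hκ : κ ≠ 0)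
    (hw : Rat F₀ (κ • ((g : Matrix (Fin 4) (Fin 4) F) *ᵥ E.w)))
    (hv : Rat F₀ (κ • ((g : Matrix (Fin 4) (Fin 4) F) *ᵥ E.v)))
    (hr : Rat F₀ (κ • ((g : Matrix (Fin 4) (Fin 4) F) *ᵥ E.r)))
    (hs : Rat F₀ (κ • ((g : Matrix (Fin 4) (Fin 4) F) *ᵥ E.s))) : RatUpTo F₀ g := by
  refine ⟨κ, hκ, fun i j => ?_⟩
  obtain ⟨x, hxdef⟩ : ∃ x : Fin 4 → F, x = Pi.single j 1 := ⟨_, rfl⟩
  have hx : Rat F₀ x := hxdef ▸ Rat.single j (one_mem _)
  have h : Rat F₀ (κ • ((g : Matrix (Fin 4) (Fin 4) F) *ᵥ x)) := by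
    rw [S.coord E x]
    simp only [mulVec_add, mulVec_smul, smul_add, smul_comm κ]
    exact rat_add (rat_add (rat_add (hw.smul (S.rat _ _ hx E.rv)) (hv.smul (S.rat _ _ hx E.rw')))
      (hr.smul (div_mem (S.rat _ _ hx E.rr) (S.rat _ _ E.rr E.rr))))
      (hs.smul (div_mem (S.rat _ _ hx E.rs') (S.rat _ _ E.rs' E.rs')))
  have := h i
  simpa [hxdef, Pi.smul_apply, mulVec_single_one] using this

/-- The rational unipotent elements. -/
theorem exists_unip {w x : Fin 4 → F} (hw : Rat F₀ w) (hx : Rat F₀ x) (hww : f w w = 0) (hxw : f x w = 0) :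
    ∃ g ∈ M, IsS f w x (-(f x x) / 2) g ∧ RatUpTo F₀ g ∧ g ∈ Cfsg.Geo.specialLinear (Fin 4) F := by
  have hf := S.herm
  have hcm : -(f x x) / 2 ∈ F₀ := div_mem (neg_mem (S.rat x x hx hx)) S.two_mem
  have hR : RatUpTo F₀ (sgen f w x (-(f x x) / 2)) := ⟨1, one_ne_zero, fun i j => by
    rw [one_mul]; exact sgen_entries hf hww hxw S.rat hw hx hcm i j⟩
  refine ⟨_, S.hH _ (sgen_isometry hf hww hxw ?_) (sgen_mem_specialLinear _ _ _ _) hR, sgen_isS hf hww hxw _,
    hR, sgen_mem_specialLinear _ _ _ _⟩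
  rw [S.sig hcm, ← add_div, div_eq_iff S.two]
  ring

/-- The diagonal elements. -/
theorem exists_torus {t : F} (ht : t ∈ F₀) (ht0 : t ≠ 0) :
    ∃ g ∈ M, RatUpTo F₀ g ∧ ∀ u, (g : Matrix (Fin 4) (Fin 4) F) *ᵥ u =
      u + ((t - 1) * f u E.v) • E.w + ((t⁻¹ - 1) * f u E.w) • E.v := by
  have hf := S.herm
  have hA : ∀ (w : Fin 4 → F), f w w = 0 → ∀ (c : F) (u : Fin 4 → F),
      (tv w (c • formVec f w) : Matrix (Fin 4) (Fin 4) F) *ᵥ u = u + (c * f u w) • w :=
    fun w hw c u => utv_mulVec hf hw c u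
  obtain ⟨g, hg⟩ : ∃ g : GL (Fin 4) F, g =
      tv E.w (t • formVec f E.w) * tv E.v ((-t⁻¹) • formVec f E.v) * tv E.w (t • formVec f E.w) *
        (tv E.w ((-1 : F) • formVec f E.w) * tv E.v ((1 : F) • formVec f E.v) * tv E.w ((-1 : F) • formVec f E.w)) :=
    ⟨_, rfl⟩
  have hgu : ∀ u, (g : Matrix (Fin 4) (Fin 4) F) *ᵥ u =
      u + ((t - 1) * f u E.v) • E.w + ((t⁻¹ - 1) * f u E.w) • E.v := by
    intro u
    rw [hg]
    simp only [gl_mul_mulVec, hA _ E.ww, hA _ E.vv, hf.add_left, hf.smul_left, E.ww, E.vv, E.vw, E.wv, mul_zero,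
      mul_one, add_zero]
    match_scalars <;> first | (field_simp; ring) | field_simp
  have hti : σ t⁻¹ = t⁻¹ := S.sig (inv_mem ht)
  have hR : RatUpTo F₀ g := S.ratUpTo_of_frame E (κ := 1) one_ne_zero
    (by rw [one_smul, hgu, E.ww, E.wv]; exact rat_add (rat_add E.rw' (E.rw'.smul (by simpa using sub_mem ht (one_mem _)))) (E.rv.smul (by simp)))
    (by rw [one_smul, hgu, E.vw, E.vv]; exact rat_add (rat_add E.rv (E.rw'.smul (by simp))) (E.rv.smul (by simpa using sub_mem (inv_mem ht) (one_mem _))))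
    (by rw [one_smul, hgu, E.rw0, E.rv0]; simpa using E.rr) (by rw [one_smul, hgu, E.sw, E.sv]; simpa using E.rs')
  refine ⟨g, S.hH g (fun u x => ?_) (hg ▸ mul_mem (mul_mem (mul_mem (tv_mem_specialLinear _ _) (tv_mem_specialLinear _ _))
    (tv_mem_specialLinear _ _)) (mul_mem (mul_mem (tv_mem_specialLinear _ _) (tv_mem_specialLinear _ _))
    (tv_mem_specialLinear _ _))) hR, hR, hgu⟩
  rw [hgu u, hgu x]
  simp only [hf.add_left, add_right hf, hf.smul_left, smul_right hf, E.ww, E.vv, E.vw, E.wv, map_mul, map_sub,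
    map_one, S.sig ht, hti, ← hf.herm]
  field_simp
  ring

/-- An element sending the first isotropic vector to a multiple of the second. -/
theorem exists_swap {y : Fin 4 → F} (hy : InW E y) (hy0 : f y y ≠ 0) :
    ∃ g ∈ M, RatUpTo F₀ g ∧ (g : Matrix (Fin 4) (Fin 4) F) *ᵥ E.w = (-(f y y) / 2) • E.v := by
  have hf := S.herm
  obtain ⟨k, hk⟩ : ∃ k, k = -(f y y) / 2 := ⟨_, rfl⟩
  have hkm : k ∈ F₀ := hk ▸ div_mem (neg_mem (S.rat y y hy.1 hy.1)) S.two_mem
  have hk0 : k ≠ 0 := by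
    rw [hk]; exact div_ne_zero (neg_ne_zero.2 hy0) S.two
  obtain ⟨g, hg, hgS, hgR, -⟩ := S.exists_unip E.rv hy.1 E.vv hy.2.2
  obtain ⟨h, hh, hhS, hhR, -⟩ := S.exists_unip E.rw' (hy.1.smul (neg_mem (inv_mem hkm))) E.ww
    (by rw [hf.smul_left, hy.2.1, mul_zero])
  refine ⟨h * g, M.mul_mem hh hg, ratUpTo_mul hhR hgR, ?_⟩
  rw [gl_mul_mulVec, hgS, E.wv, swap_eq_zero hf hy.2.1, ← hk, hhS]
  simp only [hf.add_left, form_sub_left S.hl, hf.smul_left, add_right hf, smul_right hf, E.ww, E.vw, hy.2.1,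
    swap_eq_zero hf hy.2.2, swap_eq_zero hf hy.2.1, map_mul, map_neg, map_inv₀, S.sig hkm, mul_one, mul_zero,
    zero_smul, sub_zero, add_zero, zero_add, neg_neg]
  have hyy : f y y = -(2 * k) := by rw [hk]; field_simp [S.two]
  rw [hyy]
  match_scalars <;> first | (field_simp [S.two]; ring) | field_simp [S.two]

end Sym4

end Cfsg.Agent.Lib.SUFour96.OrthType
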