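import Cfsg.Agent.Lib.SUFour96.OrthRigid

/-!
Orthogonal type in dimension four: rational points or everything, by counting the images of rational points.
-/

set_option autoImplicit false

namespace Cfsg.Agent.Lib.SUFour96.OrthType

open Matrix Cfsg.Agent.Lib.Subspaces.Transvection Cfsg.Agent.Lib.Subspaces.FormVec
  Cfsg.Agent.Lib.Subspaces.UnitaryForm Cfsg.Agent.Lib.Subspaces.UnitaryGen
  Cfsg.Agent.Lib.SubfieldMax.Linear Cfsg.Agent.Lib.SubfieldMax.RatLin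
  Cfsg.Agent.Lib.SubfieldMax.Form Cfsg.Agent.Lib.SubfieldMax.SymForm Cfsg.Agent.Lib.SubfieldMax.Unitary

variable {F : Type*} [Field F] {σ : F ≃+* F} {F₀ : Subfield F} {f : (Fin 4 → F) → (Fin 4 → F) → F} {ε : F}
  {M : Subgroup (GL (Fin 4) F)}

namespace Sym4

variable (S : Sym4 σ F₀ f ε M) (hG : ¬ GoodV σ F₀ f M)
include S

/-- Uniqueness of coordinates over the fixed field. -/
theorem split_unique {a b a' b' : F} (ha : a ∈ F₀) (hb : b ∈ F₀) (ha' : a' ∈ F₀) (hb' : b' ∈ F₀)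
    (h : a + ε * b = a' + ε * b') : a = a' ∧ b = b' := by
  have h' := congrArg σ h
  rw [map_add, map_add, map_mul, map_mul, S.eps, S.sig ha, S.sig hb, S.sig ha', S.sig hb'] at h'
  have hbb : b = b' := mul_left_cancel₀ (mul_ne_zero S.two S.eps0) (by linear_combination h - h')
  exact ⟨by rw [hbb] at h; exact add_right_cancel h, hbb⟩

/-- Some rational isotropic vector. -/
theorem exists_iso [Finite F] : ∃ w : Fin 4 → F, Rat F₀ w ∧ w ≠ 0 ∧ f w w = 0 := by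
  have hf := S.herm
  obtain ⟨x, hx, hx0, -⟩ := S.orth (k := 0) ![] (fun i => i.elim0) (by norm_num)
  by_cases q1 : f x x = 0
  · exact ⟨x, hx, hx0, q1⟩
  obtain ⟨y, hy, hy0, hyo⟩ := S.orth ![x] (fun i => by fin_cases i; exact hx) (by norm_num)
  have hyx : f y x = 0 := hyo 0
  by_cases q2 : f y y = 0
  · exact ⟨y, hy, hy0, q2⟩
  obtain ⟨z, hz, hz0, hzo⟩ := S.orth ![x, y] (fun i => by fin_cases i; exacts [hx, hy]) (by norm_num)
  have hzx : f z x = 0 := hzo 0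
  have hzy : f z y = 0 := hzo 1
  obtain ⟨⟨a, ha⟩, ⟨b, hb⟩, hab⟩ := exists_quad_root (⟨f z z, S.rat z z hz hz⟩ : F₀)
    ⟨f x x, S.rat _ _ hx hx⟩ ⟨f y y, S.rat _ _ hy hy⟩ (fun e => q1 (congrArg Subtype.val e))
    (fun e => q2 (congrArg Subtype.val e))
  have hab' : f z z + f x x * a ^ 2 + f y y * b ^ 2 = 0 := congrArg Subtype.val hab
  refine ⟨z + a • x + b • y, rat_add (rat_add hz (hx.smul ha)) (hy.smul hb), fun e => ?_, ?_⟩
  · have e1 := congrArg (fun v => f v x) e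
    have e2 := congrArg (fun v => f v y) e
    simp [hf.add_left, hf.smul_left, form_zero_left S.hl, hzx, hzy, hyx, swap_eq_zero hf hyx, q1, q2] at e1 e2
    rw [e1, e2] at e
    exact hz0 (by simpa using e)
  · simp only [hf.add_left, add_right hf, hf.smul_left, smul_right hf, S.sig ha, S.sig hb, hyx, hzx, hzy,
      swap_eq_zero hf hyx, swap_eq_zero hf hzx, swap_eq_zero hf hzy]
    linear_combination hab'

theorem card_field [Finite F] : Nat.card F = Nat.card F₀ ^ 2 := by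
  rw [sq, ← Nat.card_prod]
  refine (Nat.card_congr (Equiv.ofBijective (fun ab : F₀ × F₀ => (ab.1 : F) + ε * ab.2) ⟨fun p p' e => ?_, fun x => ?_⟩)).symm
  · obtain ⟨e1, e2⟩ := S.split_unique p.1.2 p.2.2 p'.1.2 p'.2.2 e
    exact Prod.ext (Subtype.ext e1) (Subtype.ext e2)
  · obtain ⟨a, b, ha, hb, rfl⟩ := S.split_scalar x
    exact ⟨(⟨a, ha⟩, ⟨b, hb⟩), rfl⟩

theorem card_trace [Finite F] : Nat.card {x : F // x + σ x = 0} ≤ Nat.card F₀ := by
  refine Nat.card_le_card_of_injective (fun x => (⟨x.1 / ε, (S.fix _).1 ?_⟩ : F₀)) fun x y e => Subtype.ext ?_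
  · rw [map_div₀, S.eps, eq_neg_of_add_eq_zero_right x.2, neg_div_neg_eq]
  · exact (div_left_inj' S.eps0).1 (congrArg Subtype.val e)

theorem card_plane [Finite F] (E : Frame4 F₀ f) : Nat.card {y : Fin 4 → F // InW E y} = Nat.card F₀ ^ 2 := by
  have hf := S.herm
  rw [sq, ← Nat.card_prod]
  refine (Nat.card_congr (Equiv.ofBijective (fun ab : F₀ × F₀ => (⟨(ab.1 : F) • E.r + (ab.2 : F) • E.s,
    rat_add (E.rr.smul ab.1.2) (E.rs'.smul ab.2.2), by simp [hf.add_left, hf.smul_left, E.rw0, E.sw],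
    by simp [hf.add_left, hf.smul_left, E.rv0, E.sv]⟩ : {y : Fin 4 → F // InW E y})) ⟨fun p p' e => ?_, fun y => ?_⟩)).symm
  · have e' : (p.1 : F) • E.r + (p.2 : F) • E.s = (p'.1 : F) • E.r + (p'.2 : F) • E.s := congrArg Subtype.val e
    have e1 := congrArg (fun z => f z E.r) e'
    have e2 := congrArg (fun z => f z E.s) e'
    simp [hf.add_left, hf.smul_left, E.rs, E.sr, E.ra, E.sb] at e1 e2
    exact Prod.ext e1 e2
  · exact ⟨(⟨f y.1 E.r / f E.r E.r, div_mem (S.rat _ _ y.2.1 E.rr) (S.rat _ _ E.rr E.rr)⟩,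
      ⟨f y.1 E.s / f E.s E.s, div_mem (S.rat _ _ y.2.1 E.rs') (S.rat _ _ E.rs' E.rs')⟩),
      Subtype.ext (S.inW_coord E y.2).symm⟩

include hG

/-- Irrational images are orthogonal to no rational isotropic vector. -/
theorem orth_irr [Finite F] {g : GL (Fin 4) F} (hg : g ∈ M) {p w : Fin 4 → F} (hp : Rat F₀ p) (hp0 : p ≠ 0)
    (hpp : f p p = 0) (hw : Rat F₀ w) (hw0 : w ≠ 0) (hww : f w w = 0)
    (h : f ((g : Matrix (Fin 4) (Fin 4) F) *ᵥ p) w = 0) : RatUpTo F₀ g := by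
  have hf := S.herm
  obtain ⟨E, rfl⟩ := S.exists_frame hw hw0 hww
  obtain ⟨a, ha⟩ : ∃ a, a = (g : Matrix (Fin 4) (Fin 4) F) *ᵥ p := ⟨_, rfl⟩
  rw [← ha] at h
  have hkp : ∀ k : GL (Fin 4) F, (k : Matrix (Fin 4) (Fin 4) F) *ᵥ a = a →
      ((g⁻¹ * k * g : GL (Fin 4) F) : Matrix (Fin 4) (Fin 4) F) *ᵥ p = p := fun k hk => by
    rw [gl_mul_mulVec, gl_mul_mulVec, ← ha, hk, ha, gl_inv_mulVec]
  by_cases hy : ∃ y, InW E y ∧ y ≠ 0 ∧ f a y = 0
  · obtain ⟨y, hy, hy0, hay⟩ := hy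
    obtain ⟨u, hu, huS, -, -⟩ := S.exists_unip E.rw' hy.1 E.ww hy.2.1
    have hua : (u : Matrix (Fin 4) (Fin 4) F) *ᵥ a = a := by rw [huS, h, hay]; simp
    refine S.semireg hG E hy hy0 hg huS (S.point_rat hG (M.mul_mem (M.mul_mem (M.inv_mem hg) hu) hg) hp hp0 hpp
      one_ne_zero ?_)
    rw [one_smul, hkp u hua]
    exact hp
  obtain ⟨t, ht, ht0, ht1⟩ := S.exists_scalar
  obtain ⟨T, hT, -, hTu⟩ := S.exists_torus E ht ht0
  obtain ⟨a1, a2, ha1, ha2, hA⟩ := S.split_scalar (f a E.r)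
  obtain ⟨b1, b2, hb1, hb2, hB⟩ := S.split_scalar (f a E.s)
  obtain ⟨t1, t2, ht1', ht2', hT'⟩ := S.split_scalar ((t - 1) * f a E.v)
  have hcomb : ∀ α β : F, α ∈ F₀ → β ∈ F₀ → InW E (α • E.r + β • E.s) ∧
      f a (α • E.r + β • E.s) = α * f a E.r + β * f a E.s := fun α β hα hβ =>
    ⟨⟨rat_add (E.rr.smul hα) (E.rs'.smul hβ), by simp [hf.add_left, hf.smul_left, E.rw0, E.sw],
      by simp [hf.add_left, hf.smul_left, E.rv0, E.sv]⟩,
      by rw [add_right hf, smul_right hf, smul_right hf, S.sig hα, S.sig hβ]⟩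
  have hdet : a1 * b2 - a2 * b1 ≠ 0 := by
    intro h0
    have hzero : ∀ α β : F, α ∈ F₀ → β ∈ F₀ → α * f a E.r + β * f a E.s = 0 → α = 0 ∧ β = 0 := by
      intro α β hα hβ he
      by_contra hne
      refine hy ⟨_, (hcomb α β hα hβ).1, fun e0 => hne ?_, by rw [(hcomb α β hα hβ).2, he]⟩
      have e1 := congrArg (fun z => f z E.r) e0
      have e2 := congrArg (fun z => f z E.s) e0
      simp [hf.add_left, hf.smul_left, form_zero_left S.hl, E.rs, E.sr, E.ra, E.sb] at e1 e2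
      exact ⟨e1, e2⟩
    obtain ⟨hb20, ha20⟩ := hzero b2 (-a2) hb2 (neg_mem ha2) (by rw [hA, hB]; linear_combination h0)
    rw [neg_eq_zero] at ha20
    rw [ha20, mul_zero, add_zero] at hA
    rw [hb20, mul_zero, add_zero] at hB
    obtain ⟨hb10, ha10⟩ := hzero b1 (-a1) hb1 (neg_mem ha1) (by rw [hA, hB]; ring)
    exact one_ne_zero (hzero 1 0 (one_mem _) (zero_mem _) (by rw [hA, neg_eq_zero.1 ha10]; ring)).1
  obtain ⟨α, hαd⟩ : ∃ α, α = (t1 * b2 - t2 * b1) / (a1 * b2 - a2 * b1) := ⟨_, rfl⟩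
  obtain ⟨β, hβd⟩ : ∃ β, β = (a1 * t2 - a2 * t1) / (a1 * b2 - a2 * b1) := ⟨_, rfl⟩
  have hden := sub_mem (mul_mem ha1 hb2) (mul_mem ha2 hb1)
  have hαm : α ∈ F₀ := hαd ▸ div_mem (sub_mem (mul_mem ht1' hb2) (mul_mem ht2' hb1)) hden
  have hβm : β ∈ F₀ := hβd ▸ div_mem (sub_mem (mul_mem ha1 ht2') (mul_mem ha2 ht1')) hden
  obtain ⟨hyW, hay⟩ := hcomb α β hαm hβm
  obtain ⟨y, hyd⟩ : ∃ y, y = α • E.r + β • E.s := ⟨_, rfl⟩
  rw [← hyd] at hyW hay
  have hay' : f a y = (t - 1) * f a E.v := by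
    rw [hay, hA, hB, hT', hαd, hβd, div_mul_eq_mul_div, div_mul_eq_mul_div, ← add_div, div_eq_iff hdet]; ring
  obtain ⟨u, hu, huS, -, -⟩ := S.exists_unip E.rw' hyW.1 E.ww hyW.2.1
  obtain ⟨G, hGd⟩ : ∃ G, G = u * T := ⟨_, rfl⟩
  have hGM : G ∈ M := hGd ▸ M.mul_mem hu hT
  have hGx : ∀ x, f x E.w = 0 → (G : Matrix (Fin 4) (Fin 4) F) *ᵥ x = x + ((t - 1) * f x E.v - f x y) • E.w := by
    intro x hx
    rw [hGd, gl_mul_mulVec, hTu, hx, huS]
    simp only [hf.add_left, hf.smul_left, hx, E.ww, swap_eq_zero hf hyW.2.1, mul_zero, add_zero]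
    module
  have hGa : (G : Matrix (Fin 4) (Fin 4) F) *ᵥ a = a := by rw [hGx a h, hay', sub_self, zero_smul, add_zero]
  have hGw : (G : Matrix (Fin 4) (Fin 4) F) *ᵥ E.w = t • E.w := by
    rw [hGx _ E.ww, E.wv, swap_eq_zero hf hyW.2.1]; module
  have heig : ∀ x, (G : Matrix (Fin 4) (Fin 4) F) *ᵥ x = t • x → ∃ ν : F, x = ν • E.w := by
    intro x hx
    have hxw : f x E.w = 0 := by
      have e := S.iso G hGM x E.w
      rw [hx, hGw, hf.smul_left, smul_right hf, S.sig ht, ← mul_assoc] at e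
      exact (mul_eq_zero.1 (show (t * t - 1) * f x E.w = 0 by linear_combination e)).resolve_left (sub_ne_zero.2 ht1)
    rw [hGx x hxw] at hx
    have ht10 : t - 1 ≠ 0 := sub_ne_zero.2 fun e => ht1 (by rw [e, mul_one])
    refine ⟨(t - 1)⁻¹ * ((t - 1) * f x E.v - f x y), ?_⟩
    rw [mul_smul, show ((t - 1) * f x E.v - f x y) • E.w = (t - 1) • x by rw [sub_smul t 1, one_smul, ← hx, add_sub_cancel_left],
      inv_smul_smul₀ ht10]
  obtain ⟨k, hk⟩ : ∃ k, k = g⁻¹ * G * g := ⟨_, rfl⟩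
  have hkfix : (k : Matrix (Fin 4) (Fin 4) F) *ᵥ p = p := hk ▸ hkp G hGa
  have hkM : k ∈ M := hk ▸ M.mul_mem (M.mul_mem (M.inv_mem hg) hGM) hg
  obtain ⟨κ, hκ, hκk⟩ := S.point_rat hG hkM hp hp0 hpp one_ne_zero (by rw [one_smul, hkfix]; exact hp)
  have hκF : κ ∈ F₀ := by
    have h1 := rat_mulVec hκk hp
    rw [hkfix] at h1
    obtain ⟨i, hi⟩ := Function.ne_iff.1 hp0
    simpa [mul_assoc, mul_inv_cancel₀ (show p i ≠ 0 from hi)] using mul_mem (h1 i) (inv_mem (hp i))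
  have hkent : ∀ i j, (k : Matrix (Fin 4) (Fin 4) F) i j ∈ F₀ := fun i j => by
    have := mul_mem (inv_mem hκF) (hκk i j)
    rwa [← mul_assoc, inv_mul_cancel₀ hκ, one_mul] at this
  obtain ⟨x, hx⟩ : ∃ x, x = ((g⁻¹ : GL (Fin 4) F) : Matrix (Fin 4) (Fin 4) F) *ᵥ E.w := ⟨_, rfl⟩
  have hkx : (k : Matrix (Fin 4) (Fin 4) F) *ᵥ x = t • x := by
    rw [hk, gl_mul_mulVec, gl_mul_mulVec, hx, gl_mulVec_inv, hGw, mulVec_smul]
  have hkσ : (k : Matrix (Fin 4) (Fin 4) F) *ᵥ (fun i => σ (x i)) = t • fun i => σ (x i) := funext fun i => by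
    have h1 := congrArg σ (congrFun hkx i)
    simp only [mulVec, dotProduct, map_sum, map_mul, Pi.smul_apply, smul_eq_mul, S.sig ht, S.sig (hkent _ _)] at h1 ⊢
    exact h1
  obtain ⟨ν, hν⟩ := heig ((g : Matrix (Fin 4) (Fin 4) F) *ᵥ fun i => σ (x i)) (by
    have e : ∀ z, (G : Matrix (Fin 4) (Fin 4) F) *ᵥ ((g : Matrix (Fin 4) (Fin 4) F) *ᵥ z) =
        (g : Matrix (Fin 4) (Fin 4) F) *ᵥ ((k : Matrix (Fin 4) (Fin 4) F) *ᵥ z) := fun z => by
      rw [hk, gl_mul_mulVec, gl_mul_mulVec, gl_mulVec_inv]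
    rw [e, hkσ, mulVec_smul])
  have hσx : (fun i => σ (x i)) = ν • x := gl_mulVec_injective g (by
    show (g : Matrix (Fin 4) (Fin 4) F) *ᵥ _ = (g : Matrix (Fin 4) (Fin 4) F) *ᵥ _
    rw [mulVec_smul, hν, hx, gl_mulVec_inv])
  have hwne := S.w_ne E
  have hx0 : x ≠ 0 := fun e => hwne (by rw [← gl_mulVec_inv g E.w, ← hx, e, mulVec_zero])
  obtain ⟨i, hi⟩ := Function.ne_iff.1 hx0
  have hν0 : ν ≠ 0 := fun e => hi (σ.injective (by
    have := congrFun hσx i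
    rw [Pi.smul_apply, e, zero_smul] at this
    rw [this, Pi.zero_apply, map_zero]))
  have hx' : Rat F₀ ((x i)⁻¹ • x) := fun j => (S.fix _).1 (by
    rw [Pi.smul_apply, smul_eq_mul, map_mul, map_inv₀, show σ (x i) = ν * x i from congrFun hσx i,
      show σ (x j) = ν * x j from congrFun hσx j]
    field_simp)
  have hxx : f x x = 0 := by rw [← S.iso g hg, hx, gl_mulVec_inv, E.ww]
  exact S.point_rat hG hg hx' (smul_ne_zero (inv_ne_zero hi) hx0)
    (by rw [hf.smul_left, smul_right hf, hxx, mul_zero, mul_zero]) (l := x i) hi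
    (by rw [mulVec_smul, smul_inv_smul₀ hi, hx, gl_mulVec_inv]; exact E.rw')

/-- Every element is rational up to a scalar. -/
theorem rigid [Finite F] {g₀ : GL (Fin 4) F} (hg₀ : g₀ ∈ M) : RatUpTo F₀ g₀ := by
  classical
  by_contra hirr
  have hf := S.herm
  have h2 := S.two
  obtain ⟨w₀, hw₀, hw₀0, hw₀w⟩ := S.exists_iso
  obtain ⟨E, rfl⟩ := S.exists_frame hw₀ hw₀0 hw₀w
  have hwne := S.w_ne E
  -- an isotropic basis of the plane
  obtain ⟨κ, hκ⟩ := exists_norm hf (r := -(f E.r E.r) / f E.s E.s)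
    (by rw [map_div₀, map_neg, self_fixed hf, self_fixed hf])
  have hκ' : κ * σ κ * f E.s E.s = -(f E.r E.r) := by rw [hκ, div_mul_cancel₀ _ E.sb]
  obtain ⟨Z, hZ⟩ : ∃ Z, Z = E.r + κ • E.s := ⟨_, rfl⟩
  obtain ⟨Z', hZ'⟩ : ∃ Z, Z = (2 * f E.r E.r)⁻¹ • (E.r + (-κ) • E.s) := ⟨_, rfl⟩
  have hpair : ∀ a b : Fin 4 → F,
      f a b = f a E.v * σ (f b E.w) + f a E.w * σ (f b E.v) + f a Z' * σ (f b Z) + f a Z * σ (f b Z') := by
    intro a b
    conv_lhs => rw [S.coord E a]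
    simp only [hZ, hZ', hf.add_left, hf.smul_left, add_right hf, smul_right hf, map_add, map_mul, map_neg, map_inv₀,
      map_ofNat, self_fixed hf, hf.involutive, ← hf.herm]
    have hra := E.ra
    have hsb := E.sb
    field_simp
    linear_combination (2 * f a E.s * f E.s b) * hκ'
  obtain ⟨C, hC⟩ : ∃ C : Set (Fin 4 → F), C = {a | f a E.w = 1 ∧ ∃ g ∈ M, ¬ RatUpTo F₀ g ∧ ∃ p, Rat F₀ p ∧ p ≠ 0 ∧
      f p p = 0 ∧ ∃ l : F, l ≠ 0 ∧ a = l • ((g : Matrix (Fin 4) (Fin 4) F) *ᵥ p)} := ⟨_, rfl⟩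
  have hCmem : ∀ g ∈ M, ¬ RatUpTo F₀ g → ∀ p, Rat F₀ p → p ≠ 0 → f p p = 0 →
      ((f ((g : Matrix (Fin 4) (Fin 4) F) *ᵥ p) E.w)⁻¹ • ((g : Matrix (Fin 4) (Fin 4) F) *ᵥ p)) ∈ C := by
    intro g hg hgi p hp hp0 hpp
    have hne : f ((g : Matrix (Fin 4) (Fin 4) F) *ᵥ p) E.w ≠ 0 := fun e =>
      hgi (S.orth_irr hG hg hp hp0 hpp E.rw' hwne E.ww e)
    rw [hC]
    exact ⟨by rw [hf.smul_left, inv_mul_cancel₀ hne], g, hg, hgi, p, hp, hp0, hpp, _, inv_ne_zero hne, rfl⟩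
  have hCiso : ∀ a ∈ C, f a a = 0 := by
    intro a ha
    rw [hC] at ha
    obtain ⟨-, g, hg, -, p, -, -, hpp, l, -, rfl⟩ := ha
    rw [hf.smul_left, smul_right hf, S.iso g hg, hpp, mul_zero, mul_zero]
  have hCw : ∀ a ∈ C, f a E.w = 1 := fun a ha => by rw [hC] at ha; exact ha.1
  -- keys
  let K := F × {x : F // x + σ x = 0}
  let key : C → K := fun a => (f a.1 Z, ⟨f a.1 E.v + σ (f a.1 Z) * f a.1 Z', by
    have h := hpair a.1 a.1
    rw [hCiso _ a.2, hCw _ a.2, map_one, mul_one, one_mul] at h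
    rw [map_add, map_mul, hf.involutive]
    linear_combination -h⟩)
  have horth : ∀ a b : C, key a = key b → f a.1 b.1 = 0 := by
    intro a b e
    obtain ⟨e1, e2⟩ := Prod.ext_iff.1 e
    have e1' : f a.1 Z = f b.1 Z := e1
    have e2' : f a.1 E.v + σ (f a.1 Z) * f a.1 Z' = f b.1 E.v + σ (f b.1 Z) * f b.1 Z' := congrArg Subtype.val e2
    have hb : f b.1 E.v + σ (f b.1 Z) * f b.1 Z' + σ (f b.1 E.v + σ (f b.1 Z) * f b.1 Z') = 0 := (key b).2.2
    rw [hpair, hCw _ a.2, hCw _ b.2, map_one, mul_one, one_mul, e1']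
    rw [e1'] at e2'
    rw [map_add, map_mul, hf.involutive] at hb
    linear_combination e2' + hb
  have := Fintype.ofFinite F
  haveI : Finite C := Subtype.finite
  haveI : Nonempty K := ⟨(0, ⟨0, by simp⟩)⟩
  obtain ⟨k₀, hk₀⟩ := Finite.exists_max (fun k : K => Nat.card {a : C // key a = k})
  obtain ⟨m, hm⟩ : ∃ m, m = Nat.card {a : C // key a = k₀} := ⟨_, rfl⟩
  obtain ⟨q, hq⟩ : ∃ q, q = Nat.card F₀ := ⟨_, rfl⟩
  have hKcard : Nat.card K ≤ q ^ 3 := by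
    rw [Nat.card_prod, S.card_field, ← hq, pow_succ]
    exact Nat.mul_le_mul_left _ (hq ▸ S.card_trace)
  have hupper : Nat.card C ≤ q ^ 3 * m := by
    have := Fintype.ofFinite K
    rw [← Nat.card_congr (Equiv.sigmaFiberEquiv key), Nat.card_sigma]
    calc ∑ k, Nat.card {a : C // key a = k} ≤ ∑ _k : K, m :=
          Finset.sum_le_sum fun k _ => hm ▸ hk₀ k
      _ = Nat.card K * m := by simp [Nat.card_eq_fintype_card]
      _ ≤ q ^ 3 * m := Nat.mul_le_mul_right _ hKcard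
  have hC0 := hCmem g₀ hg₀ hirr E.w E.rw' hwne E.ww
  obtain ⟨a₀, ha₀⟩ : ∃ a : C, key a = k₀ := by
    by_contra hnone
    push Not at hnone
    have h0 : m = 0 := by
      rw [hm, Nat.card_eq_zero]; exact Or.inl ⟨fun a => hnone a.1 a.2⟩
    have : 0 < Nat.card C := by
      haveI : Nonempty C := ⟨⟨_, hC0⟩⟩
      exact Nat.card_pos
    rw [h0, mul_zero] at hupper
    omega
  have ha₀C : a₀.1 ∈ {a : Fin 4 → F | f a E.w = 1 ∧ ∃ g ∈ M, ¬ RatUpTo F₀ g ∧ ∃ p, Rat F₀ p ∧ p ≠ 0 ∧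
      f p p = 0 ∧ ∃ l : F, l ≠ 0 ∧ a = l • ((g : Matrix (Fin 4) (Fin 4) F) *ᵥ p)} := (Set.ext_iff.1 hC a₀.1).1 a₀.2
  obtain ⟨-, g, hg, hgi, p, hp, hp0, hpp, l, hl, hal⟩ := ha₀C
  obtain ⟨Ep, rfl⟩ := S.exists_frame hp hp0 hpp
  -- rational preimages of the fibre
  have himg : ∀ b : {a : C // key a = k₀}, ∃ n : Fin 4 → F, Rat F₀ n ∧ n ≠ 0 ∧ f n n = 0 ∧ f n Ep.w = 0 ∧
      ∃ μ : F, μ ≠ 0 ∧ b.1.1 = μ • ((g : Matrix (Fin 4) (Fin 4) F) *ᵥ n) := by
    intro b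
    have ho : f a₀.1 b.1.1 = 0 := horth a₀ b.1 (ha₀.trans b.2.symm)
    have hb := (Set.ext_iff.1 hC b.1.1).1 b.1.2
    obtain ⟨-, gb, hgb, -, pb, hpb, hpb0, hpbp, lb, hlb, hbl⟩ := hb
    obtain ⟨n₀, hn₀⟩ : ∃ n, n = ((g⁻¹ * gb : GL (Fin 4) F) : Matrix (Fin 4) (Fin 4) F) *ᵥ pb := ⟨_, rfl⟩
    have hn₀p : f n₀ Ep.w = 0 := by
      rw [hal, hbl, hf.smul_left, smul_right hf] at ho
      have e := (mul_eq_zero.1 ((mul_eq_zero.1 ho).resolve_left hl)).resolve_left (by simpa using hlb)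
      rw [hn₀, ← S.iso g hg, gl_mul_mulVec, gl_mulVec_inv]
      exact swap_eq_zero hf e
    obtain ⟨κ', hκ'', hκr⟩ := S.orth_irr hG (M.mul_mem (M.inv_mem hg) hgb) hpb hpb0 hpbp Ep.rw' (S.w_ne Ep) Ep.ww
      (hn₀ ▸ hn₀p)
    refine ⟨κ' • n₀, hn₀ ▸ rat_mulVec hκr hpb, ?_, ?_, ?_, lb * κ'⁻¹, mul_ne_zero hlb (inv_ne_zero hκ''), ?_⟩
    · rw [hn₀]
      exact smul_ne_zero hκ'' fun e => hpb0 (gl_mulVec_injective (g⁻¹ * gb) (by simpa using e))
    · rw [hf.smul_left, smul_right hf, hn₀, S.iso _ (M.mul_mem (M.inv_mem hg) hgb), hpbp, mul_zero, mul_zero]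
    · rw [hf.smul_left, hn₀p, mul_zero]
    · rw [hbl, mulVec_smul, smul_smul, mul_assoc, inv_mul_cancel₀ hκ'', mul_one, hn₀, gl_mul_mulVec, gl_mulVec_inv]
  choose n hnr hn0 hnn hnp μ hμ0 hμ using himg
  have hninj : ∀ b b' (ν : F), n b' = ν • n b → b = b' := by
    intro b b' ν e
    have e1 : b'.1.1 = (μ b' * ν * (μ b)⁻¹) • b.1.1 := by
      conv_lhs => rw [hμ b', e, mulVec_smul, smul_smul]
      rw [hμ b, smul_smul, mul_assoc, inv_mul_cancel₀ (hμ0 b), mul_one]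
    have e2 := congrArg (fun z => f z E.w) e1
    simp only [hf.smul_left, hCw _ b'.1.2, hCw _ b.1.2, mul_one] at e2
    rw [← e2, one_smul] at e1
    exact Subtype.ext (Subtype.ext e1.symm)
  have hnorth : ∀ b b', f (n b) (n b') = 0 := by
    intro b b'
    have h := horth b.1 b'.1 (b.2.trans b'.2.symm)
    rw [hμ b, hμ b', hf.smul_left, smul_right hf, S.iso g hg] at h
    exact (mul_eq_zero.1 ((mul_eq_zero.1 h).resolve_left (hμ0 b))).resolve_left (by simpa using hμ0 b')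
  have hmle : m ≤ q + 1 := by
    have := Fintype.ofFinite F₀
    have hopt : Nat.card (Option F₀) = q + 1 := by
      rw [hq, Nat.card_eq_fintype_card, Fintype.card_option, Nat.card_eq_fintype_card]
    rw [hm, ← hopt]
    let θ : {a : C // key a = k₀} → Option F₀ := fun b =>
      if f (n b) Ep.r = 0 then none else some ⟨f (n b) Ep.v / f (n b) Ep.r,
        div_mem (S.rat _ _ (hnr b) Ep.rv) (S.rat _ _ (hnr b) Ep.rr)⟩
    refine Nat.card_le_card_of_injective θ fun b b' e => ?_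
    have hfull : ∀ a, n a = f (n a) Ep.v • Ep.w + (f (n a) Ep.r / f Ep.r Ep.r) • Ep.r +
        (f (n a) Ep.s / f Ep.s Ep.s) • Ep.s := fun a => by
      conv_lhs => rw [S.coord Ep (n a), hnp]
      module
    have hrel : ∀ a a', f Ep.s Ep.s * f (n a) Ep.r * f (n a') Ep.r + f Ep.r Ep.r * f (n a) Ep.s * f (n a') Ep.s = 0 := by
      intro a a'
      have h := hnorth a a'
      rw [hfull a] at h
      simp only [hf.add_left, hf.smul_left, swap_eq_zero hf (hnp a'), S.comm Ep.rr (hnr a'),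
        S.comm Ep.rs' (hnr a'), mul_zero, zero_add] at h
      have hra := Ep.ra
      have hsb := Ep.sb
      field_simp at h
      linear_combination h
    have hzero : ∀ a, f (n a) Ep.r = 0 → f (n a) Ep.s = 0 := fun a h => by
      have h' := hrel a a
      rw [h, mul_zero, zero_add, mul_assoc, mul_eq_zero, mul_self_eq_zero] at h'
      exact h'.resolve_left Ep.ra
    simp only [θ] at e
    by_cases hb : f (n b) Ep.r = 0
    · rw [if_pos hb] at e
      have hb' : f (n b') Ep.r = 0 := by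
        by_contra h; rw [if_neg h] at e; exact Option.some_ne_none _ e.symm
      have h1 := hfull b
      have h1' := hfull b'
      rw [hb, hzero b hb, zero_div, zero_div, zero_smul, zero_smul, add_zero, add_zero] at h1
      rw [hb', hzero b' hb', zero_div, zero_div, zero_smul, zero_smul, add_zero, add_zero] at h1'
      have hv0 : f (n b) Ep.v ≠ 0 := fun h => hn0 b (by rw [h1, h, zero_smul])
      have key' : n b' = (f (n b') Ep.v / f (n b) Ep.v) • (f (n b) Ep.v • Ep.w) := by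
        rw [smul_smul, div_mul_cancel₀ _ hv0]; exact h1'
      exact hninj b b' _ (key'.trans (congrArg (fun z => (f (n b') Ep.v / f (n b) Ep.v) • z) h1.symm))
    · have hb' : f (n b') Ep.r ≠ 0 := fun h => by
        rw [if_pos h, if_neg hb] at e; exact Option.some_ne_none _ e
      rw [if_neg hb, if_neg hb'] at e
      have e' : f (n b) Ep.v / f (n b) Ep.r = f (n b') Ep.v / f (n b') Ep.r :=
        congrArg Subtype.val (Option.some_injective _ e)
      rw [div_eq_div_iff hb hb'] at e'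
      have hs1 := hrel b b
      have hs2 := hrel b b'
      have hbs : f (n b) Ep.s ≠ 0 := fun h => by
        rw [h, mul_zero, add_zero, mul_assoc, mul_eq_zero, mul_self_eq_zero] at hs1
        exact hb (hs1.resolve_left Ep.sb)
      have hss : f (n b') Ep.s * f (n b) Ep.r = f (n b') Ep.r * f (n b) Ep.s :=
        mul_left_cancel₀ (mul_ne_zero Ep.ra hbs) (by linear_combination f (n b) Ep.r * hs2 - f (n b') Ep.r * hs1)
      suffices key' : n b' = (f (n b') Ep.r / f (n b) Ep.r) • (f (n b) Ep.v • Ep.w +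
          (f (n b) Ep.r / f Ep.r Ep.r) • Ep.r + (f (n b) Ep.s / f Ep.s Ep.s) • Ep.s) from
        hninj b b' _ (key'.trans (congrArg (fun z => (f (n b') Ep.r / f (n b) Ep.r) • z) (hfull b).symm))
      conv_lhs => rw [hfull b']
      have hra := Ep.ra
      have hsb := Ep.sb
      match_scalars <;>
        first | (field_simp; done) | (field_simp; first | linear_combination hss | linear_combination -e' | linear_combination e' | ring)
  -- lower bound
  let J := {y : Fin 4 → F // InW Ep y} ⊕ {a : C // key a = k₀}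
  let Φ : J → (Fin 4 → F) := Sum.elim (fun y => Ep.v + y.1 + (-(f y.1 y.1) / 2) • Ep.w) n
  have hΦ : ∀ j, Rat F₀ (Φ j) ∧ Φ j ≠ 0 ∧ f (Φ j) (Φ j) = 0 := by
    rintro (⟨y, hy⟩ | b)
    · have hQ := S.rat _ _ hy.1 hy.1
      have hcQ : -(f y y) / 2 ∈ F₀ := div_mem (neg_mem hQ) S.two_mem
      refine ⟨rat_add (rat_add Ep.rv hy.1) (Ep.rw'.smul hcQ), fun e => ?_, ?_⟩
      · have := congrArg (fun z => f z Ep.w) e
        simp [Φ, hf.add_left, hf.smul_left, form_zero_left S.hl, Ep.vw, Ep.ww, hy.2.1] at this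
      · simp only [Φ, Sum.elim_inl, hf.add_left, add_right hf, hf.smul_left, smul_right hf, Ep.vv, Ep.vw, Ep.wv,
          Ep.ww, hy.2.1, hy.2.2, swap_eq_zero hf hy.2.1, swap_eq_zero hf hy.2.2, S.sig hcQ]
        field_simp
        ring
    · exact ⟨hnr b, hn0 b, hnn b⟩
  have hΦinj : ∀ i j, ∀ ν : F, Φ j = ν • Φ i → i = j := by
    have hP : ∀ y : {y : Fin 4 → F // InW Ep y}, f (Φ (.inl y)) Ep.w = 1 := fun y => by
      simp [Φ, hf.add_left, hf.smul_left, Ep.vw, Ep.ww, y.2.2.1]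
    rintro (y | b) (y' | b') ν e
    · have e1 := congrArg (fun z => f z Ep.w) e
      simp only [hf.smul_left, hP, mul_one] at e1
      rw [← e1, one_smul] at e
      have e2 := congrArg (fun z => f z Ep.r) e
      have e3 := congrArg (fun z => f z Ep.s) e
      simp [Φ, hf.add_left, hf.smul_left, Ep.vr, Ep.wr, Ep.vs, Ep.ws] at e2 e3
      exact congrArg Sum.inl (Subtype.ext (by rw [S.inW_coord Ep y.2, S.inW_coord Ep y'.2, e2, e3]))
    · exfalso
      have e1 := congrArg (fun z => f z Ep.w) e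
      simp only [hf.smul_left, hP, mul_one, show f (Φ (.inr b')) Ep.w = 0 from hnp b'] at e1
      exact (hΦ (.inr b')).2.1 (by rw [e, ← e1, zero_smul])
    · exfalso
      have e1 := congrArg (fun z => f z Ep.w) e
      simp only [hf.smul_left, hP, show f (Φ (.inr b)) Ep.w = 0 from hnp b, mul_zero] at e1
      exact one_ne_zero e1
    · exact congrArg Sum.inr (hninj b b' ν e)
  have hU : ∀ y : {y : Fin 4 → F // InW E y}, ∃ u ∈ M, IsS f E.w y.1 (-(f y.1 y.1) / 2) u :=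
    fun y => by
      obtain ⟨u, hu, huS, -, -⟩ := S.exists_unip E.rw' y.2.1 E.ww y.2.2.1
      exact ⟨u, hu, huS⟩
  choose U hUM hUS using hU
  have hUirr : ∀ y, ¬ RatUpTo F₀ (U y * g₀) := fun y h => hirr (by
    have h1 := S.unip_rat hG (M.inv_mem (hUM y)) (IsS.inv hf (hUS y) E.ww y.2.2.1) E.rw' hwne E.ww
      (by rw [← neg_one_smul F y.1, hf.smul_left, y.2.2.1, mul_zero])
    have := ratUpTo_mul h1 h
    rwa [inv_mul_cancel_left] at this)
  let Ψ : {y : Fin 4 → F // InW E y} × J → C := fun yj =>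
    ⟨_, hCmem _ (M.mul_mem (hUM yj.1) hg₀) (hUirr yj.1) _ (hΦ yj.2).1 (hΦ yj.2).2.1 (hΦ yj.2).2.2⟩
  have hΨ : Function.Injective Ψ := by
    rintro ⟨y, i⟩ ⟨y', j⟩ e
    have e' := congrArg Subtype.val e
    obtain ⟨hi1, hi2, hi3⟩ := hΦ i
    obtain ⟨hj1, hj2, hj3⟩ := hΦ j
    obtain ⟨N, hN, hN0⟩ : ∃ N, N = f (((U y * g₀ : GL (Fin 4) F) : Matrix (Fin 4) (Fin 4) F) *ᵥ Φ i) E.w ∧ N ≠ 0 :=
      ⟨_, rfl, fun h => hUirr y (S.orth_irr hG (M.mul_mem (hUM y) hg₀) hi1 hi2 hi3 E.rw' hwne E.ww h)⟩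
    obtain ⟨N', hN', hN0'⟩ : ∃ N, N = f (((U y' * g₀ : GL (Fin 4) F) : Matrix (Fin 4) (Fin 4) F) *ᵥ Φ j) E.w ∧ N ≠ 0 :=
      ⟨_, rfl, fun h => hUirr y' (S.orth_irr hG (M.mul_mem (hUM y') hg₀) hj1 hj2 hj3 E.rw' hwne E.ww h)⟩
    simp only [Ψ, ← hN, ← hN'] at e'
    obtain ⟨k, hk⟩ : ∃ k, k = g₀⁻¹ * ((U y')⁻¹ * U y) * g₀ := ⟨_, rfl⟩
    have hki : (k : Matrix (Fin 4) (Fin 4) F) *ᵥ Φ i = (N * N'⁻¹) • Φ j := by
      refine gl_mulVec_injective (U y' * g₀) ?_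
      show ((U y' * g₀ : GL (Fin 4) F) : Matrix (Fin 4) (Fin 4) F) *ᵥ _ = _
      rw [← gl_mul_mulVec, show U y' * g₀ * k = U y * g₀ by rw [hk]; group]
      show _ = ((U y' * g₀ : GL (Fin 4) F) : Matrix (Fin 4) (Fin 4) F) *ᵥ _
      rw [mulVec_smul, mul_smul, ← e', smul_inv_smul₀ hN0]
    have hne : N * N'⁻¹ ≠ 0 := mul_ne_zero hN0 (inv_ne_zero hN0')
    have hkR : RatUpTo F₀ k := S.point_rat hG (hk ▸ M.mul_mem (M.mul_mem (M.inv_mem hg₀)
      (M.mul_mem (M.inv_mem (hUM y')) (hUM y))) hg₀) hi1 hi2 hi3 (inv_ne_zero hne)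
      (by rw [hki, inv_smul_smul₀ hne]; exact hj1)
    have hyy : y = y' := by
      by_contra hne'
      have hd : InW E (y.1 - y'.1) := ⟨y.2.1.sub y'.2.1, by rw [form_sub_left S.hl, y.2.2.1, y'.2.2.1, sub_zero],
        by rw [form_sub_left S.hl, y.2.2.2, y'.2.2.2, sub_zero]⟩
      have hS := IsS.mul hf (IsS.inv hf (hUS y') E.ww y'.2.2.1) (hUS y) E.ww
        (by rw [← neg_one_smul F y'.1, hf.smul_left, y'.2.2.1, mul_zero]) y.2.2.1
      have hc : -(-(f y'.1 y'.1) / 2) - f y'.1 y'.1 + -(f y.1 y.1) / 2 - f y.1 (-y'.1) =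
          -(f (y.1 - y'.1) (y.1 - y'.1)) / 2 := by
        rw [← neg_one_smul F y'.1, sub_eq_add_neg y.1, ← neg_one_smul F y'.1]
        simp only [hf.add_left, add_right hf, hf.smul_left, smul_right hf, map_neg, map_one, S.comm y'.2.1 y.2.1]
        field_simp
        ring
      rw [neg_add_eq_sub, hc] at hS
      exact hirr (S.semireg hG E hd (sub_ne_zero.2 fun h => hne' (Subtype.ext h)) hg₀ hS (hk ▸ hkR))
    subst hyy
    have hk1 : k = 1 := by rw [hk]; group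
    rw [hk1, Units.val_one, one_mulVec] at hki
    obtain rfl := hΦinj j i _ hki
    rfl
  have hlower : q ^ 2 * (q ^ 2 + m) ≤ Nat.card C := by
    have h := Nat.card_le_card_of_injective Ψ hΨ
    rwa [Nat.card_prod, Nat.card_sum, S.card_plane, S.card_plane, ← hq, ← hm] at h
  have h1 : q ^ 2 * (q ^ 2 + m) ≤ q ^ 2 * (q * m) :=
    le_trans hlower (le_trans hupper (le_of_eq (by ring)))
  have hq4 : 4 ≤ q := hq ▸ S.four
  have h3 := Nat.le_of_mul_le_mul_left h1 (by positivity)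
  obtain ⟨r, rfl⟩ : ∃ r, q = r + 1 := ⟨q - 1, by omega⟩
  have h5 := Nat.mul_le_mul_left r hmle
  nlinarith

omit hG in
/-- Rational points or everything. -/
theorem orth_type [Finite F] : (∀ g ∈ M, RatUpTo F₀ g) ∨ ∀ z, f z z = 0 → UnitCenter σ f M z := by
  by_cases hG : GoodV σ F₀ f M
  · obtain ⟨E, hE⟩ := S.center_of_good hG
    exact Or.inr fun z hz => S.center_all hE hz
  · exact Or.inl fun g hg => S.rigid hG hg

end Sym4

end Cfsg.Agent.Lib.SUFour96.OrthType
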