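import Cfsg.Agent.Lib.SUFour96.OrthBasic

/-!
Orthogonal type in dimension four: one irrational transvection at a rational centre gives all transvections.
-/

set_option autoImplicit false

namespace Cfsg.Agent.Lib.SUFour96.OrthType

open Matrix Cfsg.Agent.Lib.Subspaces.Transvection Cfsg.Agent.Lib.Subspaces.FormVec
  Cfsg.Agent.Lib.Subspaces.UnitaryForm Cfsg.Agent.Lib.Subspaces.UnitaryGen
  Cfsg.Agent.Lib.SubfieldMax.Linear Cfsg.Agent.Lib.SubfieldMax.RatLin
  Cfsg.Agent.Lib.SubfieldMax.Form Cfsg.Agent.Lib.SubfieldMax.SymForm Cfsg.Agent.Lib.SubfieldMax.Unitary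

variable {F : Type*} [Field F] {σ : F ≃+* F} {F₀ : Subfield F} {f : (Fin 4 → F) → (Fin 4 → F) → F} {ε : F}
  {M : Subgroup (GL (Fin 4) F)}

/-- The parameters of the elements of the group attached to `w`. -/
def InL4 (f : (Fin 4 → F) → (Fin 4 → F) → F) (M : Subgroup (GL (Fin 4) F)) (w x : Fin 4 → F) : Prop :=
  f x w = 0 ∧ ∃ c, ∃ g ∈ M, IsS f w x c g

namespace Sym4

variable (S : Sym4 σ F₀ f ε M)
include S

theorem eps_not_mem : ε ∉ F₀ := fun h => by
  have h1 := S.sig h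
  rw [S.eps] at h1
  exact S.eps0 ((mul_eq_zero.1 (show 2 * ε = 0 by linear_combination -h1)).resolve_left S.two)

theorem eps_sq : ε * ε ∈ F₀ := (S.fix _).1 (by rw [map_mul, S.eps]; ring)

theorem eps_sq_ne {m : F} (hm : m ∈ F₀) : m * m ≠ ε * ε := fun h =>
  (mul_self_eq_mul_self_iff.1 h).elim (fun e => S.eps_not_mem (e ▸ hm))
    fun e => S.eps_not_mem (by rw [← neg_neg ε, ← e]; exact neg_mem hm)

theorem split_scalar (α : F) : ∃ a b : F, a ∈ F₀ ∧ b ∈ F₀ ∧ α = a + ε * b := by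
  have := S.two
  have := S.eps0
  refine ⟨(α + σ α) / 2, (α - σ α) / (2 * ε), (S.fix _).1 ?_, (S.fix _).1 ?_, ?_⟩
  · simp only [map_div₀, map_add, S.herm.involutive, map_ofNat]; ring
  · simp only [map_div₀, map_sub, map_mul, S.herm.involutive, map_ofNat, S.eps]; field_simp; ring
  · field_simp; ring

theorem exists_scalar [Finite F] : ∃ t ∈ F₀, t ≠ 0 ∧ t * t ≠ 1 := by
  classical
  have := Fintype.ofFinite F₀
  by_contra h
  push Not at h
  have hsub : ∀ t : F₀, t = 0 ∨ t = 1 ∨ t = -1 := fun t => by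
    rcases eq_or_ne (t : F) 0 with h0 | h0
    · exact Or.inl (Subtype.ext h0)
    · rcases mul_self_eq_one_iff.1 (h _ t.2 h0) with e | e
      · exact Or.inr (Or.inl (Subtype.ext e))
      · exact Or.inr (Or.inr (Subtype.ext (by simpa using e)))
  have hle : Fintype.card F₀ ≤ 3 := le_trans
    (Finset.card_le_card (t := ({0, 1, -1} : Finset F₀)) (fun t _ => by
      rcases hsub t with e | e | e <;> simp [e])) Finset.card_le_three
  have := S.four
  rw [Nat.card_eq_fintype_card] at this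
  omega

/-- One parameter gives all. -/
theorem center_of_good [Finite F] (hG : GoodV σ F₀ f M) : ∃ E : Frame4 F₀ f, UnitCenter σ f M E.w := by
  obtain ⟨w, c, hw, hw0, hww, hc, hc0, hcM⟩ := hG
  have hf := S.herm
  obtain ⟨E, rfl⟩ := S.exists_frame hw hw0 hww
  refine ⟨E, hww, fun d hd => ?_⟩
  have hsq : ∀ t ∈ F₀, tv E.w ((c * (t * t)) • formVec f E.w) ∈ M := by
    intro t ht
    rcases eq_or_ne t 0 with rfl | ht0
    · rw [mul_zero, mul_zero, zero_smul, tv_zero_right]; exact M.one_mem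
    obtain ⟨g, hg, -, hgu⟩ := S.exists_torus E ht ht0
    have hgw : (g : Matrix (Fin 4) (Fin 4) F) *ᵥ E.w = t • E.w := by
      rw [hgu, E.ww, E.wv]; module
    have h := M.mul_mem (M.mul_mem hg hcM) (M.inv_mem hg)
    rw [conj_utv hf (S.iso g hg) hww, hgw] at h
    convert h using 1
    refine gl_ext fun x => ?_
    rw [utv_mulVec hf hww, utv_mulVec hf (by rw [← hgw, S.iso g hg, hww]), smul_right hf, S.sig ht]
    module
  obtain ⟨m, hm⟩ : ∃ m, m = d / c := ⟨_, rfl⟩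
  have hmF : m ∈ F₀ := (S.fix _).1 (by
    rw [hm, map_div₀, eq_neg_of_add_eq_zero_right hd, eq_neg_of_add_eq_zero_right hc, neg_div_neg_eq])
  have e : tv E.w (d • formVec f E.w) = tv E.w ((c * ((m + 1) / 2 * ((m + 1) / 2))) • formVec f E.w) *
      (tv E.w ((c * ((m - 1) / 2 * ((m - 1) / 2))) • formVec f E.w))⁻¹ := by
    rw [tv_inv (utv_dot hf hww _), tv_mul_center (utv_dot hf hww _) (by rw [neg_dotProduct, utv_dot hf hww, neg_zero]),
      ← sub_eq_add_neg, ← sub_smul]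
    congr 2
    have := S.two
    rw [hm]
    field_simp
    ring
  rw [e]
  exact M.mul_mem (hsq _ (div_mem (add_mem hmF (one_mem _)) S.two_mem))
    (M.inv_mem (hsq _ (div_mem (sub_mem hmF (one_mem _)) S.two_mem)))

variable {E : Frame4 F₀ f}

theorem inL_rat {y : Fin 4 → F} (hy : Rat F₀ y) (hyw : f y E.w = 0) : InL4 f M E.w y := by
  obtain ⟨g, hg, hgS, -, -⟩ := S.exists_unip E.rw' hy E.ww hyw
  exact ⟨hyw, _, g, hg, hgS⟩

theorem inL_add {x x' : Fin 4 → F} (h : InL4 f M E.w x) (h' : InL4 f M E.w x') : InL4 f M E.w (x + x') := by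
  obtain ⟨hx, c, g, hg, hgS⟩ := h
  obtain ⟨hx', c', g', hg', hgS'⟩ := h'
  exact ⟨by rw [S.herm.add_left, hx, hx', add_zero], _, _, M.mul_mem hg hg',
    IsS.mul S.herm hgS hgS' E.ww hx hx'⟩

theorem inL_neg {x : Fin 4 → F} (h : InL4 f M E.w x) : InL4 f M E.w (-x) := by
  obtain ⟨hx, c, g, hg, hgS⟩ := h
  exact ⟨by rw [← neg_one_smul F x, S.herm.smul_left, hx, mul_zero], _, _, M.inv_mem hg,
    IsS.inv S.herm hgS E.ww hx⟩

theorem inL_mod {x : Fin 4 → F} {μ : F} (h : InL4 f M E.w (x + μ • E.w)) : InL4 f M E.w x := by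
  obtain ⟨hx, c, g, hg, hgS⟩ := h
  have hf := S.herm
  refine ⟨by rwa [hf.add_left, hf.smul_left, E.ww, mul_zero, add_zero] at hx, c + μ - σ μ, g, hg, fun u => ?_⟩
  rw [hgS u, add_right hf, smul_right hf]
  module

theorem inL_scale {x : Fin 4 → F} (hxv : f x E.v = 0) (h : InL4 f M E.w x) {t : F} (ht : t ∈ F₀) :
    InL4 f M E.w (t • x) := by
  have hf := S.herm
  obtain ⟨hx, c, g, hg, hgS⟩ := h
  rcases eq_or_ne t 0 with rfl | ht0
  · rw [zero_smul]
    exact ⟨form_zero_left S.hl _, 0, 1, M.one_mem, fun u => by simp [zero_right hf]⟩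
  obtain ⟨h, hh, -, hhu⟩ := S.exists_torus E ht ht0
  refine ⟨by rw [hf.smul_left, hx, mul_zero], c * (t * t), _, M.mul_mem (M.mul_mem hh hg) (M.inv_mem hh), fun u => ?_⟩
  have hw' : (h : Matrix (Fin 4) (Fin 4) F) *ᵥ E.w = t • E.w := by rw [hhu, E.ww, E.wv]; module
  have hx' : (h : Matrix (Fin 4) (Fin 4) F) *ᵥ x = x := by rw [hhu, hx, hxv]; simp
  have e1 := S.iso h hh (((h⁻¹ : GL (Fin 4) F) : Matrix (Fin 4) (Fin 4) F) *ᵥ u) E.w
  have e2 := S.iso h hh (((h⁻¹ : GL (Fin 4) F) : Matrix (Fin 4) (Fin 4) F) *ᵥ u) x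
  rw [gl_mulVec_inv, hw', smul_right hf, S.sig ht] at e1
  rw [gl_mulVec_inv, hx'] at e2
  rw [gl_mul_mulVec, gl_mul_mulVec, hgS, mulVec_add, mulVec_sub, mulVec_add, mulVec_smul, mulVec_smul,
    mulVec_smul, hw', hx', gl_mulVec_inv, ← e1, ← e2, smul_right hf, S.sig ht]
  module

variable (hC : UnitCenter σ f M E.w)
include hC

/-- The second isotropic vector is a centre. -/
theorem center_v [Finite F] : UnitCenter σ f M E.v := by
  have hf := S.herm
  obtain ⟨g, hg, -, hgw⟩ := S.exists_swap E (y := E.r) ⟨E.rr, E.rw0, E.rv0⟩ E.ra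
  have h := unitCenter_conj hf hC hg (S.iso g hg)
  rw [hgw] at h
  have h2 := unitCenter_smul hf h (-(f E.r E.r) / 2)⁻¹
  rwa [inv_smul_smul₀ (div_ne_zero (neg_ne_zero.2 E.ra) S.two)] at h2

/-- Everything attached to the first vector. -/
theorem inL_all [Finite F] {x : Fin 4 → F} (hxw : f x E.w = 0) (hxv : f x E.v = 0) : InL4 f M E.w x := by
  have hf := S.herm
  have h2 := S.two
  have he := S.eps0
  have hσ : ∀ {m}, m ∈ F₀ → σ m = m := fun hm => S.sig hm
  obtain ⟨z, hz, hzz⟩ := S.exists_value E S.two_mem S.two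
  obtain ⟨t, ht, ht0, htN⟩ : ∃ t ∈ F₀, t ≠ 0 ∧ ε * ε * (t * t) + 1 ≠ 0 := by
    by_cases h1 : ε * ε + 1 = 0
    · obtain ⟨t, ht, ht0, ht1⟩ := S.exists_scalar
      exact ⟨t, ht, ht0, fun h => ht1 (by linear_combination -h + (t * t) * h1)⟩
    · exact ⟨1, one_mem _, one_ne_zero, by simpa using h1⟩
  obtain ⟨N, hN⟩ : ∃ N, N = ε * ε * (t * t) := ⟨_, rfl⟩
  have hN0 : N ≠ 0 := by rw [hN]; exact mul_ne_zero (mul_ne_zero he he) (mul_ne_zero ht0 ht0)
  obtain ⟨u₀, hu₀, hu₀u⟩ := S.exists_value E (d := 2 * N)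
    (mul_mem S.two_mem (hN ▸ mul_mem S.eps_sq (mul_mem ht ht))) (mul_ne_zero h2 hN0)
  obtain ⟨u, hu, huu, hy0⟩ : ∃ u, InW E u ∧ f u u = 2 * N ∧ f (z + u) (z + u) ≠ 0 := by
    by_cases h : f (z + u₀) (z + u₀) = 0
    · refine ⟨-u₀, ⟨rat_neg hu₀.1, ?_, ?_⟩, ?_, fun h' => ?_⟩
      · rw [← neg_one_smul F u₀, hf.smul_left, hu₀.2.1, mul_zero]
      · rw [← neg_one_smul F u₀, hf.smul_left, hu₀.2.2, mul_zero]
      · rw [← neg_one_smul F u₀, hf.smul_left, smul_right hf, hu₀u, map_neg, map_one]; ring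
      · rw [← neg_one_smul F u₀] at h'
        simp only [hf.add_left, add_right hf, hf.smul_left, smul_right hf, hzz, hu₀u, map_neg, map_one] at h h'
        have h4 : (2 : F) * 2 * (1 + N) = 0 := by linear_combination h + h'
        rw [mul_eq_zero, hN] at h4
        exact htN (by linear_combination h4.resolve_left (mul_ne_zero h2 h2))
    · exact ⟨u₀, hu₀, hu₀u, h⟩
  obtain ⟨B, hB⟩ : ∃ B, B = f z u := ⟨_, rfl⟩
  have hBm : B ∈ F₀ := hB ▸ S.rat _ _ hz.1 hu.1
  have hBs : f u z = B := by rw [hB, S.comm hu.1 hz.1]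
  obtain ⟨D, hD⟩ : ∃ D, D = 4 * N - B * B := ⟨_, rfl⟩
  have hD0 : D ≠ 0 := fun h => S.eps_sq_ne (div_mem hBm (mul_mem S.two_mem ht)) (by
    rw [hD, hN] at h
    field_simp
    linear_combination -h)
  have hDm : D ∈ F₀ := hD ▸ sub_mem (mul_mem (by rw [show (4 : F) = 2 * 2 by norm_num]; exact mul_mem S.two_mem S.two_mem)
    (hN ▸ mul_mem S.eps_sq (mul_mem ht ht))) (mul_mem hBm hBm)
  -- two auxiliary rational centres
  obtain ⟨gy, hgy, hgyS, -, -⟩ := S.exists_unip E.rw' (rat_add hz.1 hu.1) E.ww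
    (by rw [hf.add_left, hz.2.1, hu.2.1, add_zero])
  obtain ⟨gz, hgz, hgzS, -, -⟩ := S.exists_unip E.rw' hz.1 E.ww hz.2.1
  have hV := S.center_v hC
  have hp := unitCenter_conj hf hV hgy (S.iso gy hgy)
  have hq := unitCenter_conj hf hV hgz (S.iso gz hgz)
  obtain ⟨Y, hY⟩ : ∃ Y, Y = f (z + u) (z + u) / 2 := ⟨_, rfl⟩
  have hYm : Y ∈ F₀ := hY ▸ div_mem (S.rat _ _ (rat_add hz.1 hu.1) (rat_add hz.1 hu.1)) S.two_mem
  have hY0 : Y ≠ 0 := hY ▸ div_ne_zero hy0 h2
  have hYv : Y = 1 + B + N := by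
    rw [hY]; simp only [hf.add_left, add_right hf, hzz, huu, hBs, ← hB]; field_simp; ring
  have hpv : (gy : Matrix (Fin 4) (Fin 4) F) *ᵥ E.v = E.v + (z + u) + (-Y) • E.w := by
    rw [hgyS, E.vw, swap_eq_zero hf (show f (z + u) E.v = 0 by rw [hf.add_left, hz.2.2, hu.2.2, add_zero]), hY,
      neg_div]
    simp
  have hqv : (gz : Matrix (Fin 4) (Fin 4) F) *ᵥ E.v = E.v + z + (-1 : F) • E.w := by
    rw [hgzS, E.vw, swap_eq_zero hf hz.2.2, hzz, neg_div, div_self h2]
    simp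
  rw [hpv] at hp
  rw [hqv] at hq
  obtain ⟨P, hP⟩ : ∃ P, P = -(1 / (ε * t)) := ⟨_, rfl⟩
  obtain ⟨a, ha⟩ : ∃ a, a = E.v + P • (E.v + (z + u) + (-Y) • E.w) + (-(1 + P)) • (E.v + z + (-1 : F) • E.w) :=
    ⟨_, rfl⟩
  have hPs : σ P = -P := by rw [hP, map_neg, map_div₀, map_one, map_mul, S.eps, hσ ht]; field_simp
  have haC : UnitCenter σ f M a := by
    have h1 := unitCenter_move hf hp hV (a := 1 / (ε * t * Y))
      (by rw [map_div₀, map_one, map_mul, map_mul, S.eps, hσ ht, hσ hYm]; field_simp; ring)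
    have h3 := unitCenter_move hf hq h1 (a := -(1 / (ε * t)))
      (by rw [map_neg, map_div₀, map_one, map_mul, S.eps, hσ ht]; field_simp; ring)
    have e1 : 1 / (ε * t * Y) * f E.v (E.v + (z + u) + (-Y) • E.w) = P := by
      simp only [add_right hf, smul_right hf, E.vv, E.vw, swap_eq_zero hf hz.2.2, swap_eq_zero hf hu.2.2, map_neg,
        hσ hYm, hP, zero_add, mul_one]
      field_simp
    rw [e1] at h3
    have e2 : -(1 / (ε * t)) * f (E.v + P • (E.v + (z + u) + (-Y) • E.w)) (E.v + z + (-1 : F) • E.w) = -(1 + P) := by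
      simp only [hf.add_left, add_right hf, hf.smul_left, smul_right hf, E.vv, E.vw, E.wv, E.ww, hz.2.1, hz.2.2,
        hu.2.1, hu.2.2, hzz, hBs, swap_eq_zero hf hz.2.1, swap_eq_zero hf hz.2.2, swap_eq_zero hf hu.2.1,
        swap_eq_zero hf hu.2.2, map_neg, map_one, hP, hYv]
      rw [hN]
      field_simp
      ring
    rw [e2, ← ha] at h3
    exact h3
  have haw : f a E.w = 0 := by
    rw [ha]; simp only [hf.add_left, hf.smul_left, E.vw, E.ww, hz.2.1, hu.2.1]; ring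
  obtain ⟨μa, haW⟩ : ∃ μ : F, a = (-z + P • u) + μ • E.w :=
    ⟨P * (-Y) + -(1 + P) * (-1), by rw [ha]; module⟩
  have key : ∀ y, InW E y → InL4 f M E.w (ε • (f z y • z + (-(P * P) * f u y) • u)) := by
    intro y hy
    obtain ⟨h, hh, hhS, -, -⟩ := S.exists_unip E.rw' hy.1 E.ww hy.2.1
    obtain ⟨β, hβ⟩ : ∃ β, β = f a y := ⟨_, rfl⟩
    have hha : (h : Matrix (Fin 4) (Fin 4) F) *ᵥ a = a + (-β) • E.w := by
      rw [hhS, haw, hβ]; simp [sub_eq_add_neg]
    have hεε : ε + σ ε = 0 := by rw [S.eps, add_neg_cancel]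
    have h1 := (unitCenter_conj hf haC hh (S.iso h hh)).2 ε hεε
    rw [hha] at h1
    have haa := haC.1
    have hza : f (a + (-β) • E.w) (a + (-β) • E.w) = 0 := by
      rw [expand_add_smul hf, haa, E.ww, swap_eq_zero hf haw]; simp
    have hIS : InL4 f M E.w ((-(ε * σ β)) • a) := by
      refine ⟨by rw [hf.smul_left, haw, mul_zero], ε * (β * σ β), _, M.mul_mem h1 (M.inv_mem (haC.2 ε hεε)),
        fun v => ?_⟩
      rw [tv_inv (utv_dot hf haa ε), ← neg_smul, gl_mul_mulVec, utv_mulVec hf haa, utv_mulVec hf hza]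
      simp only [hf.add_left, hf.smul_left, add_right hf, smul_right hf, haa, haw, map_neg, map_mul, S.eps,
        hf.involutive, mul_zero, add_zero]
      module
    have hβv : β = -f z y + P * f u y := by
      rw [hβ, haW, hf.add_left, hf.add_left, hf.smul_left, hf.smul_left, ← neg_one_smul F z, hf.smul_left,
        swap_eq_zero hf hy.2.1]
      ring
    have hm := S.rat _ _ hz.1 hy.1
    have hn := S.rat _ _ hu.1 hy.1
    have hεP : ε * P ∈ F₀ := (S.fix _).1 (by rw [map_mul, S.eps, hPs]; ring)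
    have hrat : InL4 f M E.w ((ε * P * f u y) • z + (-(ε * P) * f z y) • u) :=
      S.inL_rat (rat_add (hz.1.smul (mul_mem hεP hn)) (hu.1.smul (mul_mem (neg_mem hεP) hm)))
        (by simp only [hf.add_left, hf.smul_left, hz.2.1, hu.2.1]; ring)
    have h3 := S.inL_add (S.inL_neg hIS) (S.inL_neg hrat)
    refine S.inL_mod (μ := ε * σ β * μa) ?_
    convert h3 using 1
    rw [haW, hβv, map_add, map_neg, map_mul, hσ hm, hσ hn, hPs]
    module
  have hez : InL4 f M E.w (ε • z) := by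
    have h1 := S.inL_add
      (S.inL_scale (by simp only [hf.add_left, hf.smul_left, hz.2.2, hu.2.2]; ring) (key z hz)
        (t := 2 * N / D) (div_mem (mul_mem S.two_mem (hN ▸ mul_mem S.eps_sq (mul_mem ht ht))) hDm))
      (S.inL_scale (by simp only [hf.add_left, hf.smul_left, hz.2.2, hu.2.2]; ring) (key u hu) (t := -B / D)
        (div_mem (neg_mem hBm) hDm))
    convert h1 using 1
    rw [hzz, hBs, huu, ← hB]
    match_scalars <;> (field_simp; rw [hD]; ring)
  have heu : InL4 f M E.w (ε • u) := by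
    have hP2 : P * P ∈ F₀ := (S.fix _).1 (by rw [map_mul, hPs]; ring)
    have hP0 : P ≠ 0 := by rw [hP]; simp [he, ht0]
    have h1 := S.inL_add
      (S.inL_scale (by simp only [hf.add_left, hf.smul_left, hz.2.2, hu.2.2]; ring) (key z hz)
        (t := B / (P * P * D)) (div_mem hBm (mul_mem hP2 hDm)))
      (S.inL_scale (by simp only [hf.add_left, hf.smul_left, hz.2.2, hu.2.2]; ring) (key u hu) (t := -2 / (P * P * D))
        (div_mem (neg_mem S.two_mem) (mul_mem hP2 hDm)))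
    convert h1 using 1
    rw [hzz, hBs, huu, ← hB]
    match_scalars <;> (field_simp; rw [hD]; ring)
  -- coordinates in the basis z, u
  obtain ⟨α, hα⟩ : ∃ α, α = (2 * N * f x z - B * f x u) / D := ⟨_, rfl⟩
  obtain ⟨γ, hγ⟩ : ∃ γ, γ = (2 * f x u - B * f x z) / D := ⟨_, rfl⟩
  have hxe : x = α • z + γ • u := by
    obtain ⟨d, hd⟩ : ∃ d, d = x - (α • z + γ • u) := ⟨_, rfl⟩
    have hdw : f d E.w = 0 ∧ f d E.v = 0 := by
      constructor <;> simp [hd, form_sub_left S.hl, hf.add_left, hf.smul_left, hxw, hxv, hz.2.1, hz.2.2, hu.2.1, hu.2.2]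
    have hdz : f d z = 0 := by
      rw [hd]; simp only [form_sub_left S.hl, hf.add_left, hf.smul_left, hzz, hBs, hα, hγ]
      field_simp; rw [hD]; ring
    have hdu : f d u = 0 := by
      rw [hd]; simp only [form_sub_left S.hl, hf.add_left, hf.smul_left, huu, ← hB, hα, hγ]
      field_simp; rw [hD]; ring
    have hdc : d = (f d E.r / f E.r E.r) • E.r + (f d E.s / f E.s E.s) • E.s := by
      conv_lhs => rw [S.coord E d, hdw.1, hdw.2]
      simp
    obtain ⟨z1, hz1⟩ : ∃ m, m = f z E.r / f E.r E.r := ⟨_, rfl⟩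
    obtain ⟨z2, hz2⟩ : ∃ m, m = f z E.s / f E.s E.s := ⟨_, rfl⟩
    obtain ⟨u1, hu1⟩ : ∃ m, m = f u E.r / f E.r E.r := ⟨_, rfl⟩
    obtain ⟨u2, hu2⟩ : ∃ m, m = f u E.s / f E.s E.s := ⟨_, rfl⟩
    have hzc : z = z1 • E.r + z2 • E.s := by rw [hz1, hz2]; exact S.inW_coord E hz
    have huc : u = u1 • E.r + u2 • E.s := by rw [hu1, hu2]; exact S.inW_coord E hu
    have hra := S.rat _ _ E.rr E.rr
    have hsb := S.rat _ _ E.rs' E.rs'
    have mz1 : z1 ∈ F₀ := hz1 ▸ div_mem (S.rat _ _ hz.1 E.rr) hra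
    have mz2 : z2 ∈ F₀ := hz2 ▸ div_mem (S.rat _ _ hz.1 E.rs') hsb
    have mu1 : u1 ∈ F₀ := hu1 ▸ div_mem (S.rat _ _ hu.1 E.rr) hra
    have mu2 : u2 ∈ F₀ := hu2 ▸ div_mem (S.rat _ _ hu.1 E.rs') hsb
    have hdet : z1 * u2 - z2 * u1 ≠ 0 := by
      intro h0
      apply hD0
      have ezz := hzz
      have euu := huu
      have ezu := hB
      rw [hzc] at ezz ezu
      rw [huc] at euu ezu
      simp only [hf.add_left, add_right hf, hf.smul_left, smul_right hf, hσ mz1, hσ mz2, hσ mu1, hσ mu2, E.rs, E.sr,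
        mul_zero, add_zero, zero_add] at ezz euu ezu
      rw [hD, ezu, show (4 : F) * N = 2 * (2 * N) by ring, ← euu]
      linear_combination (-(u1 ^ 2 * f E.r E.r + u2 ^ 2 * f E.s E.s)) * ezz +
        f E.r E.r * f E.s E.s * (z1 * u2 - z2 * u1) * h0
    have e1 := hdz
    have e2 := hdu
    rw [hzc] at e1
    rw [huc] at e2
    simp only [add_right hf, smul_right hf, hσ mz1, hσ mz2, hσ mu1, hσ mu2] at e1 e2
    have c1 : f d E.r = 0 := (mul_eq_zero.1 (show (z1 * u2 - z2 * u1) * f d E.r = 0 by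
      linear_combination u2 * e1 - z2 * e2)).resolve_left hdet
    have c2 : f d E.s = 0 := (mul_eq_zero.1 (show (z1 * u2 - z2 * u1) * f d E.s = 0 by
      linear_combination z1 * e2 - u1 * e1)).resolve_left hdet
    rw [c1, c2, zero_div, zero_div, zero_smul, zero_smul, add_zero] at hdc
    exact (sub_eq_zero.1 (hd ▸ hdc))
  have hmul : ∀ (y : Fin 4 → F), InW E y → InL4 f M E.w (ε • y) → ∀ κ : F, InL4 f M E.w (κ • y) := by
    intro y hy hey κ
    obtain ⟨a', b', ha', hb', rfl⟩ := S.split_scalar κ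
    have := S.inL_add (S.inL_rat (E := E) (hy.1.smul ha') (by rw [hf.smul_left, hy.2.1, mul_zero]))
      (S.inL_scale (by rw [hf.smul_left, hy.2.2, mul_zero]) hey hb')
    convert this using 1
    module
  rw [hxe]
  exact S.inL_add (hmul z hz hez α) (hmul u hu heu γ)

/-- All isotropic vectors are centres. -/
theorem center_all [Finite F] {z : Fin 4 → F} (hz : f z z = 0) : UnitCenter σ f M z := by
  have hf := S.herm
  have main : ∀ z, f z z = 0 → f z E.w ≠ 0 → UnitCenter σ f M z := by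
    intro z hz hne
    suffices h : ∀ z, f z z = 0 → f z E.w = 1 → UnitCenter σ f M z by
      have := unitCenter_smul hf (h ((f z E.w)⁻¹ • z) (by rw [hf.smul_left, smul_right hf, hz, mul_zero, mul_zero])
        (by rw [hf.smul_left, inv_mul_cancel₀ hne])) (f z E.w)
      rwa [smul_inv_smul₀ hne] at this
    intro z hz h1
    obtain ⟨x, hx⟩ : ∃ x, x = (f z E.r / f E.r E.r) • E.r + (f z E.s / f E.s E.s) • E.s := ⟨_, rfl⟩
    have hxw : f x E.w = 0 := by rw [hx]; simp [hf.add_left, hf.smul_left, E.rw0, E.sw]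
    have hxv : f x E.v = 0 := by rw [hx]; simp [hf.add_left, hf.smul_left, E.rv0, E.sv]
    have hzc : z = E.v + x + f z E.v • E.w := by
      conv_lhs => rw [S.coord E z, h1]
      rw [hx]; module
    obtain ⟨-, c, g, hg, hgS⟩ := S.inL_all hC hxw hxv
    have hgv : (g : Matrix (Fin 4) (Fin 4) F) *ᵥ E.v = E.v + x + c • E.w := by
      rw [hgS, E.vw, swap_eq_zero hf hxv]; simp
    have h0 : f (E.v + x + c • E.w) (E.v + x + c • E.w) = 0 := by rw [← hgv, S.iso g hg, E.vv]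
    have hz' := hz
    rw [hzc] at hz'
    rw [expand_add_smul hf] at h0 hz'
    have hw1 : f E.w (E.v + x) = 1 := by rw [add_right hf, E.wv, swap_eq_zero hf hxw, add_zero]
    have hw2 : f (E.v + x) E.w = 1 := by rw [hf.add_left, E.vw, hxw, add_zero]
    rw [hw1] at h0 hz'
    have hδ : f z E.v - c + σ (f z E.v - c) = 0 := by
      rw [map_sub]
      simp only [E.ww, mul_zero, add_zero, mul_one] at h0 hz'
      linear_combination hz' - h0
    have h3 := unitCenter_move hf hC (unitCenter_conj hf (S.center_v hC) hg (S.iso g hg)) hδ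
    rw [hgv, hf.add_left, hf.smul_left, hw2, E.ww, mul_zero, add_zero, mul_one] at h3
    convert h3 using 1
    conv_lhs => rw [hzc]
    module
  have move : ∀ z, f z z = 0 → ∀ g ∈ M, f (((g⁻¹ : GL (Fin 4) F) : Matrix (Fin 4) (Fin 4) F) *ᵥ z) E.w ≠ 0 →
      UnitCenter σ f M z := by
    intro z hz g hg hne
    have h := unitCenter_conj hf (main _ (by rw [S.iso _ (M.inv_mem hg), hz]) hne) hg (S.iso g hg)
    rwa [gl_mulVec_inv] at h
  by_cases h1 : f z E.w = 0
  · obtain ⟨g, hg, -, hgw⟩ := S.exists_swap E (y := E.r) ⟨E.rr, E.rw0, E.rv0⟩ E.ra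
    have hk : -(f E.r E.r) / 2 ≠ 0 := div_ne_zero (neg_ne_zero.2 E.ra) S.two
    have conv : ∀ g ∈ M, f (((g⁻¹ : GL (Fin 4) F) : Matrix (Fin 4) (Fin 4) F) *ᵥ z) E.w =
        f z ((g : Matrix (Fin 4) (Fin 4) F) *ᵥ E.w) := fun g hg => by
      conv_rhs => rw [← gl_mulVec_inv g z, S.iso g hg]
    by_cases h2 : f z E.v = 0
    · by_cases h3 : f z E.r = 0 ∧ f z E.s = 0
      · have : z = 0 := by rw [S.coord E z, h1, h2, h3.1, h3.2]; simp
        subst this
        exact ⟨form_zero_left S.hl _, fun a _ => by rw [tv_zero_left]; exact M.one_mem⟩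
      obtain ⟨y, hy, hzy⟩ : ∃ y, InW E y ∧ f z y ≠ 0 := by
        by_cases h : f z E.r = 0
        · exact ⟨E.s, ⟨E.rs', E.sw, E.sv⟩, fun e => h3 ⟨h, e⟩⟩
        · exact ⟨E.r, ⟨E.rr, E.rw0, E.rv0⟩, h⟩
      obtain ⟨g', hg', hgS', -, -⟩ := S.exists_unip E.rw' hy.1 E.ww hy.2.1
      refine move z hz (g' * g) (M.mul_mem hg' hg) ?_
      rw [conv _ (M.mul_mem hg' hg), gl_mul_mulVec, hgw, mulVec_smul, hgS', E.vw, swap_eq_zero hf hy.2.2]
      simp [smul_right hf, add_right hf, h1, h2, hzy, E.ra, S.two]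
    · refine move z hz g hg ?_
      rw [conv g hg, hgw, smul_right hf]
      exact mul_ne_zero (by simpa using hk) h2
  · exact main z hz h1

end Sym4

end Cfsg.Agent.Lib.SUFour96.OrthType
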