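import Cfsg.Agent.Lib.SUFour96.OrthFull

/-!
Orthogonal type in dimension four, without an irrational parameter: one rational point fixes rationality, and
conjugates of rational unipotent elements are irrational.
-/

set_option autoImplicit false

namespace Cfsg.Agent.Lib.SUFour96.OrthType

open Matrix Cfsg.Agent.Lib.Subspaces.Transvection Cfsg.Agent.Lib.Subspaces.FormVec
  Cfsg.Agent.Lib.Subspaces.UnitaryForm
  Cfsg.Agent.Lib.SubfieldMax.Linear Cfsg.Agent.Lib.SubfieldMax.RatLin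
  Cfsg.Agent.Lib.SubfieldMax.Form Cfsg.Agent.Lib.SubfieldMax.SymForm Cfsg.Agent.Lib.SubfieldMax.Unitary

variable {F : Type*} [Field F] {σ : F ≃+* F} {F₀ : Subfield F} {f : (Fin 4 → F) → (Fin 4 → F) → F} {ε : F}
  {M : Subgroup (GL (Fin 4) F)}

namespace Sym4

variable (S : Sym4 σ F₀ f ε M) (hG : ¬ GoodV σ F₀ f M)
include S

/-- Trace of an element attached to `w`. -/
theorem trace_isS {w x : Fin 4 → F} {c : F} {g : GL (Fin 4) F} (hww : f w w = 0) (hxw : f x w = 0)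
    (hg : IsS f w x c g) : (g : Matrix (Fin 4) (Fin 4) F).trace = 4 := by
  have e : (g : Matrix (Fin 4) (Fin 4) F) =
      1 + vecMulVec x (formVec f w) - vecMulVec w (formVec f x) + vecMulVec w (c • formVec f w) := by
    refine Matrix.ext_of_mulVec_single fun i => ?_
    rw [hg]
    simp only [Matrix.add_mulVec, Matrix.sub_mulVec, Matrix.one_mulVec, Matrix.vecMulVec_mulVec,
      formVec_dot S.hl, smul_dotProduct, op_smul_eq_smul, smul_eq_mul]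
  rw [e, trace_add, trace_sub, trace_add, trace_one, trace_vecMulVec, trace_vecMulVec, trace_vecMulVec,
    dotProduct_comm x, dotProduct_comm w, dotProduct_comm w, formVec_dot S.hl, formVec_dot S.hl,
    smul_dotProduct, formVec_dot S.hl, hww, hxw, swap_eq_zero S.herm hxw]
  simp

include hG

/-- Products with rational orthogonal vectors are rational. -/
theorem prod_rat {w x : Fin 4 → F} {c : F} {g : GL (Fin 4) F} (hg : g ∈ M) (hgS : IsS f w x c g)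
    (hw : Rat F₀ w) (hw0 : w ≠ 0) (hww : f w w = 0) (hxw : f x w = 0) {y : Fin 4 → F} (hy : Rat F₀ y)
    (hyw : f y w = 0) : f x y ∈ F₀ := by
  have hf := S.herm
  obtain ⟨h, hh, hhS, -, -⟩ := S.exists_unip hw hy hww hyw
  have h1 := IsS.mul hf hhS hgS hww hyw hxw
  have h2 := IsS.mul hf hgS hhS hww hxw hyw
  obtain ⟨δ, hδ⟩ : ∃ δ, δ = f y x - f x y := ⟨_, rfl⟩
  have hδs : δ + σ δ = 0 := by rw [hδ, map_sub, ← hf.herm, ← hf.herm]; ring
  have e : tv w (δ • formVec f w) = h * g * (g * h)⁻¹ := by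
    rw [eq_mul_inv_iff_mul_eq]
    refine gl_ext fun u => ?_
    rw [gl_mul_mulVec, h2, h1, utv_mulVec hf hww]
    simp only [hf.add_left, form_sub_left S.hl, add_right hf, hf.smul_left, hww, hxw, hyw, mul_zero, add_zero,
      sub_zero, hδ]
    module
  refine (S.fix _).1 ?_
  by_contra hne
  refine hG ⟨w, δ, hw, hw0, hww, hδs, fun h0 => hne ?_, ?_⟩
  · rw [hδ, hf.herm y x, sub_eq_zero] at h0
    exact h0
  · rw [e]
    exact M.mul_mem (M.mul_mem hh hg) (M.inv_mem (M.mul_mem hg hh))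

/-- Elements attached to a rational point are rational. -/
theorem unip_rat [Finite F] {w x : Fin 4 → F} {c : F} {g : GL (Fin 4) F} (hg : g ∈ M) (hgS : IsS f w x c g)
    (hw : Rat F₀ w) (hw0 : w ≠ 0) (hww : f w w = 0) (hxw : f x w = 0) : RatUpTo F₀ g := by
  have hf := S.herm
  obtain ⟨E, rfl⟩ := S.exists_frame hw hw0 hww
  obtain ⟨R, hR⟩ : ∃ R, R = (f x E.r / f E.r E.r) • E.r + (f x E.s / f E.s E.s) • E.s := ⟨_, rfl⟩
  have hRr : Rat F₀ R := hR ▸ rat_add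
    (E.rr.smul (div_mem (S.prod_rat hG hg hgS hw hw0 hww hxw E.rr E.rw0) (S.rat _ _ E.rr E.rr)))
    (E.rs'.smul (div_mem (S.prod_rat hG hg hgS hw hw0 hww hxw E.rs' E.sw) (S.rat _ _ E.rs' E.rs')))
  have hRw : f R E.w = 0 := by rw [hR]; simp [hf.add_left, hf.smul_left, E.rw0, E.sw]
  have hxc : x = R + f x E.v • E.w := by
    conv_lhs => rw [S.coord E x, hxw]
    rw [hR]; module
  obtain ⟨h, hh, hhS, hhR, -⟩ := S.exists_unip E.rw' hRr E.ww hRw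
  obtain ⟨δ, hδ⟩ : ∃ δ, δ = c + f x E.v - σ (f x E.v) + f R R / 2 := ⟨_, rfl⟩
  have e : tv E.w (δ • formVec f E.w) = g * h⁻¹ := by
    rw [eq_mul_inv_iff_mul_eq]
    refine gl_ext fun u => ?_
    rw [gl_mul_mulVec, hgS, hhS, utv_mulVec hf E.ww]
    simp only [hf.add_left, form_sub_left S.hl, hf.smul_left, E.ww, hRw, mul_zero, add_zero, sub_zero]
    conv_rhs => rw [hxc, add_right hf, smul_right hf]
    rw [hδ]
    module
  have hm : tv E.w (δ • formVec f E.w) ∈ M := e ▸ M.mul_mem hg (M.inv_mem hh)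
  have hδs : δ + σ δ = 0 := by
    have h3 := S.iso _ hm E.v E.v
    rw [utv_mulVec hf E.ww, E.vw, mul_one, expand_add_smul hf, E.vv, E.wv, E.ww] at h3
    simpa using h3
  have hδ0 : δ = 0 := by
    by_contra hne
    exact hG ⟨E.w, δ, hw, hw0, hww, hδs, hne, hm⟩
  rw [hδ0, zero_smul, tv_zero_right, eq_comm, mul_inv_eq_one] at e
  rw [e]
  exact hhR

/-- One rational point suffices. -/
theorem point_rat [Finite F] {g : GL (Fin 4) F} (hg : g ∈ M) {p : Fin 4 → F} (hp : Rat F₀ p) (hp0 : p ≠ 0)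
    (hpp : f p p = 0) {l : F} (hl : l ≠ 0) (hr : Rat F₀ (l • ((g : Matrix (Fin 4) (Fin 4) F) *ᵥ p))) :
    RatUpTo F₀ g := by
  have hf := S.herm
  obtain ⟨E, rfl⟩ := S.exists_frame hp hp0 hpp
  obtain ⟨p', hp'⟩ : ∃ x, x = l • ((g : Matrix (Fin 4) (Fin 4) F) *ᵥ E.w) := ⟨_, rfl⟩
  rw [← hp'] at hr
  have hp'0 : p' ≠ 0 := by
    rw [hp']
    exact smul_ne_zero hl fun e => hp0 (gl_mulVec_injective g (by simpa using e))
  have hp'p : f p' p' = 0 := by rw [hp', hf.smul_left, smul_right hf, S.iso g hg, hpp, mul_zero, mul_zero]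
  obtain ⟨E', hE'⟩ := S.exists_frame hr hp'0 hp'p
  obtain ⟨m, hmd⟩ : ∃ m, m = σ l⁻¹ := ⟨_, rfl⟩
  have hm0 : m ≠ 0 := by rw [hmd]; simp [hl]
  have hσm : σ m = l⁻¹ := by rw [hmd, hf.involutive]
  have hgp : (g : Matrix (Fin 4) (Fin 4) F) *ᵥ E.w = l⁻¹ • E'.w := by rw [hE', hp', inv_smul_smul₀ hl]
  have hsc : ∀ a b, f (m • ((g : Matrix (Fin 4) (Fin 4) F) *ᵥ a)) (m • ((g : Matrix (Fin 4) (Fin 4) F) *ᵥ b)) =
      m * σ m * f a b := fun a b => by rw [hf.smul_left, smul_right hf, S.iso g hg, mul_assoc]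
  have hfp : ∀ a, f (m • ((g : Matrix (Fin 4) (Fin 4) F) *ᵥ a)) E'.w = f a E.w := by
    intro a
    have h := S.iso g hg a E.w
    rw [hgp, smul_right hf] at h
    rw [hf.smul_left, hmd, h]
  -- images of the anisotropic vectors
  have himg : ∀ a, InW E a → ∃ R, Rat F₀ R ∧ f R E'.w = 0 ∧
      ∃ μ : F, m • ((g : Matrix (Fin 4) (Fin 4) F) *ᵥ a) = R + μ • E'.w := by
    intro a ha
    obtain ⟨h, hh, hhS, -, -⟩ := S.exists_unip E.rw' ha.1 E.ww ha.2.1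
    have hS' : IsS f E'.w (m • ((g : Matrix (Fin 4) (Fin 4) F) *ᵥ a)) (-(f a a) / 2 * (m * σ m))
        (g * h * g⁻¹) := fun u => by
      have e1 := S.iso g hg (((g⁻¹ : GL (Fin 4) F) : Matrix (Fin 4) (Fin 4) F) *ᵥ u) E.w
      have e2 := S.iso g hg (((g⁻¹ : GL (Fin 4) F) : Matrix (Fin 4) (Fin 4) F) *ᵥ u) a
      rw [gl_mulVec_inv, hgp, smul_right hf, ← hmd] at e1
      rw [gl_mulVec_inv] at e2
      rw [gl_mul_mulVec, gl_mul_mulVec, hhS, mulVec_add, mulVec_sub, mulVec_add, mulVec_smul, mulVec_smul,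
        mulVec_smul, gl_mulVec_inv, hgp, ← e1, ← e2, smul_right hf, hσm]
      module
    have hM : g * h * g⁻¹ ∈ M := M.mul_mem (M.mul_mem hg hh) (M.inv_mem hg)
    have haw : f (m • ((g : Matrix (Fin 4) (Fin 4) F) *ᵥ a)) E'.w = 0 := by rw [hfp, ha.2.1]
    obtain ⟨z, hz⟩ : ∃ z, z = m • ((g : Matrix (Fin 4) (Fin 4) F) *ᵥ a) := ⟨_, rfl⟩
    rw [← hz] at hS' haw
    refine ⟨(f z E'.r / f E'.r E'.r) • E'.r + (f z E'.s / f E'.s E'.s) • E'.s, rat_add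
      (E'.rr.smul (div_mem (S.prod_rat hG hM hS' E'.rw' (hE' ▸ hp'0) E'.ww haw E'.rr E'.rw0) (S.rat _ _ E'.rr E'.rr)))
      (E'.rs'.smul (div_mem (S.prod_rat hG hM hS' E'.rw' (hE' ▸ hp'0) E'.ww haw E'.rs' E'.sw) (S.rat _ _ E'.rs' E'.rs'))),
      by simp [hf.add_left, hf.smul_left, E'.rw0, E'.sw], f z E'.v, ?_⟩
    rw [← hz]
    conv_lhs => rw [S.coord E' z, haw]
    module
  -- the image of the partner
  obtain ⟨y, hy⟩ : ∃ y, y = m • ((g : Matrix (Fin 4) (Fin 4) F) *ᵥ E.v) := ⟨_, rfl⟩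
  have hyw : f y E'.w = 1 := by rw [hy, hfp, E.vw]
  obtain ⟨a1, a2, ha1, ha2, ha⟩ := S.split_scalar (f y E'.r / f E'.r E'.r)
  obtain ⟨b1, b2, hb1, hb2, hb⟩ := S.split_scalar (f y E'.s / f E'.s E'.s)
  obtain ⟨Y1, hY1⟩ : ∃ Y, Y = a1 • E'.r + b1 • E'.s := ⟨_, rfl⟩
  obtain ⟨Y2, hY2⟩ : ∃ Y, Y = a2 • E'.r + b2 • E'.s := ⟨_, rfl⟩
  have hY1r : Rat F₀ Y1 := hY1 ▸ rat_add (E'.rr.smul ha1) (E'.rs'.smul hb1)
  have hY2r : Rat F₀ Y2 := hY2 ▸ rat_add (E'.rr.smul ha2) (E'.rs'.smul hb2)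
  have hY1w : f Y1 E'.w = 0 ∧ f Y1 E'.v = 0 := by
    rw [hY1]; simp [hf.add_left, hf.smul_left, E'.rw0, E'.rv0, E'.sw, E'.sv]
  have hY2w : f Y2 E'.w = 0 ∧ f Y2 E'.v = 0 := by
    rw [hY2]; simp [hf.add_left, hf.smul_left, E'.rw0, E'.rv0, E'.sw, E'.sv]
  have hyc : y = E'.v + Y1 + ε • Y2 + f y E'.v • E'.w := by
    conv_lhs => rw [S.coord E' y, hyw, ha, hb]
    rw [hY1, hY2]; module
  have hn1 : f Y1 Y1 ∈ F₀ := S.rat _ _ hY1r hY1r
  obtain ⟨d, hd⟩ : ∃ d, d = -(f Y1 Y1) / 2 := ⟨_, rfl⟩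
  have hdm : d ∈ F₀ := hd ▸ div_mem (neg_mem hn1) S.two_mem
  obtain ⟨c, hc⟩ : ∃ c, c = f y E'.v + f Y1 (ε • Y2) - d := ⟨_, rfl⟩
  have hxw : f (ε • Y2) E'.w = 0 := by rw [hf.smul_left, hY2w.1, mul_zero]
  obtain ⟨u, hu⟩ : ∃ u, u = sgen f E'.w (ε • Y2) c := ⟨_, rfl⟩
  have huS : IsS f E'.w (ε • Y2) c u := hu ▸ sgen_isS hf E'.ww hxw c
  have hcc : c + σ c = -f (ε • Y2) (ε • Y2) := by
    have h0 : f y y = 0 := by rw [hy, hsc, E.vv, mul_zero]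
    rw [hyc] at h0
    simp only [hf.add_left, add_right hf, hf.smul_left, smul_right hf, E'.vv, E'.vw, E'.wv, E'.ww, hY1w.1, hY1w.2,
      hY2w.1, hY2w.2, swap_eq_zero hf hY1w.1, swap_eq_zero hf hY1w.2, swap_eq_zero hf hY2w.1,
      swap_eq_zero hf hY2w.2, S.eps, mul_zero, zero_add, add_zero, mul_one] at h0
    rw [hc, map_sub, map_add, hd, hf.smul_left, smul_right hf, smul_right hf, S.eps, map_mul, map_neg, S.eps,
      S.sig (S.rat _ _ hY1r hY2r), map_div₀, map_neg, S.sig hn1, map_ofNat]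
    rw [S.comm hY2r hY1r] at h0
    have := S.two
    field_simp
    linear_combination (2 : F) * h0
  obtain ⟨h', hh'⟩ : ∃ h', h' = u⁻¹ * g := ⟨_, rfl⟩
  have hiso : ∀ a b, f ((h' : Matrix (Fin 4) (Fin 4) F) *ᵥ a) ((h' : Matrix (Fin 4) (Fin 4) F) *ᵥ b) = f a b := by
    intro a b
    rw [hh', gl_mul_mulVec, gl_mul_mulVec]
    conv_lhs => rw [← sgen_isometry hf E'.ww hxw hcc]
    rw [← hu, gl_mulVec_inv, gl_mulVec_inv, S.iso g hg]
  have hback : ∀ a z, (u : Matrix (Fin 4) (Fin 4) F) *ᵥ z = m • ((g : Matrix (Fin 4) (Fin 4) F) *ᵥ a) →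
      m • ((h' : Matrix (Fin 4) (Fin 4) F) *ᵥ a) = z := by
    intro a z h
    rw [hh', gl_mul_mulVec, ← mulVec_smul, ← h, gl_inv_mulVec]
  have hV : m • ((h' : Matrix (Fin 4) (Fin 4) F) *ᵥ E.v) = E'.v + Y1 + d • E'.w := by
    refine hback _ _ ?_
    rw [← hy]
    conv_rhs => rw [hyc]
    rw [huS, hc]
    simp only [hf.add_left, hf.smul_left, E'.vw, E'.ww, hY1w.1, smul_right hf, swap_eq_zero hf hY2w.2,
      swap_eq_zero hf hY2w.1, mul_zero, add_zero]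
    module
  have hrow : ∀ a, InW E a → Rat F₀ (m • ((h' : Matrix (Fin 4) (Fin 4) F) *ᵥ a)) := by
    intro a haW
    obtain ⟨R, hRr, hRw, μ, hμ⟩ := himg a haW
    obtain ⟨μ', hμ'⟩ : ∃ μ', μ' = μ + f R (ε • Y2) := ⟨_, rfl⟩
    have e := hback a (R + μ' • E'.w) (by
      rw [hμ, huS, hf.add_left, hf.smul_left, hRw, E'.ww, hf.add_left, hf.smul_left, swap_eq_zero hf hxw, hμ']
      module)
    have h3 : f (R + μ' • E'.w) (E'.v + Y1 + d • E'.w) = 0 := by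
      rw [← e, ← hV, hf.smul_left, smul_right hf, hiso, haW.2.2, mul_zero, mul_zero]
    rw [hf.add_left, hf.smul_left, add_right hf E'.w, add_right hf E'.w, E'.wv, swap_eq_zero hf hY1w.1,
      smul_right hf, E'.ww, mul_zero, add_zero, add_zero, mul_one] at h3
    have hμm : μ' ∈ F₀ := by
      rw [show μ' = -f R (E'.v + Y1 + d • E'.w) by linear_combination h3]
      exact neg_mem (S.rat _ _ hRr (rat_add (rat_add E'.rv hY1r) (E'.rw'.smul hdm)))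
    rw [e]
    exact rat_add hRr (E'.rw'.smul hμm)
  have hrat' : RatUpTo F₀ h' := by
    refine S.ratUpTo_of_frame E hm0 ?_ (hV ▸ rat_add (rat_add E'.rv hY1r) (E'.rw'.smul hdm)) ?_ ?_
    · have hN : m * σ m ∈ F₀ := (S.fix _).1 (by rw [map_mul, hf.involutive, mul_comm])
      have e : m • ((h' : Matrix (Fin 4) (Fin 4) F) *ᵥ E.w) = (m * σ m) • E'.w := by
        refine hback _ _ ?_
        rw [hgp, huS, hf.smul_left, E'.ww, hf.smul_left, swap_eq_zero hf hxw, hσm]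
        module
      rw [e]
      exact E'.rw'.smul hN
    · exact hrow _ ⟨E.rr, E.rw0, E.rv0⟩
    · exact hrow _ ⟨E.rs', E.sw, E.sv⟩
  have hdet : h' ∈ Cfsg.Geo.specialLinear (Fin 4) F := by
    rw [hh', hu]
    exact mul_mem (inv_mem (sgen_mem_specialLinear _ _ _ _)) (S.det g hg)
  have huM : u ∈ M := by
    have h2 := M.mul_mem hg (M.inv_mem (S.hH h' hiso hdet hrat'))
    rwa [hh', _root_.mul_inv_rev, inv_inv, mul_inv_cancel_left] at h2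
  have hgu : g = u * h' := by rw [hh', mul_inv_cancel_left]
  rw [hgu]
  exact ratUpTo_mul (S.unip_rat hG huM huS E'.rw' (hE' ▸ hp'0) E'.ww hxw) hrat'

/-- Conjugates of non-trivial rational unipotent elements by irrational elements are irrational. -/
theorem semireg [Finite F] (E : Frame4 F₀ f) {y : Fin 4 → F} (hy : InW E y) (hy0 : y ≠ 0) {g u : GL (Fin 4) F}
    (hg : g ∈ M) (huS : IsS f E.w y (-(f y y) / 2) u) (hk : RatUpTo F₀ (g⁻¹ * u * g)) : RatUpTo F₀ g := by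
  have hf := S.herm
  have h2 := S.two
  obtain ⟨k, hkd⟩ : ∃ k, k = g⁻¹ * u * g := ⟨_, rfl⟩
  rw [← hkd] at hk
  obtain ⟨κ, hκ, hκk⟩ := hk
  have htr : (k : Matrix (Fin 4) (Fin 4) F).trace = 4 := by
    rw [hkd, Units.val_mul, Units.val_mul, trace_mul_comm, ← mul_assoc, Units.mul_inv, one_mul,
      S.trace_isS E.ww hy.2.1 huS]
  have h4 : (4 : F) ≠ 0 := by rw [show (4 : F) = 2 * 2 by norm_num]; exact mul_ne_zero h2 h2
  have hκF : κ ∈ F₀ := by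
    have : κ * (k : Matrix (Fin 4) (Fin 4) F).trace ∈ F₀ := by
      rw [Matrix.trace, Finset.mul_sum]; exact sum_mem fun i _ => hκk i i
    rw [htr] at this
    have := div_mem this (show (4 : F) ∈ F₀ by
      rw [show (4 : F) = 2 * 2 by norm_num]; exact mul_mem S.two_mem S.two_mem)
    rwa [mul_div_cancel_right₀ _ h4] at this
  have hkr : ∀ e, Rat F₀ e → Rat F₀ ((k : Matrix (Fin 4) (Fin 4) F) *ᵥ e) := fun e he => by
    have := (rat_mulVec hκk he).smul (inv_mem hκF)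
    rwa [inv_smul_smul₀ hκ] at this
  have hgk : ∀ e, (g : Matrix (Fin 4) (Fin 4) F) *ᵥ ((k : Matrix (Fin 4) (Fin 4) F) *ᵥ e) =
      (u : Matrix (Fin 4) (Fin 4) F) *ᵥ ((g : Matrix (Fin 4) (Fin 4) F) *ᵥ e) := fun e => by
    rw [hkd, gl_mul_mulVec, gl_mul_mulVec, gl_mulVec_inv]
  -- a rational vector off the hyperplane of any non-zero vector
  have hsee : ∀ q, q ≠ 0 → ∃ e, Rat F₀ e ∧ f ((g : Matrix (Fin 4) (Fin 4) F) *ᵥ e) q ≠ 0 := by
    intro q hq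
    obtain ⟨⟨z, hz⟩, -⟩ := hf.nondegenerate q hq
    by_contra hall
    push Not at hall
    apply hz
    rw [← gl_mulVec_inv g z, S.coord E (((g⁻¹ : GL (Fin 4) F) : Matrix (Fin 4) (Fin 4) F) *ᵥ z)]
    simp only [mulVec_add, mulVec_smul, hf.add_left, hf.smul_left, hall _ E.rw', hall _ E.rv, hall _ E.rr,
      hall _ E.rs', mul_zero, add_zero]
  have hwne := S.w_ne E
  obtain ⟨e₁, he₁, hA⟩ := hsee E.w hwne
  have hstep : ∀ e, (g : Matrix (Fin 4) (Fin 4) F) *ᵥ ((k : Matrix (Fin 4) (Fin 4) F) *ᵥ e - e) =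
      f ((g : Matrix (Fin 4) (Fin 4) F) *ᵥ e) E.w • y + (-(f ((g : Matrix (Fin 4) (Fin 4) F) *ᵥ e) y) +
        -(f y y) / 2 * f ((g : Matrix (Fin 4) (Fin 4) F) *ᵥ e) E.w) • E.w := fun e => by
    rw [mulVec_sub, hgk, huS]; module
  by_cases hyy : f y y = 0
  swap
  · obtain ⟨R, hR⟩ : ∃ R, R = (k : Matrix (Fin 4) (Fin 4) F) *ᵥ ((k : Matrix (Fin 4) (Fin 4) F) *ᵥ e₁ - e₁) -
      ((k : Matrix (Fin 4) (Fin 4) F) *ᵥ e₁ - e₁) := ⟨_, rfl⟩
    have hRr : Rat F₀ R := hR ▸ (hkr _ ((hkr _ he₁).sub he₁)).sub ((hkr _ he₁).sub he₁)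
    have hgR : (g : Matrix (Fin 4) (Fin 4) F) *ᵥ R =
        (-(f ((g : Matrix (Fin 4) (Fin 4) F) *ᵥ e₁) E.w * f y y)) • E.w := by
      rw [hR, hstep, hstep]
      simp only [hf.add_left, hf.smul_left, E.ww, hy.2.1, swap_eq_zero hf hy.2.1, mul_zero, add_zero]
      module
    have hc0 : -(f ((g : Matrix (Fin 4) (Fin 4) F) *ᵥ e₁) E.w * f y y) ≠ 0 := neg_ne_zero.2 (mul_ne_zero hA hyy)
    refine S.point_rat hG hg hRr (fun e => ?_) ?_ (inv_ne_zero hc0) (by rw [hgR, inv_smul_smul₀ hc0]; exact E.rw')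
    · rw [e, mulVec_zero, eq_comm, smul_eq_zero] at hgR
      exact hgR.elim hc0 hwne
    · rw [← S.iso g hg, hgR, hf.smul_left, smul_right hf, E.ww, mul_zero, mul_zero]
  -- singular directions
  have hyn : y ∉ Submodule.span F (Set.range ![E.w]) := by
    rw [show Set.range ![E.w] = {E.w} by simp [Matrix.range_cons]]
    intro hm
    obtain ⟨c, hc⟩ := Submodule.mem_span_singleton.1 hm
    have := hy.2.2
    rw [← hc, hf.smul_left, E.wv, mul_one] at this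
    exact hy0 (by rw [← hc, this, zero_smul])
  obtain ⟨A1, hA1⟩ : ∃ A, A = f ((g : Matrix (Fin 4) (Fin 4) F) *ᵥ e₁) E.w := ⟨_, rfl⟩
  obtain ⟨B1, hB1⟩ : ∃ B, B = f ((g : Matrix (Fin 4) (Fin 4) F) *ᵥ e₁) y := ⟨_, rfl⟩
  have hA10 : A1 ≠ 0 := hA1 ▸ hA
  obtain ⟨e₂, he₂, hind⟩ := hsee (σ A1 • y + (-σ B1) • E.w) (fun e => hA10 (σ.injective (by
    rw [map_zero]
    by_contra hne
    exact hyn (by
      rw [show Set.range ![E.w] = {E.w} by simp [Matrix.range_cons]]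
      exact Submodule.mem_span_singleton.2 ⟨(σ A1)⁻¹ * σ B1, by
        rw [mul_smul, show σ B1 • E.w = σ A1 • y by rw [← sub_eq_zero, ← neg_eq_zero, neg_sub]; rw [neg_smul] at e; rw [← e]; module,
          inv_smul_smul₀ hne]⟩))))
  obtain ⟨A2, hA2⟩ : ∃ A, A = f ((g : Matrix (Fin 4) (Fin 4) F) *ᵥ e₂) E.w := ⟨_, rfl⟩
  obtain ⟨B2, hB2⟩ : ∃ B, B = f ((g : Matrix (Fin 4) (Fin 4) F) *ᵥ e₂) y := ⟨_, rfl⟩
  rw [add_right hf, smul_right hf, smul_right hf, map_neg, hf.involutive, hf.involutive, ← hA2, ← hB2] at hind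
  obtain ⟨n₁, hn₁⟩ : ∃ n, n = (k : Matrix (Fin 4) (Fin 4) F) *ᵥ e₁ - e₁ := ⟨_, rfl⟩
  obtain ⟨n₂, hn₂⟩ : ∃ n, n = (k : Matrix (Fin 4) (Fin 4) F) *ᵥ e₂ - e₂ := ⟨_, rfl⟩
  have hg₁ : (g : Matrix (Fin 4) (Fin 4) F) *ᵥ n₁ = A1 • y + (-B1) • E.w := by
    rw [hn₁, hstep, hyy, ← hA1, ← hB1]; module
  have hg₂ : (g : Matrix (Fin 4) (Fin 4) F) *ᵥ n₂ = A2 • y + (-B2) • E.w := by
    rw [hn₂, hstep, hyy, ← hA2, ← hB2]; module
  have hn₁r : Rat F₀ n₁ := hn₁ ▸ (hkr _ he₁).sub he₁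
  have hn₂r : Rat F₀ n₂ := hn₂ ▸ (hkr _ he₂).sub he₂
  have horth : ∀ a b c d : F, f (a • y + b • E.w) (c • y + d • E.w) = 0 := fun a b c d => by
    simp [hf.add_left, add_right hf, hf.smul_left, smul_right hf, hyy, hy.2.1, swap_eq_zero hf hy.2.1, E.ww]
  have hn11 : f n₁ n₁ = 0 := by rw [← S.iso g hg, hg₁, horth]
  have hn21 : f n₂ n₁ = 0 := by rw [← S.iso g hg, hg₁, hg₂, horth]
  have hn22 : f n₂ n₂ = 0 := by rw [← S.iso g hg, hg₂, horth]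
  obtain ⟨X, hX, hXS, -, -⟩ := S.exists_unip hn₁r hn₂r hn11 hn21
  obtain ⟨D, hD⟩ : ∃ D, D = σ A1 * A2 - σ A2 * A1 := ⟨_, rfl⟩
  obtain ⟨B, hB⟩ : ∃ B, B = σ A1 * (-B2) - σ A2 * (-B1) := ⟨_, rfl⟩
  obtain ⟨A, hA'⟩ : ∃ A, A = σ (-B1) * (-B2) - σ (-B2) * (-B1) := ⟨_, rfl⟩
  obtain ⟨G, hGd⟩ : ∃ G, G = g * X * g⁻¹ := ⟨_, rfl⟩
  have hGM : G ∈ M := hGd ▸ M.mul_mem (M.mul_mem hg hX) (M.inv_mem hg)
  have hGu : ∀ z, (G : Matrix (Fin 4) (Fin 4) F) *ᵥ z =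
      z + (A * f z E.w + B * f z y) • E.w + (-σ B * f z E.w + D * f z y) • y := by
    intro z
    have e1 := S.iso g hg (((g⁻¹ : GL (Fin 4) F) : Matrix (Fin 4) (Fin 4) F) *ᵥ z) n₁
    have e2 := S.iso g hg (((g⁻¹ : GL (Fin 4) F) : Matrix (Fin 4) (Fin 4) F) *ᵥ z) n₂
    rw [gl_mulVec_inv, hg₁] at e1
    rw [gl_mulVec_inv, hg₂] at e2
    rw [hGd, gl_mul_mulVec, gl_mul_mulVec, hXS, hn22, mulVec_add, mulVec_sub, mulVec_add, mulVec_smul, mulVec_smul,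
      mulVec_smul, gl_mulVec_inv, hg₁, hg₂, ← e1, ← e2, hA', hB, hD]
    simp only [add_right hf, smul_right hf, map_sub, map_mul, map_neg, hf.involutive]
    module
  -- shear
  obtain ⟨r₂, hr₂, hr₂o, hr₂y⟩ := S.sep ![E.w] (fun i => by fin_cases i; exact E.rw') hy.1 hyn
  have hr₂w : f r₂ E.w = 0 := hr₂o 0
  obtain ⟨h, hh, hhS, -, -⟩ := S.exists_unip E.rw' (rat_neg hr₂) E.ww
    (by rw [← neg_one_smul F r₂, hf.smul_left, hr₂w, mul_zero])
  have hhw : (h : Matrix (Fin 4) (Fin 4) F) *ᵥ E.w = E.w := by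
    rw [hhS, E.ww, ← neg_one_smul F r₂, smul_right hf, swap_eq_zero hf hr₂w]; simp
  have hhy : (h : Matrix (Fin 4) (Fin 4) F) *ᵥ y = y + E.w := by
    rw [hhS, hy.2.1, ← neg_one_smul F r₂, smul_right hf, S.comm hy.1 hr₂, hr₂y]; simp
  have hsh : IsS f E.w (D • y) (B - σ B + D) (h * G * h⁻¹ * G⁻¹) := by
    intro z
    obtain ⟨z', hz'⟩ : ∃ z', z' = ((G⁻¹ : GL (Fin 4) F) : Matrix (Fin 4) (Fin 4) F) *ᵥ z := ⟨_, rfl⟩
    have hGz : (G : Matrix (Fin 4) (Fin 4) F) *ᵥ z' = z := by rw [hz', gl_mulVec_inv]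
    obtain ⟨z'', hz''⟩ : ∃ z'', z'' = ((h⁻¹ : GL (Fin 4) F) : Matrix (Fin 4) (Fin 4) F) *ᵥ z' := ⟨_, rfl⟩
    have hhz : (h : Matrix (Fin 4) (Fin 4) F) *ᵥ z'' = z' := by rw [hz'', gl_mulVec_inv]
    rw [gl_mul_mulVec, gl_mul_mulVec, gl_mul_mulVec, ← hz', ← hz'', hGu, mulVec_add, mulVec_add, mulVec_smul,
      mulVec_smul, hhw, hhy, hhz]
    have e1 : f z'' E.w = f z' E.w := by rw [← hhz]; conv_rhs => rw [← hhw]; rw [S.iso h hh]
    have e2 : f z'' y = f z' y + f z' E.w := by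
      rw [← S.iso h hh z'' y, hhy, hhz, add_right hf]
    rw [← hGz, hGu z', e1, e2]
    simp only [hf.add_left, hf.smul_left, smul_right hf, E.ww, hyy, hy.2.1, swap_eq_zero hf hy.2.1, mul_zero, add_zero]
    rw [hD, map_sub, map_mul, map_mul, hf.involutive, hf.involutive]
    module
  have hDy := S.prod_rat hG (M.mul_mem (M.mul_mem (M.mul_mem hh hGM) (M.inv_mem hh)) (M.inv_mem hGM)) hsh E.rw'
    hwne E.ww (by rw [hf.smul_left, hy.2.1, mul_zero]) hr₂ hr₂w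
  rw [hf.smul_left, S.comm hy.1 hr₂, hr₂y, mul_one] at hDy
  have hD0 : D = 0 := by
    have e := S.sig hDy
    rw [hD, map_sub, map_mul, map_mul, hf.involutive, hf.involutive] at e
    have e' : 2 * D = 0 := by rw [hD]; linear_combination -e
    exact (mul_eq_zero.1 e').resolve_left h2
  obtain ⟨τ, hτ⟩ : ∃ τ, τ = A2 / A1 := ⟨_, rfl⟩
  have hσA1 : σ A1 ≠ 0 := by simpa using hA10
  have hτm : τ ∈ F₀ := (S.fix _).1 (by
    rw [hτ, map_div₀, div_eq_div_iff hσA1 hA10]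
    rw [hD] at hD0
    linear_combination -hD0)
  have hg₃ : (g : Matrix (Fin 4) (Fin 4) F) *ᵥ (n₂ - τ • n₁) = (τ * B1 - B2) • E.w := by
    rw [mulVec_sub, mulVec_smul, hg₁, hg₂, hτ]
    match_scalars <;> (field_simp; ring)
  have hc0 : τ * B1 - B2 ≠ 0 := fun e => hind (by
    rw [hτ, div_mul_eq_mul_div, sub_eq_zero, div_eq_iff hA10] at e
    linear_combination -e)
  refine S.point_rat hG hg (hn₂r.sub (hn₁r.smul hτm)) (fun e => ?_) ?_ (inv_ne_zero hc0)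
    (by rw [hg₃, inv_smul_smul₀ hc0]; exact E.rw')
  · rw [e, mulVec_zero, eq_comm, smul_eq_zero] at hg₃
    exact hg₃.elim hc0 hwne
  · rw [← S.iso g hg, hg₃, hf.smul_left, smul_right hf, E.ww, mul_zero, mul_zero]

end Sym4

end Cfsg.Agent.Lib.SUFour96.OrthType
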