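import Cfsg.Agent.Lib.SUFour96.Ctx

/-!
Subfield of index two with an alternating rational form: the rational points or everything.
-/

set_option autoImplicit false

namespace Cfsg.Agent.Lib.SUFour96

open Matrix Cfsg.Agent.Lib.Subspaces.Transvection Cfsg.Agent.Lib.Subspaces.FormVec
  Cfsg.Agent.Lib.SubfieldMax.Linear Cfsg.Agent.Lib.SubfieldMax.RatLin
  Cfsg.Agent.Lib.SubfieldMax.Form Cfsg.Agent.Lib.SubfieldMax.SkewBasic

variable {F : Type*} [Field F]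
variable {F₀ : Subfield F} {σ : F ≃+* F} {f : (Fin 4 → F) → (Fin 4 → F) → F}
  {M : Subgroup (GL (Fin 4) F)}

namespace Ctx

variable (S : Ctx F₀ σ f M) (hfix : ∀ x, σ x = x ↔ x ∈ F₀) (halt : ∀ v, Rat F₀ v → f v v = 0)
include S hfix halt

/-- Moving one rational vector to another, fixing orthogonal ones. -/
theorem move [Finite F] {k : ℕ} (φ : Fin k → Fin 4 → F) (hφ : ∀ i, Rat F₀ (φ i))
    {x y : Fin 4 → F} (hx : Rat F₀ x) (hy : Rat F₀ y) (hxn : x ∉ Submodule.span F (Set.range φ))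
    (hyn : y ∉ Submodule.span F (Set.range φ)) (hxo : ∀ i, f x (φ i) = 0) (hyo : ∀ i, f y (φ i) = 0) :
    ∃ g ∈ M, (g : Matrix (Fin 4) (Fin 4) F) *ᵥ x = y ∧ (∀ i, (g : Matrix (Fin 4) (Fin 4) F) *ᵥ φ i = φ i) ∧
      ∀ u, Rat F₀ u → Rat F₀ ((g : Matrix (Fin 4) (Fin 4) F) *ᵥ u) := by
  have hf := S.form
  have step : ∀ u v : Fin 4 → F, Rat F₀ u → Rat F₀ v → f u v ≠ 0 → (∀ i, f u (φ i) = 0) → (∀ i, f v (φ i) = 0) →
      ∃ g ∈ M, (g : Matrix (Fin 4) (Fin 4) F) *ᵥ u = v ∧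
        (∀ i, (g : Matrix (Fin 4) (Fin 4) F) *ᵥ φ i = φ i) ∧
        ∀ w, Rat F₀ w → Rat F₀ ((g : Matrix (Fin 4) (Fin 4) F) *ᵥ w) := by
    intro u v hu hv huv huo hvo
    have hd := hv.sub hu
    have hdd : f (v - u) (v - u) = 0 := halt _ hd
    have hc : (f u v)⁻¹ ∈ F₀ := inv_mem (S.rat u v hu hv)
    have hsub : ∀ w, f w (v - u) = f w v - f w u := fun w => by
      rw [sub_eq_add_neg, hf.add_right, hf.neg_right, ← sub_eq_add_neg]
    refine ⟨_, S.hT _ hd hdd _ hc ((hfix _).2 hc), ?_, fun i => ?_, fun w hw => ?_⟩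
    · rw [hf.ut_mulVec hdd, hsub, halt u hu, sub_zero, inv_mul_cancel₀ huv, one_smul, add_sub_cancel]
    · rw [hf.ut_mulVec hdd, hsub, hf.swap_eq_zero (hvo i), hf.swap_eq_zero (huo i), sub_zero, mul_zero,
        zero_smul, add_zero]
    · rw [hf.ut_mulVec hdd]
      exact rat_add hw (hd.smul (mul_mem hc (S.rat _ _ hw hd)))
  have dual : ∀ u : Fin 4 → F, Rat F₀ u → u ∉ Submodule.span F (Set.range φ) →
      ∃ z, Rat F₀ z ∧ (∀ i, f z (φ i) = 0) ∧ f u z ≠ 0 := by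
    intro u hu hun
    obtain ⟨χ, hχ, hχφ, hχu⟩ := exists_sep φ hφ hu hun
    obtain ⟨z, hz, rfl⟩ := exists_rat_formVec hf.hl hf.add_right hf.nondegenerate S.rat hχ
    exact ⟨z, hz, fun i => hf.swap_eq_zero (by rw [← hf.fv_dot]; exact hχφ i),
      by rw [← hf.fv_dot, hχu]; exact one_ne_zero⟩
  obtain ⟨z, hz, hzo, hxz, hzy⟩ : ∃ z, Rat F₀ z ∧ (∀ i, f z (φ i) = 0) ∧ f x z ≠ 0 ∧ f z y ≠ 0 := by
    obtain ⟨z₁, h₁, h₁o, h₁x⟩ := dual x hx hxn
    obtain ⟨z₂, h₂, h₂o, h₂y⟩ := dual y hy hyn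
    by_cases a : f z₁ y = 0
    · by_cases b : f x z₂ = 0
      · refine ⟨z₁ + z₂, rat_add h₁ h₂, fun i => by rw [hf.add_left, h₁o, h₂o, add_zero], ?_, ?_⟩
        · rwa [hf.add_right, b, add_zero]
        · rw [hf.add_left, a, zero_add]; exact fun h => h₂y (hf.swap_eq_zero h)
      · exact ⟨z₂, h₂, h₂o, b, fun h => h₂y (hf.swap_eq_zero h)⟩
    · exact ⟨z₁, h₁, h₁o, h₁x, a⟩
  obtain ⟨g, hg, hgx, hgφ, hgR⟩ := step x z hx hz hxz hxo hzo
  obtain ⟨g', hg', hgz, hgφ', hgR'⟩ := step z y hz hy hzy hzo hyo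
  refine ⟨g' * g, M.mul_mem hg' hg, by rw [gl_mul_mulVec, hgx, hgz], fun i => ?_, fun u hu => ?_⟩
  · rw [gl_mul_mulVec, hgφ, hgφ']
  · rw [gl_mul_mulVec]; exact hgR' _ (hgR u hu)

/-- Rational points or everything. -/
theorem symp_type [Finite F] {θ : F} (hθ : ∀ x : F, ∃ a ∈ F₀, ∃ b ∈ F₀, x = a + θ * b)
    (hθσ : σ θ ≠ θ) : (∀ g ∈ M, RatUpTo F₀ g) ∨ ∀ v, f v v = 0 → Full σ f M v := by
  have hf := S.form
  by_cases hall : ∀ g ∈ M, ∀ v, Rat F₀ v → f v v = 0 → v ≠ 0 →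
      ∃ l : F, l ≠ 0 ∧ Rat F₀ (l • ((g : Matrix (Fin 4) (Fin 4) F) *ᵥ v))
  · exact Or.inl fun g hg => S.toSpace.ratUpTo_of_points (hall g hg)
  right
  push Not at hall
  obtain ⟨g, hg, p, hp, hpp, -, hirr⟩ := hall
  have hRFull : ∀ v, Rat F₀ v → Full σ f M v := fun v hv =>
    ⟨halt v hv, fun c hc => S.hT v hv (halt v hv) c ((hfix c).1 hc) hc⟩
  have ha : Full σ f M ((g : Matrix (Fin 4) (Fin 4) F) *ᵥ p) := (hRFull p hp).conj hf hg (S.iso g hg)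
  -- the rational line of an irrational point
  have hsplit : ∀ v : Fin 4 → F, f v v = 0 → (∀ l : F, l ≠ 0 → ¬ Rat F₀ (l • v)) →
      ∃ u w, Rat F₀ u ∧ Rat F₀ w ∧ u ≠ 0 ∧ w ∉ Submodule.span F {u} ∧ f u w = 0 ∧ v = u + θ • w := by
    intro v hv hnr
    choose a ha b hb hab using fun i => hθ (v i)
    have hv' : v = a + θ • b := funext fun i => by simp [hab i]
    have ha0 : a ≠ 0 := fun e => by
      rcases eq_or_ne θ 0 with h0 | h0
      · exact hnr 1 one_ne_zero (by rw [hv', e, h0]; simp; exact fun _ => zero_mem _)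
      · exact hnr θ⁻¹ (inv_ne_zero h0) (by rw [hv', e, zero_add, inv_smul_smul₀ h0]; exact hb)
    refine ⟨a, b, ha, hb, ha0, fun hm => ?_, ?_, hv'⟩
    · obtain ⟨d, hd⟩ := Submodule.mem_span_singleton.1 hm
      rw [← hd, smul_smul] at hv'
      have hv'' : v = (1 + θ * d) • a := by rw [hv', add_smul, one_smul]
      rcases eq_or_ne (1 + θ * d) 0 with h0 | h0
      · exact hnr 1 one_ne_zero (by rw [hv'', h0]; simp; exact fun _ => zero_mem _)
      · exact hnr _ (inv_ne_zero h0) (by rw [hv'', inv_smul_smul₀ h0]; exact ha)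
    · rw [hv'] at hv
      simp only [hf.add_left, hf.add_right, hf.smul_left, hf.smul_right, halt a ha, halt b hb] at hv
      rw [hf.skew b a, (hfix _).2 (S.rat a b ha hb)] at hv
      exact (mul_eq_zero.1 (show (σ θ - θ) * f a b = 0 by linear_combination hv)).resolve_left
        (sub_ne_zero.2 hθσ)
  obtain ⟨u, w, hu, hw, hu0, hwn, huw, hgp⟩ := hsplit _ ha.1 hirr
  intro v hv
  rcases eq_or_ne v 0 with rfl | -
  · exact ⟨hv, fun c _ => by rw [tv_zero_left]; exact M.one_mem⟩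
  by_cases hr : ∃ l : F, l ≠ 0 ∧ Rat F₀ (l • v)
  · obtain ⟨l, hl, hlr⟩ := hr
    have := (hRFull _ hlr).smul hf l⁻¹
    rwa [inv_smul_smul₀ hl] at this
  push Not at hr
  obtain ⟨u', w', hu', hw', hu0', hwn', huw', hv'⟩ := hsplit v hv hr
  have hrange : ∀ a : Fin 4 → F, Set.range ![a] = {a} := fun a => by simp [Matrix.range_cons]
  obtain ⟨g₁, hg₁, hg₁u, -, hR₁⟩ := S.move hfix halt (k := 0) ![] (fun i => i.elim0) hu hu'
    (by simpa using hu0) (by simpa using hu0') (fun i => i.elim0) (fun i => i.elim0)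
  obtain ⟨g₂, hg₂, hg₂w, hg₂u, -⟩ := S.move hfix halt (k := 1) ![u'] (fun i => by fin_cases i; exact hu')
    (hR₁ w hw) hw'
    (by
      rw [hrange]
      intro hm
      obtain ⟨d, hd⟩ := Submodule.mem_span_singleton.1 hm
      refine hwn (Submodule.mem_span_singleton.2 ⟨d, gl_mulVec_injective g₁ ?_⟩)
      show (g₁ : Matrix (Fin 4) (Fin 4) F) *ᵥ _ = (g₁ : Matrix (Fin 4) (Fin 4) F) *ᵥ _
      rw [mulVec_smul, hg₁u, hd])
    (by rwa [hrange])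
    (fun i => by fin_cases i; simpa [← hg₁u, S.iso g₁ hg₁] using hf.swap_eq_zero huw)
    (fun i => by fin_cases i; exact hf.swap_eq_zero huw')
  have h := (ha.conj hf hg₁ (S.iso g₁ hg₁)).conj hf hg₂ (S.iso g₂ hg₂)
  have hfu : (g₂ : Matrix (Fin 4) (Fin 4) F) *ᵥ u' = u' := hg₂u 0
  rwa [hgp, mulVec_add, mulVec_smul, hg₁u, mulVec_add, mulVec_smul, hg₂w, hfu, ← hv'] at h

end Ctx

end Cfsg.Agent.Lib.SUFour96
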